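import Groth.Agent.L28.HensModel.Gens
import Groth.Agent.L09.RInvHerm
import Mathlib.Algebra.CharP.Two

/-!
Ordinary quadratic forms in an odd number of variables in characteristic two.
-/

set_option autoImplicit false
set_option linter.style.haveILetI false

noncomputable section

namespace Groth.L28.HensModel

universe u

variable {N : ℕ}

theorem polarMatrix_symm {R : Type u} [CommRing R] (a : Fin N → Fin N → R) (i j : Fin N) :
    VanCyc.polarMatrix a j i = VanCyc.polarMatrix a i j := by
  rcases lt_trichotomy i j with h | rfl | h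
  · simp [VanCyc.polarMatrix, h.ne, h.ne', h, not_lt.2 h.le]
  · rfl
  · simp [VanCyc.polarMatrix, h.ne, h.ne', h, not_lt.2 h.le]

theorem map_quadEvalK {R S : Type u} [CommRing R] [CommRing S] (f : R →+* S) (a : Fin N → Fin N → R)
    (v : Fin N → R) : f (VanCyc.quadEval a v) = VanCyc.quadEval (fun i j => f (a i j)) fun i => f (v i) := by
  simp only [VanCyc.quadEval, map_sum]
  refine Finset.sum_congr rfl fun i _ => Finset.sum_congr rfl fun j _ => ?_
  split_ifs <;> simp

theorem quadEval_smul_add {R : Type u} [CommRing R] (a : Fin N → Fin N → R) (s : R) (w u : Fin N → R)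
    (hw : (VanCyc.polarMatrix a).mulVec w = 0) :
    VanCyc.quadEval a (s • w + u) = s ^ 2 * VanCyc.quadEval a w + VanCyc.quadEval a u := by
  rw [quadEval_add]
  have h1 : VanCyc.quadEval a (s • w) = s ^ 2 * VanCyc.quadEval a w := by
    simp only [VanCyc.quadEval, Finset.mul_sum, Pi.smul_apply, smul_eq_mul]
    refine Finset.sum_congr rfl fun i _ => Finset.sum_congr rfl fun j _ => ?_
    split_ifs <;> ring
  have h2 : ∑ p, ∑ q, (s • w) p * VanCyc.polarMatrix a p q * u q = 0 := by
    rw [Finset.sum_comm]
    refine Finset.sum_eq_zero fun q _ => ?_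
    have hq := congrFun hw q
    rw [Matrix.mulVec, dotProduct] at hq
    calc ∑ p, (s • w) p * VanCyc.polarMatrix a p q * u q
        = (∑ p, VanCyc.polarMatrix a q p * w p) * (s * u q) := by
          rw [Finset.sum_mul]
          refine Finset.sum_congr rfl fun p _ => ?_
          rw [polarMatrix_symm a q p, Pi.smul_apply, smul_eq_mul]
          ring
      _ = 0 := by rw [hq]; simp
  rw [h1, h2, add_zero]

theorem det_polarMatrix_eq_zero {R : Type u} [CommRing R] (h2 : (2 : R) = 0) (hN : Odd N)
    (a : Fin N → Fin N → R) : (VanCyc.polarMatrix a).det = 0 := by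
  refine Groth.L09.RInvHerm.det_alternating hN _ (fun i j => ?_) fun i => by simp [VanCyc.polarMatrix, h2]
  rw [polarMatrix_symm]
  linear_combination VanCyc.polarMatrix a i j * h2

/-- Ordinarity is preserved by equivalence of forms. -/
theorem quadOrd_congr {F : Type u} [Field F] (t a : Fin N → Fin N → F) (T : Matrix (Fin N) (Fin N) F) (c : F)
    (hc : c ≠ 0) (hT : IsUnit T.det) (h : ∀ v, VanCyc.quadEval t v = c * VanCyc.quadEval a (T.mulVec v))
    (ha : VanCyc.QuadOrd a) : VanCyc.QuadOrd t := fun v hv hPv => by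
  have hinj : Function.Injective T.transpose.mulVec :=
    Matrix.mulVec_injective_iff_isUnit.2 ((Matrix.isUnit_iff_isUnit_det _).2 (by rwa [Matrix.det_transpose]))
  have hinjT : Function.Injective T.mulVec :=
    Matrix.mulVec_injective_iff_isUnit.2 ((Matrix.isUnit_iff_isUnit_det _).2 hT)
  rw [h v, mul_eq_zero] at hv
  rw [polar_congr t a T c h, Matrix.smul_mulVec, smul_eq_zero] at hPv
  have hP := hPv.resolve_left hc
  rw [← Matrix.mulVec_mulVec, ← Matrix.mulVec_mulVec] at hP
  have h3 := ha _ (hv.resolve_left hc) (hinj (by rw [hP, Matrix.mulVec_zero]))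
  exact hinjT (by rw [h3, Matrix.mulVec_zero])

/-- In characteristic two an ordinary form in `n + 1` variables, `n` even, is a square plus a non-degenerate form. -/
theorem exists_split {k : Type u} [Field k] [CharP k 2] {n : ℕ} (hn : Even n) (K : Type u) [Field K]
    [IsAlgClosed K] [Algebra k K] (a₀ : Fin (n + 1) → Fin (n + 1) → k)
    (hord : VanCyc.QuadOrd fun i j => algebraMap k K (a₀ i j)) :
    ∃ (T : Matrix (Fin (n + 1)) (Fin (n + 1)) k) (q : k) (a' : Fin n → Fin n → k),
      IsUnit T.det ∧ q ≠ 0 ∧ VanCyc.QuadNondeg a' ∧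
      ∀ (R : Type u) [CommRing R] [Algebra k R] (v : Fin (n + 1) → R),
        VanCyc.quadEval (fun i j => algebraMap k R (a₀ i j)) ((T.map (algebraMap k R)).mulVec v) =
          algebraMap k R q * (v 0 ^ 2 + VanCyc.quadEval (fun i j => algebraMap k R (a' i j)) (fun l => v l.succ)) := by
  classical
  have h2k : (2 : k) = 0 := CharTwo.two_eq_zero
  set P := VanCyc.polarMatrix a₀ with hP
  obtain ⟨w, hw0, hw⟩ := Matrix.exists_mulVec_eq_zero_iff.2 (det_polarMatrix_eq_zero h2k hn.add_one a₀)
  let ι := algebraMap k K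
  have hPK : VanCyc.polarMatrix (fun i j => ι (a₀ i j)) = P.map ι := (map_polarMatrix ι a₀).symm
  set q := VanCyc.quadEval a₀ w with hq_def
  have hq : q ≠ 0 := fun h0 => hw0 (by
    have h1 := hord (fun i => ι (w i)) (by rw [← map_quadEvalK ι a₀ w, ← hq_def, h0, map_zero])
      (by
        rw [hPK]
        funext i
        rw [← Function.comp_def ι w, ← RingHom.map_mulVec, hP, hw]
        exact map_zero ι)
    exact funext fun i => ι.injective ((congrFun h1 i).trans (map_zero ι).symm))
  obtain ⟨i₀, hi₀⟩ : ∃ i, w i ≠ 0 := not_forall.1 fun h => hw0 (funext h)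
  let σ : Fin n → Fin (n + 1) := i₀.succAbove
  have hσmono : StrictMono σ := Fin.strictMono_succAbove i₀
  let T : Matrix (Fin (n + 1)) (Fin (n + 1)) k := fun i j =>
    Fin.cases (w i) (fun l => if σ l = i then 1 else 0) j
  let a'' : Fin n → Fin n → k := fun l l' => a₀ (σ l) (σ l')
  have hQu : ∀ (R : Type u) [CommRing R] (f : k →+* R) (v : Fin n → R),
      VanCyc.quadEval (fun i j => f (a₀ i j)) (i₀.insertNth 0 v) = VanCyc.quadEval (fun i j => f (a'' i j)) v := by
    intro R _ f v
    simp only [VanCyc.quadEval]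
    rw [Fin.sum_univ_succAbove _ i₀]
    simp only [Fin.insertNth_apply_same, mul_zero, zero_mul, ite_self, Finset.sum_const_zero, zero_add]
    refine Finset.sum_congr rfl fun l _ => ?_
    rw [Fin.sum_univ_succAbove _ i₀]
    simp only [Fin.insertNth_apply_same, mul_zero, ite_self, zero_add, Fin.insertNth_apply_succAbove]
    refine Finset.sum_congr rfl fun l' _ => ?_
    exact if_congr hσmono.le_iff_le rfl rfl
  have hTv : ∀ (R : Type u) [CommRing R] (f : k →+* R) (v : Fin (n + 1) → R),
      (T.map f).mulVec v = v 0 • (fun i => f (w i)) + i₀.insertNth 0 fun l => v l.succ := by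
    intro R _ f v
    funext i
    have hT0 : ∀ i, T i 0 = w i := fun _ => rfl
    have hTs : ∀ i l, T i l.succ = if σ l = i then 1 else 0 := fun _ _ => rfl
    simp only [Matrix.mulVec, dotProduct, Matrix.map_apply, Fin.sum_univ_succ, hT0, hTs,
      Pi.add_apply, Pi.smul_apply, smul_eq_mul, apply_ite f, map_one, map_zero, ite_mul, one_mul, zero_mul]
    rw [mul_comm (v 0)]
    refine congrArg _ ?_
    rcases Fin.eq_self_or_eq_succAbove i₀ i with rfl | ⟨l, rfl⟩
    · rw [Fin.insertNth_apply_same]
      exact Finset.sum_eq_zero fun l _ => if_neg (Fin.succAbove_ne _ l)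
    · rw [Fin.insertNth_apply_succAbove, Finset.sum_eq_single l
        (fun b _ hb => if_neg fun hh => hb (Fin.succAbove_right_injective hh))
        (fun h => absurd (Finset.mem_univ l) h), if_pos rfl]
  have hT : IsUnit T.det := by
    rw [← Matrix.isUnit_iff_isUnit_det, ← Matrix.mulVec_injective_iff_isUnit]
    refine (injective_iff_map_eq_zero' (T.mulVecLin)).2 (fun v => ⟨fun hv => ?_, fun hv => by simp [hv]⟩)
    have h1 : (T.map (RingHom.id k)).mulVec v = 0 := by
      rw [show T.map (RingHom.id k) = T from rfl]; exact hv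
    rw [hTv] at h1
    have h00 := congrFun h1 i₀
    simp only [Pi.add_apply, Pi.smul_apply, smul_eq_mul, Fin.insertNth_apply_same, add_zero, RingHom.id_apply,
      Pi.zero_apply, mul_eq_zero, hi₀, or_false] at h00
    funext i
    refine Fin.cases h00 (fun l => ?_) i
    have hl := congrFun h1 (i₀.succAbove l)
    simpa [h00] using hl
  have hwR : ∀ (R : Type u) [CommRing R] (f : k →+* R),
      (VanCyc.polarMatrix fun i j => f (a₀ i j)).mulVec (fun i => f (w i)) = 0 := fun R _ f => by
    funext i
    rw [← map_polarMatrix, RingHom.mapMatrix_apply, ← Function.comp_def f w, ← RingHom.map_mulVec, hw]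
    exact map_zero f
  let a' : Fin n → Fin n → k := fun l l' => q⁻¹ * a'' l l'
  have hP'' : ∀ l l', VanCyc.polarMatrix a'' l l' = P (σ l) (σ l') := fun l l' => by
    simp only [VanCyc.polarMatrix, hP, hσmono.injective.eq_iff, hσmono.lt_iff_lt, a'']
  have hnd'' : IsUnit (VanCyc.polarMatrix a'').det := by
    rw [isUnit_iff_ne_zero]
    intro h0
    obtain ⟨v', hv0, hv'⟩ := Matrix.exists_mulVec_eq_zero_iff.2 h0
    set u : Fin (n + 1) → k := i₀.insertNth 0 v' with hu
    have hPu : ∀ i, (P.mulVec u) i = 0 := by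
      have h1 : ∀ l, (P.mulVec u) (σ l) = 0 := fun l => by
        rw [← show (VanCyc.polarMatrix a'').mulVec v' l = 0 by rw [hv']; rfl]
        simp only [Matrix.mulVec, dotProduct, hP'']
        rw [Fin.sum_univ_succAbove _ i₀]
        simp only [hu, Fin.insertNth_apply_same, mul_zero, zero_add, Fin.insertNth_apply_succAbove]
        rfl
      have h3 : ∑ p, w p * (P.mulVec u) p = 0 := by
        simp only [Matrix.mulVec, dotProduct, Finset.mul_sum]
        rw [Finset.sum_comm]
        refine Finset.sum_eq_zero fun r _ => ?_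
        have hr := congrFun hw r
        simp only [Matrix.mulVec, dotProduct, Pi.zero_apply] at hr
        calc ∑ p, w p * (P p r * u r) = (∑ p, P r p * w p) * u r := by
              rw [Finset.sum_mul]
              exact Finset.sum_congr rfl fun p _ => by rw [hP, polarMatrix_symm a₀ r p]; ring
          _ = 0 := by rw [hr, zero_mul]
      rw [Fin.sum_univ_succAbove _ i₀] at h3
      simp only [show ∀ l, (P.mulVec u) (i₀.succAbove l) = 0 from h1, mul_zero, Finset.sum_const_zero, add_zero,
        mul_eq_zero, hi₀, false_or] at h3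
      intro i
      rcases Fin.eq_self_or_eq_succAbove i₀ i with rfl | ⟨l, rfl⟩
      · exact h3
      · exact h1 l
    obtain ⟨t, ht⟩ := IsAlgClosed.exists_pow_nat_eq (ι q) (n := 2) two_pos
    obtain ⟨s, hs⟩ := IsAlgClosed.exists_pow_nat_eq (ι (VanCyc.quadEval a₀ u)) (n := 2) two_pos
    have ht0 : t ≠ 0 := fun h => hq ((map_eq_zero ι).1 (by rw [← ht, h]; simp))
    have h2K : (2 : K) = 0 := by rw [← map_ofNat ι 2, h2k, map_zero]
    have hz := hord (s • (fun i => ι (w i)) + fun i => t * ι (u i)) ?_ ?_
    · have hz0 := congrFun hz i₀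
      simp only [Pi.add_apply, Pi.smul_apply, smul_eq_mul, hu, Fin.insertNth_apply_same, map_zero, mul_zero, add_zero,
        Pi.zero_apply, mul_eq_zero, map_eq_zero, hi₀, or_false] at hz0
      refine hv0 (funext fun l => ?_)
      have hzl := congrFun hz (i₀.succAbove l)
      simpa [hz0, ht0, hu] using hzl
    · rw [quadEval_smul_add _ _ _ _ (hwR K ι)]
      have h4 : VanCyc.quadEval (fun i j => ι (a₀ i j)) (fun i => t * ι (u i)) = t ^ 2 * ι (VanCyc.quadEval a₀ u) := by
        rw [map_quadEvalK]
        simp only [VanCyc.quadEval, Finset.mul_sum]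
        refine Finset.sum_congr rfl fun i _ => Finset.sum_congr rfl fun j _ => ?_
        split_ifs <;> ring
      rw [h4, ← map_quadEvalK, ← hq_def, hs, ht]
      linear_combination ι q * ι (VanCyc.quadEval a₀ u) * h2K
    · rw [Matrix.mulVec_add, Matrix.mulVec_smul, hwR K ι, smul_zero, zero_add,
        show (fun i => t * ι (u i)) = t • (fun i => ι (u i)) from rfl, Matrix.mulVec_smul, hPK]
      funext i
      rw [Pi.smul_apply, ← Function.comp_def ι u, ← RingHom.map_mulVec, hPu, map_zero, smul_zero]
      rfl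
  have hnd : VanCyc.QuadNondeg a' := by
    show IsUnit (VanCyc.polarMatrix a').det
    have e : VanCyc.polarMatrix a' = q⁻¹ • VanCyc.polarMatrix a'' := by
      ext i j
      simp only [VanCyc.polarMatrix, Matrix.smul_apply, smul_eq_mul, a']
      split_ifs <;> ring
    rw [e, Matrix.det_smul]
    exact (IsUnit.pow _ (isUnit_iff_ne_zero.2 (inv_ne_zero hq))).mul hnd''
  refine ⟨T, q, a', hT, hq, hnd, fun R _ _ v => ?_⟩
  rw [hTv, quadEval_smul_add _ _ _ _ (hwR R (algebraMap k R)), hQu, ← map_quadEvalK, ← hq_def, mul_add, mul_comm]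
  congr 1
  simp only [VanCyc.quadEval, Finset.mul_sum, a']
  refine Finset.sum_congr rfl fun i _ => Finset.sum_congr rfl fun j _ => ?_
  split_ifs
  · rw [map_mul, ← mul_assoc (algebraMap k R q), ← mul_assoc (algebraMap k R q), ← mul_assoc (algebraMap k R q),
      ← map_mul, mul_inv_cancel₀ hq, map_one, one_mul]
  · simp

end Groth.L28.HensModel
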