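import Groth.Agent.L05.Henselization.AtPrime
import Groth.Agent.L05.Henselization.Local
import Groth.Agent.L05.Henselization.Noeth
import Groth.Agent.L05.Hensel.Newton
import Groth.Agent.L05.Hensel.Perm
import Groth.Agent.L13.LocalPair.Hens
import Mathlib.RingTheory.Unramified.LocalStructure
import Mathlib.RingTheory.DualNumber
import Mathlib.Algebra.MvPolynomial.CommRing
import Mathlib.RingTheory.MvPolynomial.Ideal

/-!
The henselization of affine space at the origin of the closed fibre.
-/

set_option autoImplicit false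
set_option linter.style.haveILetI false

noncomputable section

open IsLocalRing

namespace Groth.L28.HensModel

universe u

variable {A : Type u} [CommRing A] {H : Type u} [CommRing H] [IsLocalRing H] [Algebra A H] {N : ℕ}

/-- An element given by a simple root: `h · d(ζ) = P(ζ)`, `g(ζ) = 0`, `g'(ζ)` and `d(ζ)` units. -/
def Rep (x : Fin N → H) (h : H) : Prop :=
  ∃ (g d P : Polynomial (MvPolynomial (Fin N) A)) (ζ : H),
    g.eval₂ (MvPolynomial.aeval (R := A) x).toRingHom ζ = 0 ∧
    IsUnit (g.derivative.eval₂ (MvPolynomial.aeval (R := A) x).toRingHom ζ) ∧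
    IsUnit (d.eval₂ (MvPolynomial.aeval (R := A) x).toRingHom ζ) ∧
    h * d.eval₂ (MvPolynomial.aeval (R := A) x).toRingHom ζ = P.eval₂ (MvPolynomial.aeval (R := A) x).toRingHom ζ

/-- `H` with the coordinates `x` is the henselization of `A[x₁, …, x_N]` at the origin. -/
structure IsAffHens (A : Type u) [CommRing A] (H : Type u) [CommRing H] [IsLocalRing H] [Algebra A H]
    {N : ℕ} (x : Fin N → H) : Prop where
  henselian : HenselianLocalRing H
  isLocalHom : IsLocalHom (algebraMap A H)
  mem : ∀ i, x i ∈ maximalIdeal H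
  univ : ∀ (T : Type u) [CommRing T] [HenselianLocalRing T] [Algebra A T] [IsLocalHom (algebraMap A T)]
    (y : Fin N → T), (∀ i, y i ∈ maximalIdeal T) → ∃! g : H →ₐ[A] T, ∀ i, g (x i) = y i
  rep : ∀ h : H, Rep (A := A) x h

section construction

open MvPolynomial

variable (A) [IsLocalRing A] (N)

/-- The ideal of the origin of the closed fibre. -/
abbrev origin : Ideal (MvPolynomial (Fin N) A) :=
  (maximalIdeal A).comap (constantCoeff (R := A) (σ := Fin N))

theorem exists_isAffHens : ∃ (H : Type u) (_ : CommRing H) (_ : IsLocalRing H) (_ : Algebra A H)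
    (x : Fin N → H), IsAffHens A H x ∧ (IsNoetherianRing A → IsNoetherianRing H) := by
  let R := MvPolynomial (Fin N) A
  haveI : (origin A N).IsPrime := Ideal.IsPrime.comap _
  let S := Localization.AtPrime (origin A N)
  obtain ⟨Hh, _, _, _, _, hH⟩ := Groth.L05.Henselization.exists_isHenselization S
  letI : Algebra R Hh := ((algebraMap S Hh).comp (algebraMap R S)).toAlgebra
  haveI : IsScalarTower R S Hh := IsScalarTower.of_algebraMap_eq' rfl
  letI : Algebra A Hh := ((algebraMap R Hh).comp MvPolynomial.C).toAlgebra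
  haveI : IsScalarTower A R Hh := IsScalarTower.of_algebraMap_eq fun a => rfl
  let x : Fin N → Hh := fun i => algebraMap R Hh (X i)
  have haeval : (aeval (R := A) x).toRingHom = algebraMap R Hh := by
    refine MvPolynomial.ringHom_ext (fun a => ?_) fun i => ?_
    · simp [RingHom.algebraMap_toAlgebra]
    · simp [x]
  have horigin : ∀ p : R, p ∈ origin A N ↔ constantCoeff p ∈ maximalIdeal A := fun p => Iff.rfl
  have hmax : ∀ p : R, p ∈ origin A N → algebraMap R Hh p ∈ maximalIdeal Hh := by
    intro p hp hu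
    exact (IsLocalization.AtPrime.to_map_mem_maximal_iff S (origin A N) p).2 hp
      ((isUnit_map_iff (algebraMap S Hh) _).1 hu)
  refine ⟨Hh, inferInstance, inferInstance, inferInstance, x, ⟨hH.henselian, ⟨fun a ha => ?_⟩,
    fun i => hmax _ (by simp [horigin]), fun T _ _ _ _ y hy => ?_, fun h => ?_⟩, fun _ =>
      (Groth.L05.Henselization.isNoetherianRing_iff_hens S Hh).1
        (IsLocalization.isNoetherianRing (origin A N).primeCompl S inferInstance)⟩
  · by_contra hn
    exact hmax (C a) (by simpa [horigin] using hn) ha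
  · have hdiff : ∀ p : R, aeval (R := A) y p - algebraMap A T (constantCoeff p) ∈ maximalIdeal T := by
      intro p
      induction p using MvPolynomial.induction_on with
      | C a => simp
      | add p q hp hq => rw [map_add, map_add, map_add, add_sub_add_comm]; exact add_mem hp hq
      | mul_X p i hp =>
        simp only [map_mul, aeval_X, constantCoeff_X, mul_zero, map_zero, sub_zero]
        exact Ideal.mul_mem_left _ _ (hy i)
    have hu : ∀ p : (origin A N).primeCompl, IsUnit (aeval (R := A) y (p : R)) := by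
      rintro ⟨p, hp⟩
      have h0 : IsUnit (algebraMap A T (constantCoeff p)) :=
        (IsLocalRing.notMem_maximalIdeal.1 hp).map _
      exact IsLocalRing.notMem_maximalIdeal.1 fun hm =>
        IsLocalRing.notMem_maximalIdeal.2 h0 (by simpa using sub_mem hm (hdiff p))
    let f : S →+* T := IsLocalization.lift (M := (origin A N).primeCompl) hu
    have hf : ∀ p : R, f (algebraMap R S p) = aeval (R := A) y p := fun p => IsLocalization.lift_eq _ p
    haveI : IsLocalHom f := ((IsLocalRing.local_hom_TFAE f).out 0 2 rfl rfl).mpr (by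
      rw [← Localization.AtPrime.map_eq_maximalIdeal, Ideal.map_map, Ideal.map_le_iff_le_comap]
      intro p hp
      rw [Ideal.mem_comap, RingHom.comp_apply, hf]
      intro hu'
      have h0 : algebraMap A T (constantCoeff p) ∈ maximalIdeal T :=
        fun hu'' => hp ((isUnit_map_iff (algebraMap A T) _).1 hu'')
      exact IsLocalRing.notMem_maximalIdeal.2 hu' (by simpa using add_mem (hdiff p) h0))
    obtain ⟨g, hg, huniq⟩ := hH.universal T f inferInstance
    have hgp : ∀ p : R, g (algebraMap R Hh p) = aeval (R := A) y p := fun p =>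
      (RingHom.congr_fun hg _).trans (hf p)
    let g' : Hh →ₐ[A] T := { g with commutes' := fun a => (hgp (C a)).trans (by simp) }
    refine ⟨g', fun i => (hgp (X i)).trans (by simp), fun g₂ hg₂ => AlgHom.ext fun z => ?_⟩
    refine RingHom.congr_fun (huniq g₂.toRingHom (IsLocalization.ringHom_ext (origin A N).primeCompl
      (MvPolynomial.ringHom_ext (fun a => ?_) fun i => ?_))) z
    · show g₂ (algebraMap A Hh a) = f (algebraMap R S (C a))
      rw [g₂.commutes, hf]
      simp
    · show g₂ (x i) = f (algebraMap R S (X i))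
      rw [hg₂, hf, aeval_X]
  · obtain ⟨σ, hσ, -, hel, -⟩ := Groth.L05.Henselization.prime_henselization_colimit (origin A N) Hh
    obtain ⟨X₀, φ, s, hφ, rfl⟩ := hel h
    let q : Ideal X₀.R := (maximalIdeal Hh).comap φ.toRingHom
    haveI : q.IsPrime := Ideal.IsPrime.comap _
    obtain ⟨w, hwq, hw⟩ := Algebra.IsEtaleAt.exists_isStandardEtale (R := R) (S := X₀.R) q
    have hwu : IsUnit (φ w) := IsLocalRing.notMem_maximalIdeal.1 hwq
    let φ' : Localization.Away w →ₐ[R] Hh := IsLocalization.Away.liftAlgHom w hwu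
    have hφ' : φ' (algebraMap X₀.R _ s) = φ s := Groth.L05.awayLift_algebraMap w φ hwu s
    obtain ⟨⟨Pp, t, ht, hbij⟩⟩ := hw.nonempty_standardEtalePresentation
    let ψ : Pp.Ring →ₐ[R] Hh := φ'.comp (Pp.lift t ht)
    obtain ⟨z, hz⟩ := hbij.2 (algebraMap X₀.R _ s)
    have hzh : ψ z = φ s := by
      show φ' (Pp.lift t ht z) = _
      rw [hz, hφ']
    set ζ := ψ Pp.X with hζ
    have hmap : Pp.HasMap ζ := StandardEtalePair.hasMap_X.map ψ
    have key : ∀ z : Pp.Ring, ∃ (m : ℕ) (Q : Polynomial R),
        ψ z * Polynomial.aeval ζ Pp.g ^ m = Polynomial.aeval ζ Q := by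
      intro z
      let mk : Polynomial (Polynomial R) →+* Pp.Ring :=
        (Ideal.Quotient.mkₐ R (Ideal.span {Polynomial.C Pp.f, Polynomial.X * Polynomial.C Pp.g - 1})).toRingHom
      obtain ⟨Q, rfl⟩ : ∃ Q, mk Q = z := Ideal.Quotient.mk_surjective z
      have hX : ∀ c : Polynomial R, Polynomial.aeval Pp.X c = mk (Polynomial.C c) := fun c => by
        induction c using Polynomial.induction_on' with
        | add p q hp hq => rw [map_add, hp, hq, Polynomial.C_add, map_add]
        | monomial i r =>
          rw [Polynomial.aeval_monomial, ← Polynomial.C_mul_X_pow_eq_monomial, Polynomial.C_mul, Polynomial.C_pow,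
            map_mul, map_pow]
          rfl
      have hY : Polynomial.aeval Pp.X Pp.g * mk Polynomial.X = 1 := Pp.aeval_X_g_mul_mk_X
      induction Q using Polynomial.induction_on' with
      | add p q hp hq =>
        obtain ⟨m, P₁, h₁⟩ := hp
        obtain ⟨m', P₂, h₂⟩ := hq
        refine ⟨m + m', P₁ * Pp.g ^ m' + P₂ * Pp.g ^ m, ?_⟩
        simp only [map_add, map_mul, map_pow, ← h₁, ← h₂]
        ring
      | monomial n c =>
        refine ⟨n, c, ?_⟩
        have hm : mk (Polynomial.monomial n c) = Polynomial.aeval Pp.X c * mk Polynomial.X ^ n := by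
          rw [hX, ← map_pow, ← map_mul, Polynomial.C_mul_X_pow_eq_monomial]
        have hA : Polynomial.aeval ζ c = ψ (Polynomial.aeval Pp.X c) := Polynomial.aeval_algHom_apply ψ Pp.X c
        have hG : Polynomial.aeval ζ Pp.g = ψ (Polynomial.aeval Pp.X Pp.g) := Polynomial.aeval_algHom_apply ψ Pp.X Pp.g
        rw [hA, hG, ← map_pow, ← map_mul, hm, mul_assoc, ← mul_pow, mul_comm (mk _), hY, one_pow, mul_one]
    obtain ⟨m, Q, hQ⟩ := key z
    refine ⟨Pp.f, Pp.g ^ m, Q, ζ, ?_, ?_, ?_, ?_⟩ <;> rw [haeval, ← Polynomial.aeval_def]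
    · exact hmap.1
    · exact hmap.isUnit_derivative_f
    · rw [map_pow]; exact hmap.2.pow m
    · rw [← Polynomial.aeval_def, map_pow, ← hzh]; exact hQ

end construction

namespace IsAffHens

variable {x : Fin N → H} (hH : IsAffHens A H x)
variable {T : Type u} [CommRing T] [HenselianLocalRing T] [Algebra A T] [IsLocalHom (algebraMap A T)]

/-- The map with prescribed values on the coordinates. -/
def lift (y : Fin N → T) (hy : ∀ i, y i ∈ maximalIdeal T) : H →ₐ[A] T := (hH.univ T y hy).choose

theorem lift_x (y : Fin N → T) (hy : ∀ i, y i ∈ maximalIdeal T) (i : Fin N) :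
    hH.lift y hy (x i) = y i := (hH.univ T y hy).choose_spec.1 i

include hH in
theorem hom_ext {f g : H →ₐ[A] T} (hf : ∀ i, f (x i) ∈ maximalIdeal T) (h : ∀ i, f (x i) = g (x i)) :
    f = g :=
  (hH.univ T (fun i => f (x i)) hf).unique (fun _ => rfl) fun i => (h i).symm

include hH in
/-- An endomorphism moving the coordinates inside an ideal moves everything inside it. -/
theorem map_sub_mem (I : Ideal H) (hI : I ≠ ⊤) (e : H →ₐ[A] H) (he : ∀ i, e (x i) - x i ∈ I) (h : H) :
    e h - h ∈ I := by
  haveI := hH.henselian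
  haveI := hH.isLocalHom
  haveI : Nontrivial (H ⧸ I) := Ideal.Quotient.nontrivial_iff.2 hI
  haveI : IsLocalRing (H ⧸ I) := .of_surjective' (Ideal.Quotient.mk I) Ideal.Quotient.mk_surjective
  haveI : HenselianLocalRing (H ⧸ I) := Groth.L13.LocalPair.henselian_quotient I
  haveI : IsLocalHom (Ideal.Quotient.mk I) := IsLocalHom.of_surjective _ Ideal.Quotient.mk_surjective
  haveI : IsLocalHom (algebraMap A (H ⧸ I)) :=
    RingHom.isLocalHom_comp (Ideal.Quotient.mk I) (algebraMap A H)
  have hx : ∀ i, Ideal.Quotient.mk I (e (x i)) = Ideal.Quotient.mk I (x i) := fun i => Ideal.Quotient.eq.2 (he i)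
  have : (Ideal.Quotient.mkₐ A I).comp e = Ideal.Quotient.mkₐ A I := by
    refine hH.hom_ext (fun i => ?_) hx
    rw [show (Ideal.Quotient.mkₐ A I).comp e (x i) = Ideal.Quotient.mk I (x i) from hx i]
    exact fun hu => hH.mem i ((isUnit_map_iff (Ideal.Quotient.mk I) _).1 hu)
  exact Ideal.Quotient.eq.1 (AlgHom.congr_fun this h)

variable [HenselianLocalRing A]

/-- Evaluation at the origin. -/
def π : H →ₐ[A] A :=
  haveI : IsLocalHom (algebraMap A A) := by rw [Algebra.algebraMap_self]; infer_instance
  hH.lift 0 fun _ => zero_mem _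

theorem π_x (i : Fin N) : hH.π (x i) = 0 := hH.lift_x _ _ i

include hH in
theorem span_le_maximalIdeal : Ideal.span (Set.range x) ≤ maximalIdeal H :=
  Ideal.span_le.2 (Set.range_subset_iff.2 hH.mem)

theorem sub_π_mem (h : H) : h - algebraMap A H (hH.π h) ∈ Ideal.span (Set.range x) := by
  rw [← neg_sub]
  refine neg_mem (hH.map_sub_mem _ (ne_top_of_le_ne_top (maximalIdeal.isMaximal H).ne_top
    hH.span_le_maximalIdeal) ((Algebra.ofId A H).comp hH.π) (fun i => ?_) h)
  rw [AlgHom.comp_apply, π_x, map_zero, zero_sub]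
  exact neg_mem (Ideal.subset_span ⟨i, rfl⟩)

theorem exists_eq_add_sum (h : H) : ∃ g : Fin N → H, h = algebraMap A H (hH.π h) + ∑ i, x i * g i := by
  obtain ⟨c, hc⟩ := Ideal.mem_span_range_iff_exists_fun.1 (hH.sub_π_mem h)
  refine ⟨c, ?_⟩
  simp only [mul_comm (x _)]
  rw [hc]
  ring

theorem π_mem (h : H) (hh : h ∈ maximalIdeal H) : hH.π h ∈ maximalIdeal A := by
  intro hu
  have := sub_mem hh (hH.span_le_maximalIdeal (hH.sub_π_mem h))
  rw [sub_sub_cancel] at this
  exact this (hu.map _)

include hH in
theorem maximalIdeal_le : maximalIdeal H ≤ (maximalIdeal A).map (algebraMap A H) ⊔ Ideal.span (Set.range x) := by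
  intro h hh
  rw [← add_sub_cancel (algebraMap A H (hH.π h)) h]
  exact add_mem (Ideal.mem_sup_left (Ideal.mem_map_of_mem _ (hH.π_mem h hh))) (Ideal.mem_sup_right (hH.sub_π_mem h))

include hH in
theorem map_mem (g : H →ₐ[A] T) (hg : ∀ i, g (x i) ∈ maximalIdeal T) {h : H} (hh : h ∈ maximalIdeal H) :
    g h ∈ maximalIdeal T := by
  have hle : (maximalIdeal A).map (algebraMap A H) ⊔ Ideal.span (Set.range x) ≤ (maximalIdeal T).comap g := by
    refine sup_le (Ideal.map_le_iff_le_comap.2 fun a ha => ?_) (Ideal.span_le.2 (Set.range_subset_iff.2 hg))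
    show g (algebraMap A H a) ∈ maximalIdeal T
    rw [g.commutes]
    exact fun hu => ha ((isUnit_map_iff (algebraMap A T) a).1 hu)
  exact hle (hH.maximalIdeal_le hh)

end IsAffHens

end Groth.L28.HensModel
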