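import Groth.Agent.L28.HensModel.Basic
import Mathlib.LinearAlgebra.Matrix.ToLin
import Mathlib.LinearAlgebra.Matrix.NonsingularInverse
import Mathlib.Algebra.MvPolynomial.PDeriv
import Mathlib.Algebra.TrivSqZeroExt.Basic

/-!
The inverse function theorem on the henselization of affine space.
-/

set_option autoImplicit false
set_option linter.style.haveILetI false
set_option maxHeartbeats 1000000

noncomputable section

open IsLocalRing MvPolynomial

namespace Groth.L28.HensModel

universe u

/-- Evaluation at an infinitesimally moved point. -/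
theorem eval₂_dual {T k : Type*} [CommRing T] [CommRing k] (r : T →+* k) {σ : Type*} [Fintype σ]
    (a : σ → T) (v : σ → k) (F : MvPolynomial σ T) :
    eval₂Hom ((TrivSqZeroExt.inlHom k k).comp r)
        (fun s => (TrivSqZeroExt.inl (r (a s)) + TrivSqZeroExt.inr (v s) : DualNumber k)) F =
      TrivSqZeroExt.inl (r (eval a F)) + TrivSqZeroExt.inr (∑ s, r (eval a (pderiv s F)) * v s) := by
  classical
  induction F using MvPolynomial.induction_on with
  | C c => ext <;> simp
  | add p q hp hq =>
    rw [map_add, hp, hq]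
    ext <;> simp [add_mul, Finset.sum_add_distrib]
  | mul_X p s hp =>
    rw [map_mul, hp, eval₂Hom_X']
    ext
    · simp
    · simp only [TrivSqZeroExt.snd_mul, TrivSqZeroExt.fst_add, TrivSqZeroExt.snd_add, TrivSqZeroExt.fst_inl,
        TrivSqZeroExt.fst_inr, TrivSqZeroExt.snd_inl, TrivSqZeroExt.snd_inr, zero_add, add_zero,
        MulOpposite.smul_eq_mul_unop, MulOpposite.unop_op, smul_eq_mul]
      simp only [pderiv_mul, pderiv_X, map_add, map_mul, eval_X, add_mul, Finset.sum_add_distrib,
        Pi.single_apply, apply_ite (eval a), map_one, map_zero, apply_ite r, mul_ite, ite_mul, mul_one,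
        mul_zero, zero_mul, Finset.sum_ite_eq, Finset.mem_univ, if_true, Finset.sum_mul]
      rw [add_comm (r (eval a p) * v s)]
      first
      | (refine congrArg₂ (· + ·) (Finset.sum_congr rfl fun x _ => ?_) ?_ <;> ring)
      | (rw [add_comm]; refine congrArg₂ (· + ·) ?_ (Finset.sum_congr rfl fun x _ => ?_) <;> ring)

theorem henselianLocalRing_dualNumber (k : Type u) [Field k] : HenselianLocalRing (DualNumber k) := by
  haveI : HenselianRing (DualNumber k) (maximalIdeal (DualNumber k)) :=
    Groth.L05.henselianRing_of_nil _ fun z hz => by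
      refine ⟨2, ?_⟩
      have h0 : TrivSqZeroExt.fst z = 0 := by
        by_contra h
        exact hz (TrivSqZeroExt.isUnit_iff_isUnit_fst.2 (isUnit_iff_ne_zero.2 h))
      rw [sq]
      ext <;> simp [h0]
  exact Groth.L05.henselianLocalRing_of_henselianRing

namespace IsAffHens

variable {A : Type u} [CommRing A] {H : Type u} [CommRing H] [IsLocalRing H] [Algebra A H] {N : ℕ}
variable {x : Fin N → H} (hH : IsAffHens A H x) [HenselianLocalRing A]

include hH in
/-- The inverse function theorem. -/
theorem existsUnique_solve (y : Fin N → H) (hy : ∀ i, y i ∈ maximalIdeal H) (J : Matrix (Fin N) (Fin N) A)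
    (hJ : IsUnit J.det)
    (hlin : ∀ i, y i - ∑ j, algebraMap A H (J i j) * x j ∈
      (maximalIdeal A).map (algebraMap A H) ⊔ Ideal.span (Set.range x) ^ 2)
    {T : Type u} [CommRing T] [HenselianLocalRing T] [Algebra A T] [IsLocalHom (algebraMap A T)]
    (t : Fin N → T) (ht : ∀ i, t i ∈ maximalIdeal T) :
    ∃! G : H →ₐ[A] T, (∀ i, G (x i) ∈ maximalIdeal T) ∧ ∀ i, G (y i) = t i := by
  classical
  choose g d P ζ hg hg' hd hP using fun i => hH.rep (y i)
  let R := MvPolynomial (Fin N) A
  let σ := Fin N ⊕ Fin N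
  let emb : R →ₐ[A] MvPolynomial σ T := aeval fun l => X (Sum.inl l)
  let e : Fin N → Polynomial R →+* MvPolynomial σ T := fun i => Polynomial.eval₂RingHom emb.toRingHom (X (Sum.inr i))
  let sys : σ → MvPolynomial σ T := Sum.elim (fun i => e i (d i) * C (t i) - e i (P i)) fun i => e i (g i)
  have he : ∀ {B : Type u} [CommRing B] [Algebra A B] (F : MvPolynomial σ T →+* B)
      (hF : ∀ a : A, F (C (algebraMap A T a)) = algebraMap A B a) (i : Fin N) (p : Polynomial R),
      F (e i p) = p.eval₂ (aeval (R := A) fun l => F (X (Sum.inl l))).toRingHom (F (X (Sum.inr i))) := by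
    intro B _ _ F hF i p
    simp only [e, Polynomial.coe_eval₂RingHom, Polynomial.hom_eval₂]
    congr 1
    refine MvPolynomial.ringHom_ext (fun a => ?_) fun l => ?_
    · show F (aeval (fun l => X (Sum.inl l)) (C a : R)) = aeval (fun l => F (X (Sum.inl l))) (C a : R)
      erw [aeval_C, aeval_C]
      rw [MvPolynomial.algebraMap_apply, hF]
    · show F (aeval (fun l => X (Sum.inl l)) (X l : R)) = aeval (fun l => F (X (Sum.inl l))) (X l : R)
      erw [aeval_X, aeval_X]
  have hG : ∀ {B : Type u} [CommRing B] [Algebra A B] (G : H →ₐ[A] B) (i : Fin N) (p : Polynomial R),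
      G (p.eval₂ (aeval (R := A) x).toRingHom (ζ i)) =
        p.eval₂ (aeval (R := A) fun l => G (x l)).toRingHom (G (ζ i)) := by
    intro B _ _ G i p
    refine (Polynomial.hom_eval₂ p _ G.toRingHom (ζ i)).trans ?_
    congr 1
    exact MvPolynomial.ringHom_ext (fun a => by simp) fun l => by simp
  have evalC : ∀ (a : σ → T) (c : A), eval a (C (algebraMap A T c)) = algebraMap A T c := fun a c => eval_C _
  let G₀ := hH.lift (fun _ => (0 : T)) fun _ => zero_mem _
  let a₀ : σ → T := Sum.elim (fun _ => 0) fun i => G₀ (ζ i)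
  -- maps to `T` are determined mod the maximal ideal
  have hres : ∀ G : H →ₐ[A] T, (∀ i, G (x i) ∈ maximalIdeal T) → ∀ h, G h - G₀ h ∈ maximalIdeal T := by
    intro G hGx h
    haveI : IsLocalHom (algebraMap A (ResidueField T)) := RingHom.isLocalHom_comp (residue T) (algebraMap A T)
    have hx0 : ∀ i, residue T (G (x i)) = 0 := fun i => (residue_eq_zero_iff _).2 (hGx i)
    have : (IsScalarTower.toAlgHom A T (ResidueField T)).comp G =
        (IsScalarTower.toAlgHom A T (ResidueField T)).comp G₀ := by
      refine hH.hom_ext (fun i => ?_) fun i => ?_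
      · show residue T (G (x i)) ∈ maximalIdeal (ResidueField T)
        rw [hx0]; exact zero_mem _
      · show residue T (G (x i)) = residue T (G₀ (x i))
        rw [hx0, hH.lift_x, map_zero]
    rw [← residue_eq_zero_iff, map_sub, sub_eq_zero]
    exact AlgHom.congr_fun this h
  -- a map with `G (y) = t` gives a zero of the system
  have hzero : ∀ G : H →ₐ[A] T, (∀ i, G (y i) = t i) →
      ∀ q, eval (Sum.elim (fun l => G (x l)) fun i => G (ζ i)) (sys q) = 0 := by
    intro G hGy q
    have hev : ∀ i p, eval (Sum.elim (fun l => G (x l)) fun i => G (ζ i)) (e i p) =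
        G (p.eval₂ (aeval (R := A) x).toRingHom (ζ i)) := fun i p => by
      rw [hG, he (eval _) (evalC _)]
      simp
    rcases q with i | i
    · simp only [sys, Sum.elim_inl, map_sub, map_mul, eval_C, hev, ← hP, hGy]
      ring
    · simp only [sys, Sum.elim_inr, hev, hg, map_zero]
  have h0 : ∀ q, eval a₀ (sys q) ∈ maximalIdeal T := by
    intro q
    have hev : ∀ i p, eval a₀ (e i p) = G₀ (p.eval₂ (aeval (R := A) x).toRingHom (ζ i)) := fun i p => by
      rw [hG, he (eval _) (evalC _)]
      simp [a₀, G₀, hH.lift_x]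
    rcases q with i | i
    · simp only [sys, Sum.elim_inl, map_sub, map_mul, eval_C, hev, ← hP]
      exact sub_mem (Ideal.mul_mem_left _ _ (ht i))
        (Ideal.mul_mem_right _ _ (hH.map_mem G₀ (fun l => by rw [hH.lift_x]; exact zero_mem _) (hy i)))
    · simp only [sys, Sum.elim_inr, hev, hg, map_zero, zero_mem]
  -- the Jacobian
  have hdet : IsUnit (Ideal.Quotient.mk (maximalIdeal T)
      (eval a₀ (Matrix.of fun s q => pderiv s (sys q)).det)) := by
    let k := ResidueField T
    let r : T →+* k := residue T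
    show IsUnit (r (eval a₀ _))
    rw [RingHom.map_det, RingHom.map_det, ← Matrix.det_transpose]
    set M := ((r.mapMatrix ((eval a₀).mapMatrix (Matrix.of fun s q => pderiv s (sys q))))).transpose with hM
    rw [← Matrix.isUnit_iff_isUnit_det, ← Matrix.mulVec_injective_iff_isUnit]
    refine (injective_iff_map_eq_zero (Matrix.mulVecLin M)).2 fun v hv => ?_
    haveI : HenselianLocalRing (DualNumber k) := henselianLocalRing_dualNumber k
    letI : Algebra A (DualNumber k) := ((TrivSqZeroExt.inlHom k k).comp (algebraMap A k)).toAlgebra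
    haveI : IsLocalHom (algebraMap A (DualNumber k)) := ⟨fun c hc => by
      have h1 : IsUnit (algebraMap A k c) := by
        simpa [RingHom.algebraMap_toAlgebra] using TrivSqZeroExt.isUnit_iff_isUnit_fst.1 hc
      exact (isUnit_map_iff (algebraMap A T) c).1 ((isUnit_map_iff (residue T) _).1 h1)⟩
    let Φ : MvPolynomial σ T →+* DualNumber k :=
      eval₂Hom ((TrivSqZeroExt.inlHom k k).comp r) fun s => TrivSqZeroExt.inl (r (a₀ s)) + TrivSqZeroExt.inr (v s)
    have hΦ : ∀ q, Φ (sys q) = 0 := fun q => by
      have h1 : r (eval a₀ (sys q)) = 0 := (residue_eq_zero_iff _).2 (h0 q)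
      have h2 : ∑ s, r (eval a₀ (pderiv s (sys q))) * v s = 0 := congrFun hv q
      rw [eval₂_dual, h1, h2]
      simp
    have hΦC : ∀ c : A, Φ (C (algebraMap A T c)) = algebraMap A (DualNumber k) c := fun c => by
      simp [Φ, r, RingHom.algebraMap_toAlgebra, IsScalarTower.algebraMap_apply A T k]
      rfl
    have hnil : ∀ z : DualNumber k, TrivSqZeroExt.fst z = 0 → z ∈ maximalIdeal (DualNumber k) := fun z hz hu => by
      have := TrivSqZeroExt.isUnit_iff_isUnit_fst.1 hu
      rw [hz] at this
      exact not_isUnit_zero this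
    have hyx : ∀ l, Φ (X (Sum.inl l)) = TrivSqZeroExt.inr (v (Sum.inl l)) := fun l => by simp [Φ, a₀, r]
    let G := hH.lift (fun l => Φ (X (Sum.inl l))) fun l => hnil _ (by simp [hyx])
    let fstA : DualNumber k →ₐ[A] k := { TrivSqZeroExt.fstHom k k k with
      commutes' := fun c => by simp [RingHom.algebraMap_toAlgebra] }
    haveI : IsLocalHom (algebraMap A k) := RingHom.isLocalHom_comp (residue T) (algebraMap A T)
    have hfst : fstA.comp G = (IsScalarTower.toAlgHom A T k).comp G₀ := by
      refine hH.hom_ext (fun l => ?_) fun l => ?_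
      · show TrivSqZeroExt.fst (G (x l)) ∈ maximalIdeal k
        rw [hH.lift_x, hyx, TrivSqZeroExt.fst_inr]; exact zero_mem _
      · show TrivSqZeroExt.fst (G (x l)) = residue T (G₀ (x l))
        rw [hH.lift_x, hyx, TrivSqZeroExt.fst_inr, hH.lift_x, map_zero]
    have hev : ∀ i p, Φ (e i p) = p.eval₂ (aeval (R := A) fun l => G (x l)).toRingHom (Φ (X (Sum.inr i))) :=
      fun i p => by rw [he Φ hΦC]; simp only [G, hH.lift_x]
    have hroot : ∀ i, G (ζ i) = Φ (X (Sum.inr i)) := fun i => by
      refine IsLocalRing.eq_of_eval_eq_zero_of_not_isUnit_sub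
        (f := (g i).map (aeval (R := A) fun l => G (x l)).toRingHom) ?_ ?_ ?_ ?_
      · rw [Polynomial.eval_map, ← hG, hg, map_zero]
      · rw [Polynomial.eval_map, ← hev]; exact hΦ (Sum.inr i)
      · refine hnil _ ?_
        rw [TrivSqZeroExt.fst_sub, sub_eq_zero]
        exact (AlgHom.congr_fun hfst (ζ i)).trans (by simp [Φ, a₀, r, k])
      · rw [Polynomial.derivative_map, Polynomial.eval_map, ← hG]
        exact (hg' i).map G
    have hGy : ∀ i, G (y i) = 0 := fun i => by
      have h1 := hΦ (Sum.inl i)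
      simp only [sys, Sum.elim_inl, map_sub, map_mul, hev, ← hroot, ← hG] at h1
      have h2 : Φ (C (t i)) = 0 := by simp [Φ, r, (residue_eq_zero_iff _).2 (ht i)]
      rw [h2, mul_zero, zero_sub, neg_eq_zero, ← hP, map_mul] at h1
      exact ((hd i).map G).mul_left_eq_zero.1 h1
    have hker : (maximalIdeal A).map (algebraMap A H) ⊔ Ideal.span (Set.range x) ^ 2 ≤ RingHom.ker G.toRingHom := by
      refine sup_le (Ideal.map_le_iff_le_comap.2 fun c hc => ?_) ?_
      · show G (algebraMap A H c) = 0
        rw [G.commutes]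
        have : algebraMap A T c ∈ maximalIdeal T := fun hu => hc ((isUnit_map_iff (algebraMap A T) _).1 hu)
        simp [RingHom.algebraMap_toAlgebra, IsScalarTower.algebraMap_apply A T k, k, (residue_eq_zero_iff _).2 this]
      · rw [sq, Ideal.span_mul_span']
        refine Ideal.span_le.2 ?_
        rintro _ ⟨_, ⟨p, rfl⟩, _, ⟨q, rfl⟩, rfl⟩
        show G (x p * x q) = 0
        rw [map_mul, hH.lift_x, hH.lift_x, hyx, hyx, TrivSqZeroExt.inr_mul_inr]
    have hv1 : ∀ l, v (Sum.inl l) = 0 := by
      have hJv : ((algebraMap A k).mapMatrix J).mulVec (fun l => v (Sum.inl l)) = 0 := funext fun i => by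
        have h1 : G (y i - ∑ j, algebraMap A H (J i j) * x j) = 0 := hker (hlin i)
        rw [map_sub, hGy, zero_sub, neg_eq_zero, map_sum] at h1
        have h2 := congrArg TrivSqZeroExt.snd h1
        rw [TrivSqZeroExt.snd_sum, TrivSqZeroExt.snd_zero] at h2
        rw [Pi.zero_apply, ← h2]
        simp only [Matrix.mulVec, dotProduct]
        refine Finset.sum_congr rfl fun j _ => ?_
        rw [map_mul, G.commutes, hH.lift_x, hyx]
        simp [RingHom.algebraMap_toAlgebra, IsScalarTower.algebraMap_apply A T k, k, mul_comm]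
      have hu : IsUnit ((algebraMap A k).mapMatrix J) := by
        rw [Matrix.isUnit_iff_isUnit_det, ← RingHom.map_det]
        exact hJ.map _
      exact fun l => congrFun (Matrix.mulVec_injective_of_isUnit hu (hJv.trans (Matrix.mulVec_zero _).symm)) l
    let inlA : k →ₐ[A] DualNumber k := { TrivSqZeroExt.inlHom k k with
      commutes' := fun c => by simp [RingHom.algebraMap_toAlgebra] }
    have hconst : G = inlA.comp (fstA.comp G) := by
      refine hH.hom_ext (fun l => hnil _ (by simp [G, hH.lift_x, hyx])) fun l => ?_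
      show G (x l) = TrivSqZeroExt.inl (TrivSqZeroExt.fst (G (x l)))
      rw [hH.lift_x, hyx, hv1]
      simp
    funext s
    rcases s with l | i
    · exact hv1 l
    · have h1 := congrArg TrivSqZeroExt.snd (hroot i)
      rw [hconst] at h1
      simpa [Φ, inlA, a₀] using h1.symm
  obtain ⟨b, hb, hb0⟩ := Groth.L05.exists_zero_of_jacobian (maximalIdeal T) sys a₀ h0 hdet
  have hb1 : ∀ l, b (Sum.inl l) ∈ maximalIdeal T := fun l => by simpa [a₀] using hb (Sum.inl l)
  let G := hH.lift (fun l => b (Sum.inl l)) hb1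
  have hGx : ∀ l, G (x l) ∈ maximalIdeal T := fun l => by rw [hH.lift_x]; exact hb1 l
  have hev : ∀ i p, eval b (e i p) = p.eval₂ (aeval (R := A) fun l => G (x l)).toRingHom (b (Sum.inr i)) := fun i p => by
    rw [he (eval b) (evalC b)]
    simp [G, hH.lift_x]
  have hroot : ∀ i, G (ζ i) = b (Sum.inr i) := fun i => by
    refine IsLocalRing.eq_of_eval_eq_zero_of_not_isUnit_sub
      (f := (g i).map (aeval (R := A) fun l => G (x l)).toRingHom) ?_ ?_ ?_ ?_
    · rw [Polynomial.eval_map, ← hG, hg, map_zero]
    · rw [Polynomial.eval_map, ← hev]; exact hb0 (Sum.inr i)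
    · exact (show G (ζ i) - b (Sum.inr i) ∈ maximalIdeal T by
        simpa [a₀] using sub_mem (hres G hGx (ζ i)) (hb (Sum.inr i)))
    · rw [Polynomial.derivative_map, Polynomial.eval_map, ← hG]
      exact (hg' i).map G
  have hGy : ∀ i, G (y i) = t i := fun i => by
    have h1 := hb0 (Sum.inl i)
    simp only [sys, Sum.elim_inl, map_sub, map_mul, eval_C, hev, ← hroot, ← hG, ← hP] at h1
    refine sub_eq_zero.1 (((hd i).map G).mul_left_eq_zero.1 ?_)
    linear_combination -h1
  refine ⟨G, ⟨hGx, hGy⟩, fun G' hG' => hH.hom_ext hG'.1 fun l => ?_⟩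
  have := Groth.L05.zero_unique_of_jacobian (maximalIdeal T) (jacobson_eq_maximalIdeal ⊥ bot_ne_top).ge sys a₀ hdet
    (Sum.elim (fun l => G' (x l)) fun i => G' (ζ i)) (Sum.elim (fun l => G (x l)) fun i => G (ζ i))
    (fun q => by rcases q with l | i <;> simp [a₀, hG'.1, hres G' hG'.1])
    (fun q => by rcases q with l | i <;> simp [a₀, hGx, hres G hGx])
    (hzero G' hG'.2) (hzero G hGy)
  exact congrFun this (Sum.inl l)

include hH in
/-- A change of coordinates with invertible linear part is an automorphism. -/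
theorem exists_algEquiv (y : Fin N → H) (hy : ∀ i, y i ∈ maximalIdeal H) (J : Matrix (Fin N) (Fin N) A)
    (hJ : IsUnit J.det)
    (hlin : ∀ i, y i - ∑ j, algebraMap A H (J i j) * x j ∈
      (maximalIdeal A).map (algebraMap A H) ⊔ Ideal.span (Set.range x) ^ 2) :
    ∃ ψ : H ≃ₐ[A] H, ∀ i, ψ (x i) = y i := by
  haveI := hH.henselian
  haveI := hH.isLocalHom
  let ψ := hH.lift y hy
  obtain ⟨φ, ⟨hφ, hφy⟩, -⟩ := hH.existsUnique_solve y hy J hJ hlin x hH.mem
  have h1 : φ.comp ψ = AlgHom.id A H := hH.hom_ext
    (fun i => by rw [AlgHom.comp_apply, hH.lift_x, hφy]; exact hH.mem i)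
    fun i => by rw [AlgHom.comp_apply, hH.lift_x, hφy]; rfl
  have h2 : ψ.comp φ = AlgHom.id A H :=
    (hH.existsUnique_solve y hy J hJ hlin y hy).unique
      ⟨fun i => hH.map_mem ψ (fun l => by rw [hH.lift_x]; exact hy l) (hφ i),
        fun i => by rw [AlgHom.comp_apply, hφy, hH.lift_x]⟩
      ⟨hH.mem, fun i => rfl⟩
  exact ⟨AlgEquiv.ofAlgHom ψ φ h2 h1, hH.lift_x y hy⟩

end IsAffHens

end Groth.L28.HensModel
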