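import Groth.Agent.L28.HensModel.Trunc
import Groth.Agent.L28.HensModel.Solve
import Groth.Agent.L28.HessCrit.Hess
import Groth.Prelude.Def_QuadSing

/-!
The Morse lemma on the henselization of affine space.
-/

set_option autoImplicit false
set_option linter.style.haveILetI false
set_option maxHeartbeats 1000000

noncomputable section

open IsLocalRing

namespace Groth.L28.HensModel

attribute [-simp] Fin.natAdd_eq_addNat

universe u

variable {A : Type u} [CommRing A] [HenselianLocalRing A] {H : Type u} [CommRing H] [IsLocalRing H]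
  [Algebra A H] {N : ℕ} {x : Fin N → H}

theorem quadEval_add {R : Type u} [CommRing R] (a : Fin N → Fin N → R) (v w : Fin N → R) :
    VanCyc.quadEval a (v + w) = VanCyc.quadEval a v +
      (∑ p, ∑ q, v p * VanCyc.polarMatrix a p q * w q) + VanCyc.quadEval a w := by
  rw [← Groth.L28.HessCrit.sum_polar a v w]
  simp only [VanCyc.quadEval, ← Finset.sum_add_distrib]
  refine Finset.sum_congr rfl fun p _ => Finset.sum_congr rfl fun q _ => ?_
  split_ifs
  · simp only [Pi.add_apply]; ring
  · ring

/-- The upper triangular table with the same quadratic form. -/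
def fold {R : Type*} [CommRing R] (h : Fin N → Fin N → R) : Fin N → Fin N → R :=
  fun i j => if i = j then h i i else if i < j then h i j + h j i else 0

theorem polar_fold {R : Type*} [CommRing R] (h : Fin N → Fin N → R) (i j : Fin N) :
    VanCyc.polarMatrix (fold h) i j = h i j + h j i := by
  rcases lt_trichotomy i j with hij | rfl | hij
  · simp [VanCyc.polarMatrix, fold, hij.ne, hij]
  · simp [VanCyc.polarMatrix, fold, two_mul]
  · simp [VanCyc.polarMatrix, fold, hij.ne', not_lt.2 hij.le, hij.ne, hij, add_comm]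

theorem sum_fold {R : Type u} [CommRing R] (h : Fin N → Fin N → R) (v : Fin N → R) :
    ∑ i, ∑ j, v i * v j * fold h i j = ∑ i, ∑ j, v i * v j * h i j := by
  have e : ∀ i j, v i * v j * fold h i j =
      (if i ≤ j then v i * v j * h i j else 0) + (if i < j then v i * v j * h j i else 0) := by
    intro i j
    rcases lt_trichotomy i j with hij | rfl | hij
    · simp [fold, hij.ne, hij, hij.le, mul_add]
    · simp [fold]
    · simp [fold, hij.ne', not_lt.2 hij.le, not_le.2 hij]
  simp only [e, Finset.sum_add_distrib]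
  rw [Finset.sum_comm (f := fun i j => if i < j then v i * v j * h j i else 0), ← Finset.sum_add_distrib]
  refine Finset.sum_congr rfl fun i _ => ?_
  rw [← Finset.sum_add_distrib]
  refine Finset.sum_congr rfl fun j _ => ?_
  rcases le_or_gt i j with hij | hij
  · simp [hij, not_lt.2 hij]
  · simp [not_le.2 hij, hij, mul_comm (v i)]

theorem quadEval_eq_sum {R : Type u} [CommRing R] (a : Fin N → Fin N → R) (v : Fin N → R) :
    VanCyc.quadEval a v = ∑ i, ∑ j, v i * v j * (if i ≤ j then a i j else 0) := by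
  refine Finset.sum_congr rfl fun i _ => Finset.sum_congr rfl fun j _ => ?_
  split_ifs <;> ring

theorem map_polarMatrix {R S : Type u} [CommRing R] [CommRing S] (φ : R →+* S) (a : Fin N → Fin N → R) :
    φ.mapMatrix (VanCyc.polarMatrix a) = VanCyc.polarMatrix fun i j => φ (a i j) := by
  ext i j
  simp only [RingHom.mapMatrix_apply, Matrix.map_apply, VanCyc.polarMatrix]
  split_ifs <;> simp [map_mul, map_ofNat]

namespace IsAffHens

variable (hH : IsAffHens A H x)

include hH in
theorem exists_expansion (f : H) : ∃ (l : Fin N → A) (h : Fin N → Fin N → H),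
    f = algebraMap A H (hH.π f) + ∑ i, algebraMap A H (l i) * x i + ∑ i, ∑ j, x i * x j * h i j := by
  obtain ⟨g, hg⟩ := hH.exists_eq_add_sum f
  choose h hh using fun i => hH.exists_eq_add_sum (g i)
  refine ⟨fun i => hH.π (g i), h, ?_⟩
  conv_lhs => rw [hg, Finset.sum_congr rfl fun i _ => congrArg (x i * ·) (hh i)]
  simp only [mul_add, Finset.mul_sum, Finset.sum_add_distrib, ← mul_assoc, mul_comm (x _) (algebraMap A H _),
    add_assoc]

include hH in
theorem span_sq_pow_le {j : ℕ} (hj : j ≤ 2) :
    (maximalIdeal A).map (algebraMap A H) ⊔ Ideal.span (Set.range x) ^ 3 ≤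
      (maximalIdeal A).map (algebraMap A H) ⊔ Ideal.span (Set.range x) ^ (j + 1) :=
  sup_le_sup le_rfl (Ideal.pow_le_pow_right (by omega))

include hH in
/-- The shape of a function with non-degenerate quadratic singularity. -/
theorem jets (f : H) (a : Fin N → Fin N → A)
    (hf : f - VanCyc.quadEval (fun i j => algebraMap A H (a i j)) x ∈
      (maximalIdeal A).map (algebraMap A H) ⊔ Ideal.span (Set.range x) ^ 3)
    (l : Fin N → A) (h : Fin N → Fin N → H)
    (he : f = algebraMap A H (hH.π f) + ∑ i, algebraMap A H (l i) * x i + ∑ i, ∑ j, x i * x j * h i j) :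
    hH.π f ∈ maximalIdeal A ∧ (∀ i, l i ∈ maximalIdeal A) ∧ ∀ p q,
      residue A (VanCyc.polarMatrix a p q) = residue A (hH.π (h p q)) + residue A (hH.π (h q p)) := by
  set e : Fin N → Fin N → H := fun i j => if i ≤ j then algebraMap A H (a i j) else 0 with hedef
  rw [quadEval_eq_sum] at hf
  have hb : hH.π f ∈ maximalIdeal A := by
    refine hH.π_mem f ?_
    haveI := hH.henselian
    have h1 : (maximalIdeal A).map (algebraMap A H) ⊔ Ideal.span (Set.range x) ^ 3 ≤ maximalIdeal H :=
      sup_le (((IsLocalRing.local_hom_TFAE (algebraMap A H)).out 0 2 rfl rfl).1 hH.isLocalHom)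
        ((Ideal.pow_le_self (by norm_num)).trans hH.span_le_maximalIdeal)
    have h2 : ∑ i, ∑ j, x i * x j * e i j ∈ maximalIdeal H :=
      sum_mem fun i _ => sum_mem fun j _ => Ideal.mul_mem_right _ _ (Ideal.mul_mem_right _ _ (hH.mem i))
    have h3 := add_mem (h1 hf) h2
    rwa [sub_add_cancel] at h3
  have hl : ∀ i, l i ∈ maximalIdeal A := by
    have h1 := (hH.trunc_eq_zero_iff 1 _).2 (hH.span_sq_pow_le (by norm_num) hf)
    have hquad : ∀ d : Fin N → Fin N → H, hH.trunc 1 (∑ i, ∑ j, x i * x j * d i j) = 0 := fun d => by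
      refine (hH.trunc_eq_zero_iff 1 _).2 (Ideal.mem_sup_right (sum_mem fun i _ => sum_mem fun j _ => ?_))
      rw [pow_two]
      exact Ideal.mul_mem_right _ _ (Ideal.mul_mem_mul (Ideal.subset_span ⟨i, rfl⟩) (Ideal.subset_span ⟨j, rfl⟩))
    rw [map_sub, hquad, sub_zero, he, map_add, map_add, hquad, add_zero, AlgHom.commutes,
      IsScalarTower.algebraMap_apply A (ResidueField A) (Tr (ResidueField A) N 2)] at h1
    rw [show algebraMap A (ResidueField A) (hH.π f) = 0 from (residue_eq_zero_iff _).2 hb, map_zero, zero_add,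
      map_sum] at h1
    simp only [trunc_algebraMap_mul, trunc_x] at h1
    rw [show ∑ i, algebraMap (ResidueField A) (Tr (ResidueField A) N 2) (residue A (l i)) * Ideal.Quotient.mk _ (MvPolynomial.X i) =
        Ideal.Quotient.mk _ (∑ i, MvPolynomial.C (residue A (l i)) * MvPolynomial.X i) by
      rw [map_sum]; refine Finset.sum_congr rfl fun i _ => ?_; rw [map_mul]; rfl, Ideal.Quotient.eq_zero_iff_mem,
      MvPolynomial.mem_pow_idealOfVars_iff'] at h1
    intro i
    have h2 := h1 (Finsupp.single i 1) (by simp)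
    simp only [MvPolynomial.coeff_sum, MvPolynomial.coeff_C_mul, MvPolynomial.coeff_X, Finsupp.single_eq_single_iff] at h2
    rw [Finset.sum_eq_single i (fun j _ hj => by simp [hj, Ne.symm hj]) (by simp)] at h2
    simpa [residue_eq_zero_iff] using h2
  refine ⟨hb, hl, fun p q => ?_⟩
  have h3 : ∑ i, ∑ j, x i * x j * h i j + ∑ i, algebraMap A H (l i) * x i - ∑ i, ∑ j, x i * x j * e i j ∈
      (maximalIdeal A).map (algebraMap A H) ⊔ Ideal.span (Set.range x) ^ 3 := by
    have h4 : algebraMap A H (hH.π f) ∈ (maximalIdeal A).map (algebraMap A H) ⊔ Ideal.span (Set.range x) ^ 3 :=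
      Ideal.mem_sup_left (Ideal.mem_map_of_mem _ hb)
    convert sub_mem hf h4 using 1
    simp only [hedef]
    linear_combination -he
  rw [hH.residue_add_eq_of_congr h e l hl h3 p q]
  have hπ : ∀ i j, hH.π (e i j) = if i ≤ j then a i j else 0 := fun i j => by
    simp only [hedef]; split_ifs <;> simp
  rw [hπ, hπ, ← map_add]
  congr 1
  rcases lt_trichotomy p q with hpq | rfl | hpq
  · simp [VanCyc.polarMatrix, hpq.ne, hpq, hpq.le, not_le.2 hpq]
  · simp [VanCyc.polarMatrix, two_mul]
  · simp [VanCyc.polarMatrix, hpq.ne', not_lt.2 hpq.le, hpq.le, not_le.2 hpq]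

include hH in
theorem isUnit_det_jets {a : Fin N → Fin N → A} (ha : VanCyc.QuadNondeg a) (h : Fin N → Fin N → H)
    (hr : ∀ p q, residue A (VanCyc.polarMatrix a p q) = residue A (hH.π (h p q)) + residue A (hH.π (h q p))) :
    IsUnit (Matrix.of fun p q => hH.π (h p q) + hH.π (h q p)).det := by
  refine (isUnit_map_iff (residue A) _).1 ?_
  rw [RingHom.map_det]
  have : (residue A).mapMatrix (Matrix.of fun p q => hH.π (h p q) + hH.π (h q p)) =
      (residue A).mapMatrix (VanCyc.polarMatrix a) := by
    ext p q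
    simp [hr]
  rw [this, ← RingHom.map_det]
  exact ha.map _

include hH in
/-- The translation to the critical point. -/
theorem exists_translation (f : H) (a : Fin N → Fin N → A) (ha : VanCyc.QuadNondeg a)
    (hf : f - VanCyc.quadEval (fun i j => algebraMap A H (a i j)) x ∈
      (maximalIdeal A).map (algebraMap A H) ⊔ Ideal.span (Set.range x) ^ 3) :
    ∃ (τ : H ≃ₐ[A] H) (b : A) (h : Fin N → Fin N → H), b ∈ maximalIdeal A ∧
      τ f = algebraMap A H b + ∑ i, ∑ j, x i * x j * h i j ∧
      IsUnit (Matrix.of fun p q => hH.π (h p q) + hH.π (h q p)).det := by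
  classical
  haveI := hH.henselian
  haveI := hH.isLocalHom
  obtain ⟨l, h, he⟩ := hH.exists_expansion f
  obtain ⟨hb, hl, hr⟩ := hH.jets f a hf l h he
  obtain ⟨H₂, _, _, _, z, hH₂, -⟩ := exists_isAffHens A (N + N)
  haveI := hH₂.henselian
  haveI := hH₂.isLocalHom
  let u : Fin N → H₂ := fun i => z (Fin.castAdd N i)
  let w : Fin N → H₂ := fun i => z (Fin.natAdd N i)
  let δ := hH.lift (fun i => u i + w i) fun i => add_mem (hH₂.mem _) (hH₂.mem _)
  let ι := hH.lift w fun i => hH₂.mem _
  have hu : Ideal.span (Set.range u) ≤ maximalIdeal H₂ := Ideal.span_le.2 (Set.range_subset_iff.2 fun i => hH₂.mem _)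
  have hdiff : ∀ g : H, ∃ c : Fin N → H₂, δ g = ι g + ∑ i, u i * c i := fun g => by
    set I := Ideal.span (Set.range u) with hI
    haveI : Nontrivial (H₂ ⧸ I) := Ideal.Quotient.nontrivial_iff.2 (ne_top_of_le_ne_top (maximalIdeal.isMaximal H₂).ne_top hu)
    haveI : IsLocalRing (H₂ ⧸ I) := .of_surjective' (Ideal.Quotient.mk I) Ideal.Quotient.mk_surjective
    haveI : HenselianLocalRing (H₂ ⧸ I) := Groth.L13.LocalPair.henselian_quotient I
    haveI : IsLocalHom (Ideal.Quotient.mk I) := IsLocalHom.of_surjective _ Ideal.Quotient.mk_surjective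
    haveI : IsLocalHom (algebraMap A (H₂ ⧸ I)) := RingHom.isLocalHom_comp (Ideal.Quotient.mk I) (algebraMap A H₂)
    have : (Ideal.Quotient.mkₐ A I).comp δ = (Ideal.Quotient.mkₐ A I).comp ι := by
      refine hH.hom_ext (fun i => ?_) fun i => ?_
      · show Ideal.Quotient.mk I (δ (x i)) ∈ maximalIdeal _
        rw [hH.lift_x]
        exact fun hu => add_mem (hH₂.mem (Fin.castAdd N i)) (hH₂.mem (Fin.natAdd N i))
          ((isUnit_map_iff (Ideal.Quotient.mk I) _).1 hu)
      · show Ideal.Quotient.mk I (δ (x i)) = Ideal.Quotient.mk I (ι (x i))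
        rw [hH.lift_x, hH.lift_x, Ideal.Quotient.eq, add_sub_cancel_right]
        exact Ideal.subset_span ⟨i, rfl⟩
    obtain ⟨c, hc⟩ := Ideal.mem_span_range_iff_exists_fun.1 (Ideal.Quotient.eq.1 (AlgHom.congr_fun this g))
    refine ⟨c, ?_⟩
    simp only [mul_comm (u _)]
    rw [hc]
    exact (add_sub_cancel _ _).symm
  choose E hE using fun i j => hdiff (h i j)
  let g : Fin N → H := fun i => algebraMap A H (l i) + ∑ j, x j * h i j
  have hfg : f = algebraMap A H (hH.π f) + ∑ i, x i * g i := by
    conv_lhs => rw [he]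
    simp only [g, mul_add, Finset.mul_sum, Finset.sum_add_distrib, ← mul_assoc, mul_comm (algebraMap A H _), add_assoc]
  let G' : Fin N → Fin N → H₂ := fun i p => δ (h i p) + ∑ j, w j * E i j p
  have hg : ∀ i, δ (g i) = ι (g i) + ∑ p, u p * G' i p := fun i => by
    simp only [g, map_add, map_sum, map_mul, AlgHom.commutes, δ, ι, hH.lift_x, G', mul_add, Finset.mul_sum,
      Finset.sum_add_distrib]
    rw [Finset.sum_comm (f := fun p j => u p * (w j * E i j p)), add_assoc, ← Finset.sum_add_distrib,
      ← Finset.sum_add_distrib]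
    refine congrArg _ (Finset.sum_congr rfl fun j _ => ?_)
    have e := hE i j
    simp only [δ, ι] at e
    rw [add_mul, e]
    simp only [mul_add, Finset.mul_sum, mul_left_comm (w j)]
    ring
  let Gc : Fin N → H₂ := fun p => δ (g p) + ∑ i, w i * G' i p
  have hfG : δ f = ι f + ∑ p, u p * Gc p := by
    rw [hfg]
    simp only [map_add, map_sum, map_mul, AlgHom.commutes, δ, ι, hH.lift_x, Gc, mul_add, Finset.mul_sum,
      Finset.sum_add_distrib]
    rw [Finset.sum_comm (f := fun p i => u p * (w i * G' i p)), add_assoc, ← Finset.sum_add_distrib,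
      ← Finset.sum_add_distrib]
    refine congrArg _ (Finset.sum_congr rfl fun i _ => ?_)
    have e := hg i
    simp only [δ, ι] at e
    rw [add_mul, e]
    simp only [mul_add, Finset.mul_sum, mul_left_comm (w i)]
    ring
  let ev := hH₂.lift (Fin.addCases (fun _ => (0 : H)) x) fun i => by
    induction i using Fin.addCases <;> simp [hH.mem]
  have hev : ev.comp δ = AlgHom.id A H := hH.hom_ext
    (fun i => by simp [δ, ev, u, w, hH.lift_x, hH₂.lift_x, hH.mem])
    fun i => by simp [δ, ev, u, w, hH.lift_x, hH₂.lift_x]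
  have hevw : ∀ i, ev (w i) = x i := fun i => by simp [ev, w, hH₂.lift_x]
  let D : Fin N → H := fun p => ev (Gc p)
  let J : Matrix (Fin N) (Fin N) A := Matrix.of fun p q => hH.π (h p q) + hH.π (h q p)
  have hD : ∀ p, D p = g p + ∑ i, x i * (h i p + ∑ j, x j * ev (E i j p)) := fun p => by
    simp only [D, Gc, G', map_add, map_sum, map_mul, hevw]
    simp only [← AlgHom.comp_apply, hev, AlgHom.id_apply]
  have hsq : ∀ i j (c : H), x i * (x j * c) ∈ Ideal.span (Set.range x) ^ 2 := fun i j c => by
    rw [← mul_assoc, pow_two]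
    exact Ideal.mul_mem_right _ _ (Ideal.mul_mem_mul (Ideal.subset_span ⟨i, rfl⟩) (Ideal.subset_span ⟨j, rfl⟩))
  have hx2 : ∀ i (c : H), x i * c - algebraMap A H (hH.π c) * x i ∈ Ideal.span (Set.range x) ^ 2 := fun i c => by
    rw [mul_comm (algebraMap A H _), ← mul_sub, pow_two]
    exact Ideal.mul_mem_mul (Ideal.subset_span ⟨i, rfl⟩) (hH.sub_π_mem c)
  have hDlin : ∀ p, D p - ∑ q, algebraMap A H (J p q) * x q ∈
      (maximalIdeal A).map (algebraMap A H) ⊔ Ideal.span (Set.range x) ^ 2 := fun p => by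
    have e : D p - ∑ q, algebraMap A H (J p q) * x q = algebraMap A H (l p) +
        ∑ q, ((x q * h p q - algebraMap A H (hH.π (h p q)) * x q) +
          (x q * h q p - algebraMap A H (hH.π (h q p)) * x q) + x q * ∑ j, x j * ev (E q j p)) := by
      rw [hD]
      simp only [g, J, Matrix.of_apply, map_add, add_mul, Finset.sum_add_distrib, mul_add, Finset.sum_sub_distrib]
      ring
    rw [e]
    refine add_mem (Ideal.mem_sup_left (Ideal.mem_map_of_mem _ (hl p))) (Ideal.mem_sup_right (sum_mem fun q _ => ?_))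
    refine add_mem (add_mem (hx2 _ _) (hx2 _ _)) ?_
    rw [Finset.mul_sum]
    exact sum_mem fun j _ => hsq _ _ _
  have hDm : ∀ p, D p ∈ maximalIdeal H := fun p => by
    have h1 := sup_le (((IsLocalRing.local_hom_TFAE (algebraMap A H)).out 0 2 rfl rfl).1 hH.isLocalHom)
      ((Ideal.pow_le_self two_ne_zero).trans hH.span_le_maximalIdeal) (hDlin p)
    have h2 : ∑ q, algebraMap A H (J p q) * x q ∈ maximalIdeal H :=
      sum_mem fun q _ => Ideal.mul_mem_left _ _ (hH.mem q)
    simpa using add_mem h1 h2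
  have hJ : IsUnit J.det := hH.isUnit_det_jets ha h hr
  haveI : IsLocalHom (algebraMap A A) := by rw [Algebra.algebraMap_self]; infer_instance
  obtain ⟨G, ⟨hGx, hGD⟩, -⟩ := hH.existsUnique_solve D hDm J hJ hDlin (fun _ => (0 : A)) fun _ => zero_mem _
  let s : Fin N → H := fun i => algebraMap A H (G (x i))
  have hs : ∀ i, s i ∈ maximalIdeal H := fun i hu => hGx i ((isUnit_map_iff (algebraMap A H) _).1 hu)
  obtain ⟨τ, hτ⟩ := hH.exists_algEquiv (fun i => x i + s i) (fun i => add_mem (hH.mem i) (hs i)) 1 (by simp)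
    fun i => by
      refine Ideal.mem_sup_left ?_
      simp only [Matrix.one_apply, apply_ite (algebraMap A H), map_one, map_zero, ite_mul, one_mul, zero_mul,
        Finset.sum_ite_eq, Finset.mem_univ, if_true, add_sub_cancel_left]
      exact Ideal.mem_map_of_mem _ (hGx i)
  let σ := hH₂.lift (Fin.addCases x s) fun i => by induction i using Fin.addCases <;> simp [hH.mem, hs]
  have hσδ : σ.comp δ = τ.toAlgHom := hH.hom_ext
    (fun i => by simp [δ, σ, u, w, hH.lift_x, hH₂.lift_x]; exact add_mem (hH.mem i) (hs i))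
    fun i => by simp [δ, σ, u, w, hH.lift_x, hH₂.lift_x, hτ]
  have hσι : σ.comp ι = (Algebra.ofId A H).comp G := hH.hom_ext
    (fun i => by simp [ι, σ, w, hH.lift_x, hH₂.lift_x, hs])
    fun i => by simp [ι, σ, w, s, hH.lift_x, hH₂.lift_x]
  have hGc : ∀ p, hH.π (σ (Gc p)) = 0 := fun p => by
    have e : hH.π.comp σ = G.comp ev := hH₂.hom_ext
      (fun i => by induction i using Fin.addCases <;> simp [σ, hH₂.lift_x, hH.π_x, s, hGx])
      fun i => by induction i using Fin.addCases <;> simp [σ, ev, hH₂.lift_x, hH.π_x, s]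
    exact (AlgHom.congr_fun e (Gc p)).trans (hGD p)
  choose g' hg' using fun p => hH.exists_eq_add_sum (σ (Gc p))
  have hbf : G f ∈ maximalIdeal A := hH.map_mem G hGx <| by
    have h2 : algebraMap A H (hH.π f) ∈ maximalIdeal H := fun hu => hb ((isUnit_map_iff (algebraMap A H) _).1 hu)
    rw [hfg]
    exact add_mem h2 (sum_mem fun i _ => Ideal.mul_mem_right _ _ (hH.mem i))
  have hτf : τ f = algebraMap A H (G f) + ∑ i, ∑ j, x i * x j * g' i j := by
    have e := congrArg σ hfG
    rw [map_add, map_sum, show σ (δ f) = τ f from AlgHom.congr_fun hσδ f,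
      show σ (ι f) = algebraMap A H (G f) from AlgHom.congr_fun hσι f] at e
    rw [e]
    refine congrArg _ (Finset.sum_congr rfl fun p _ => ?_)
    rw [map_mul, show σ (u p) = x p by simp [σ, u, hH₂.lift_x], hg' p, hGc, map_zero, zero_add, Finset.mul_sum]
    exact Finset.sum_congr rfl fun j _ => by ring
  refine ⟨τ, G f, g', hbf, hτf, hH.isUnit_det_jets ha g' ?_⟩
  have hne : (maximalIdeal A).map (algebraMap A H) ≠ ⊤ := ne_top_of_le_ne_top (maximalIdeal.isMaximal H).ne_top
    (((IsLocalRing.local_hom_TFAE (algebraMap A H)).out 0 2 rfl rfl).1 hH.isLocalHom)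
  have hmove : τ f - f ∈ (maximalIdeal A).map (algebraMap A H) :=
    hH.map_sub_mem _ hne τ.toAlgHom (fun i => by
      show τ (x i) - x i ∈ _
      rw [hτ, add_sub_cancel_left]
      exact Ideal.mem_map_of_mem _ (hGx i)) f
  have hπτ : hH.π (τ f) = G f := by
    rw [hτf, map_add, AlgHom.commutes, map_sum, Finset.sum_eq_zero fun i _ => ?_]
    · simp
    · rw [map_sum]
      exact Finset.sum_eq_zero fun j _ => by simp [hH.π_x]
  refine (hH.jets (τ f) a ?_ (fun _ => 0) g' ?_).2.2
  · convert add_mem (Ideal.mem_sup_left hmove) hf using 1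
    ring
  · rw [hπτ, hτf]
    simp

include hH in
/-- A form is equivalent to any non-degenerate form congruent to it. -/
theorem exists_morse_congr (h : Fin N → Fin N → H) (a : Fin N → Fin N → A) (ha : VanCyc.QuadNondeg a)
    (htri : ∀ i j, j < i → a i j = 0) (hcongr : ∀ i j, algebraMap A H (a i j) - fold h i j ∈ maximalIdeal H) :
    ∃ ψ : H ≃ₐ[A] H,
      ψ (VanCyc.quadEval (fun i j => algebraMap A H (a i j)) x) = ∑ i, ∑ j, x i * x j * h i j := by
  classical
  haveI := hH.henselian
  haveI := hH.isLocalHom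
  let aH : Fin N → Fin N → H := fun i j => algebraMap A H (a i j)
  have haH : VanCyc.polarMatrix aH = (algebraMap A H).mapMatrix (VanCyc.polarMatrix a) :=
    (map_polarMatrix _ a).symm
  let B : Matrix (Fin N) (Fin N) H := VanCyc.polarMatrix aH
  have hB : IsUnit B.det := by
    show IsUnit (VanCyc.polarMatrix aH).det
    rw [haH, ← RingHom.map_det]
    exact ha.map _
  let Ne : Fin N → Fin N → MvPolynomial (Fin N × Fin N) H := fun i r => ∑ p, MvPolynomial.C (B⁻¹ i p) * MvPolynomial.X (p, r)
  let c : Fin N → Fin N → MvPolynomial (Fin N × Fin N) H := fun r s =>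
    ∑ i, ∑ j, if i ≤ j then MvPolynomial.C (aH i j) * (Ne i r * Ne j s) else 0
  let sys : Fin N × Fin N → MvPolynomial (Fin N × Fin N) H := fun rs =>
    MvPolynomial.X rs + c rs.1 rs.2 + MvPolynomial.C (aH rs.1 rs.2 - fold h rs.1 rs.2)
  have hNe : ∀ i r, MvPolynomial.constantCoeff (Ne i r) = 0 := fun i r => by simp [Ne]
  have hc0 : ∀ r s, MvPolynomial.constantCoeff (c r s) = 0 := fun r s => by
    simp [c, apply_ite MvPolynomial.constantCoeff, hNe]
  have hc1 : ∀ r s m, MvPolynomial.constantCoeff (MvPolynomial.pderiv m (c r s)) = 0 := fun r s m => by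
    simp only [c, map_sum]
    refine Finset.sum_eq_zero fun i _ => Finset.sum_eq_zero fun j _ => ?_
    split_ifs
    · simp [MvPolynomial.pderiv_mul, hNe]
    · simp
  have hfold : ∀ i j, aH i j - fold h i j ∈ maximalIdeal H := hcongr
  obtain ⟨U, hU, hU0⟩ := Groth.L05.exists_zero_of_jacobian (maximalIdeal H) sys 0
    (fun rs => by simpa [sys, hc0] using hfold rs.1 rs.2)
    (by
      rw [RingHom.map_det, show ((MvPolynomial.eval (0 : Fin N × Fin N → H)).mapMatrix
          (Matrix.of fun m rs => MvPolynomial.pderiv m (sys rs))) = 1 by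
        ext m rs
        simp [sys, hc1, MvPolynomial.pderiv_X, Pi.single_apply, Matrix.one_apply, eq_comm]]
      simp)
  let M : Fin N → Fin N → H := fun i r => ∑ p, B⁻¹ i p * U (p, r)
  let v : Fin N → H := fun i => ∑ r, M i r * x r
  have hvm : ∀ i, v i ∈ (maximalIdeal A).map (algebraMap A H) ⊔ Ideal.span (Set.range x) ^ 2 := fun i => by
    refine sum_mem fun r _ => ?_
    have hM : M i r ∈ (maximalIdeal A).map (algebraMap A H) ⊔ Ideal.span (Set.range x) :=
      sum_mem fun p _ => Ideal.mul_mem_left _ _ (hH.maximalIdeal_le (by simpa using hU (p, r)))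
    have h2 : M i r * x r ∈ ((maximalIdeal A).map (algebraMap A H) ⊔ Ideal.span (Set.range x)) * Ideal.span (Set.range x) :=
      Ideal.mul_mem_mul hM (Ideal.subset_span ⟨r, rfl⟩)
    rw [Ideal.sup_mul, ← pow_two] at h2
    obtain ⟨a₁, ha₁, b₁, hb₁, e⟩ := Submodule.mem_sup.1 h2
    rw [← e]
    exact Submodule.add_mem_sup (Ideal.mul_le_left ha₁) hb₁
  have hvmax : ∀ i, v i ∈ maximalIdeal H := fun i =>
    sup_le (((IsLocalRing.local_hom_TFAE (algebraMap A H)).out 0 2 rfl rfl).1 hH.isLocalHom)
      ((Ideal.pow_le_self two_ne_zero).trans hH.span_le_maximalIdeal) (hvm i)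
  obtain ⟨ψ, hψ⟩ := hH.exists_algEquiv (fun i => x i + v i) (fun i => add_mem (hH.mem i) (hvmax i)) 1 (by simp)
    fun i => by
      simpa [Matrix.one_apply, apply_ite (algebraMap A H), Finset.sum_ite_eq] using hvm i
  refine ⟨ψ, ?_⟩
  have hψQ : ψ (VanCyc.quadEval aH x) = VanCyc.quadEval aH (x + v) := by
    simp only [VanCyc.quadEval, map_sum]
    refine Finset.sum_congr rfl fun i _ => Finset.sum_congr rfl fun j _ => ?_
    split_ifs
    · rw [map_mul, map_mul, hψ, hψ, show ψ (aH i j) = aH i j from ψ.commutes _]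
      rfl
    · simp
  show ψ (VanCyc.quadEval aH x) = _
  rw [hψQ, quadEval_add, ← sum_fold h x]
  have hBv : ∀ p, ∑ q, B p q * v q = ∑ r, U (p, r) * x r := fun p => by
    simp only [v, M, Finset.mul_sum, Finset.sum_mul]
    rw [Finset.sum_comm]
    refine Finset.sum_congr rfl fun r _ => ?_
    rw [Finset.sum_comm]
    simp only [← mul_assoc, ← Finset.sum_mul, ← Matrix.mul_apply, Matrix.mul_nonsing_inv B hB, Matrix.one_apply,
      ite_mul, one_mul, zero_mul, Finset.sum_ite_eq, Finset.mem_univ, if_true]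
  have h1 : ∑ p, ∑ q, x p * VanCyc.polarMatrix aH p q * v q = ∑ r, ∑ s, x r * x s * U (r, s) := by
    refine Finset.sum_congr rfl fun p _ => ?_
    simp only [mul_assoc, ← Finset.mul_sum]
    rw [hBv p, Finset.mul_sum, Finset.mul_sum]
    exact Finset.sum_congr rfl fun r _ => by ring
  have hNeval : ∀ i r, MvPolynomial.eval U (Ne i r) = M i r := fun i r => by simp [Ne, M]
  have h2 : VanCyc.quadEval aH v = ∑ r, ∑ s, x r * x s * MvPolynomial.eval U (c r s) := by
    simp only [c, map_sum, apply_ite (MvPolynomial.eval U), map_mul, map_zero, MvPolynomial.eval_C, hNeval,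
      Finset.mul_sum, mul_ite, mul_zero]
    rw [Finset.sum_congr rfl fun r _ => Finset.sum_comm, Finset.sum_comm]
    refine Finset.sum_congr rfl fun i _ => ?_
    rw [Finset.sum_congr rfl fun r _ => Finset.sum_comm, Finset.sum_comm]
    refine Finset.sum_congr rfl fun j _ => ?_
    split_ifs with hij
    · simp only [v, mul_assoc (aH i j), Finset.sum_mul, Finset.mul_sum]
      rw [Finset.sum_comm]
      exact Finset.sum_congr rfl fun r _ => Finset.sum_congr rfl fun s _ => by ring
    · simp
  rw [h1, h2, quadEval_eq_sum]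
  simp only [← Finset.sum_add_distrib, ← mul_add]
  refine Finset.sum_congr rfl fun r _ => Finset.sum_congr rfl fun s _ => congrArg _ ?_
  have hsys := hU0 (r, s)
  simp only [sys, map_add, MvPolynomial.eval_X, MvPolynomial.eval_C] at hsys
  have hup : (if r ≤ s then aH r s else 0) = aH r s := by
    split_ifs with hrs
    · rfl
    · rw [show aH r s = algebraMap A H (a r s) from rfl, htri r s (not_le.1 hrs), map_zero]
  rw [hup]
  linear_combination hsys

include hH in
/-- Removing the terms of order at least three. -/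
theorem exists_morse (h : Fin N → Fin N → H)
    (hdet : IsUnit (Matrix.of fun p q => hH.π (h p q) + hH.π (h q p)).det) :
    ∃ (ψ : H ≃ₐ[A] H) (a : Fin N → Fin N → A), VanCyc.QuadNondeg a ∧
      ψ (VanCyc.quadEval (fun i j => algebraMap A H (a i j)) x) = ∑ i, ∑ j, x i * x j * h i j := by
  classical
  let a : Fin N → Fin N → A := fold fun i j => hH.π (h i j)
  have ha : VanCyc.QuadNondeg a := by
    unfold VanCyc.QuadNondeg
    convert hdet using 2
    ext p q
    rw [Matrix.of_apply, polar_fold]
  obtain ⟨ψ, hψ⟩ := hH.exists_morse_congr h a ha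
    (fun i j hij => by simp [a, fold, hij.ne', not_lt.2 hij.le]) fun i j => by
      refine hH.span_le_maximalIdeal ?_
      rw [← neg_sub]
      refine neg_mem ?_
      simp only [a, fold]
      split_ifs
      · exact hH.sub_π_mem _
      · rw [map_add, add_sub_add_comm]; exact add_mem (hH.sub_π_mem _) (hH.sub_π_mem _)
      · simp
  exact ⟨ψ, a, ha, hψ⟩

include hH in
/-- The normal form. -/
theorem exists_normal_form (f : H) (a : Fin N → Fin N → A) (ha : VanCyc.QuadNondeg a)
    (hf : f - VanCyc.quadEval (fun i j => algebraMap A H (a i j)) x ∈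
      (maximalIdeal A).map (algebraMap A H) ⊔ Ideal.span (Set.range x) ^ 3) :
    ∃ (a' : Fin N → Fin N → A) (b : A) (ψ : H ≃ₐ[A] H), VanCyc.QuadNondeg a' ∧ b ∈ maximalIdeal A ∧
      ψ (VanCyc.quadEval (fun i j => algebraMap A H (a' i j)) x - algebraMap A H b) = f := by
  obtain ⟨τ, b, h, hb, hτ, hdet⟩ := hH.exists_translation f a ha hf
  obtain ⟨φ, a', ha', hφ⟩ := hH.exists_morse h hdet
  refine ⟨a', -b, φ.trans τ.symm, ha', neg_mem hb, ?_⟩
  rw [AlgEquiv.trans_apply, map_sub, hφ, AlgEquiv.commutes, map_neg, sub_neg_eq_add, add_comm, ← hτ,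
    AlgEquiv.symm_apply_apply]

end IsAffHens

end Groth.L28.HensModel
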