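import Groth.Agent.L28.HensModel.Trunc
import Groth.Agent.L28.HensModel.Morse
import Groth.Agent.L28.Morse
import Groth.Agent.L05.Henselization.Noeth

/-!
The closed fibre of the henselization of affine space, and quotient models.
-/

set_option autoImplicit false
set_option linter.style.haveILetI false

noncomputable section

open IsLocalRing MvPolynomial

namespace Groth.L28.HensModel

universe u

theorem henselianLocalRing_quot_pow (O : Type u) [CommRing O] [IsLocalRing O] (j : ℕ) :
    HenselianLocalRing (O ⧸ maximalIdeal O ^ (j + 1)) := by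
  haveI : Nontrivial (O ⧸ maximalIdeal O ^ (j + 1)) := Ideal.Quotient.nontrivial_iff.2
    (ne_top_of_le_ne_top (maximalIdeal.isMaximal O).ne_top (Ideal.pow_le_self j.succ_ne_zero))
  haveI : IsLocalRing (O ⧸ maximalIdeal O ^ (j + 1)) := .of_surjective' (Ideal.Quotient.mk _) Ideal.Quotient.mk_surjective
  haveI : HenselianRing (O ⧸ maximalIdeal O ^ (j + 1)) (maximalIdeal _) :=
    Groth.L05.henselianRing_of_nil _ fun z hz => by
      obtain ⟨y, rfl⟩ := Ideal.Quotient.mk_surjective z
      refine ⟨j + 1, ?_⟩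
      rw [← map_pow, Ideal.Quotient.eq_zero_iff_mem]
      exact Ideal.pow_mem_pow (show y ∈ maximalIdeal O from fun hu => hz (hu.map _)) _
  exact Groth.L05.henselianLocalRing_of_henselianRing

theorem sup_pow_le {R : Type u} [CommRing R] (I J : Ideal R) : ∀ n : ℕ, (I ⊔ J) ^ n ≤ I ⊔ J ^ n
  | 0 => by simp
  | n + 1 => by
    rw [pow_succ, pow_succ, Ideal.mul_le]
    intro a ha b hb
    obtain ⟨i, hi, p, hp, rfl⟩ := Submodule.mem_sup.1 (sup_pow_le I J n ha)
    obtain ⟨i', hi', q, hq, rfl⟩ := Submodule.mem_sup.1 hb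
    rw [show (i + p) * (i' + q) = (i * (i' + q) + p * i') + p * q by ring]
    exact add_mem (Ideal.mem_sup_left (add_mem (I.mul_mem_right _ hi) (I.mul_mem_left _ hi')))
      (Ideal.mem_sup_right (Ideal.mul_mem_mul hp hq))

theorem map_quadEval {R S : Type*} [CommRing R] [CommRing S] (f : R →+* S) {N : ℕ} (a : Fin N → Fin N → R)
    (v : Fin N → R) : f (VanCyc.quadEval a v) = VanCyc.quadEval (fun i j => f (a i j)) fun i => f (v i) := by
  simp only [VanCyc.quadEval, map_sum]
  refine Finset.sum_congr rfl fun i _ => Finset.sum_congr rfl fun j _ => ?_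
  split_ifs <;> simp

namespace IsAffHens

variable {A : Type u} [CommRing A] [HenselianLocalRing A] {H : Type u} [CommRing H] [IsLocalRing H]
  [Algebra A H] {N : ℕ} {x : Fin N → H} (hH : IsAffHens A H x)

include hH

theorem pow_maximalIdeal_le (n : ℕ) :
    maximalIdeal H ^ n ≤ (maximalIdeal A).map (algebraMap A H) ⊔ Ideal.span (Set.range x) ^ n :=
  (Ideal.pow_right_mono hH.maximalIdeal_le n).trans (sup_pow_le _ _ n)

theorem map_maximalIdeal_le : (maximalIdeal A).map (algebraMap A H) ≤ maximalIdeal H :=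
  ((IsLocalRing.local_hom_TFAE (algebraMap A H)).out 0 2 rfl rfl).1 hH.isLocalHom

theorem isNoetherianRing_closedFibre : IsNoetherianRing (H ⧸ (maximalIdeal A).map (algebraMap A H)) := by
  obtain ⟨Hk, _, _, _, xk, hk, hN⟩ := exists_isAffHens.{u} (N := N) (ResidueField A)
  haveI := hN inferInstance
  haveI := hk.henselian
  haveI := hk.isLocalHom
  haveI := hH.henselian
  haveI := hH.isLocalHom
  letI : Algebra A Hk := ((algebraMap (ResidueField A) Hk).comp (residue A)).toAlgebra
  haveI : IsLocalHom (residue A) := IsLocalHom.of_surjective _ residue_surjective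
  haveI : IsLocalHom (algebraMap A Hk) := RingHom.isLocalHom_comp (algebraMap (ResidueField A) Hk) (residue A)
  set I := (maximalIdeal A).map (algebraMap A H)
  let Q := H ⧸ I
  haveI : Nontrivial Q := Ideal.Quotient.nontrivial_iff.2
    (ne_top_of_le_ne_top (maximalIdeal.isMaximal H).ne_top hH.map_maximalIdeal_le)
  haveI : IsLocalRing Q := .of_surjective' (Ideal.Quotient.mk I) Ideal.Quotient.mk_surjective
  haveI : HenselianLocalRing Q := Groth.L13.LocalPair.henselian_quotient I
  haveI : IsLocalHom (Ideal.Quotient.mk I) := IsLocalHom.of_surjective _ Ideal.Quotient.mk_surjective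
  haveI : IsLocalHom (algebraMap A Q) := RingHom.isLocalHom_comp (Ideal.Quotient.mk I) (algebraMap A H)
  letI : Algebra (ResidueField A) Q := (Ideal.Quotient.lift (maximalIdeal A) (algebraMap A Q) fun a ha =>
    Ideal.Quotient.eq_zero_iff_mem.2 (Ideal.mem_map_of_mem _ ha)).toAlgebra
  haveI : IsLocalHom (algebraMap (ResidueField A) Q) := ⟨fun a ha => isUnit_iff_ne_zero.2 fun h => by
    rw [h, map_zero] at ha
    exact not_isUnit_zero ha⟩
  have hxQ : ∀ i, Ideal.Quotient.mk I (x i) ∈ maximalIdeal Q :=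
    fun i hu => hH.mem i ((isUnit_map_iff (Ideal.Quotient.mk I) _).1 hu)
  let g₁ : H →ₐ[A] Hk := hH.lift xk hk.mem
  let g₂ : Hk →ₐ[ResidueField A] Q := hk.lift (fun i => Ideal.Quotient.mk I (x i)) hxQ
  let g : H →ₐ[A] Q :=
    { g₂.toRingHom.comp g₁.toRingHom with
      commutes' := fun a => by
        show g₂ (g₁ (algebraMap A H a)) = _
        rw [g₁.commutes]
        exact g₂.commutes (residue A a) }
  have hg : ∀ i, g (x i) = Ideal.Quotient.mk I (x i) := fun i => by
    show g₂ (g₁ (x i)) = _
    rw [show g₁ (x i) = xk i from hH.lift_x _ _ i]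
    exact hk.lift_x _ _ i
  have hgmk : g = Ideal.Quotient.mkₐ A I := hH.hom_ext (fun i => by rw [hg]; exact hxQ i) hg
  refine isNoetherianRing_of_surjective Hk Q g₂.toRingHom fun q => ?_
  obtain ⟨h, rfl⟩ := Ideal.Quotient.mk_surjective q
  exact ⟨g₁ h, AlgHom.congr_fun hgmk h⟩

/-- A quotient by a polynomial is a henselization of the hypersurface at the origin. -/
theorem equiv_hypersurface (F : MvPolynomial (Fin N) A) (hF : constantCoeff F ∈ maximalIdeal A)
    (Bh : Type u) [CommRing Bh] [Algebra A Bh] (φ : H →ₐ[A] Bh) (hφ : Function.Surjective φ)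
    (hker : RingHom.ker φ = Ideal.span {aeval (R := A) x F})
    (o : Ideal (MvPolynomial (Fin N) A ⧸ Ideal.span {F})) [o.IsPrime]
    (ho : o = (VanCyc.originIdeal A).map (Ideal.Quotient.mk _)) (C : Type u) [CommRing C] [IsLocalRing C]
    [Algebra (Localization.AtPrime o) C] [IsLocalHom (algebraMap (Localization.AtPrime o) C)]
    [Hensel.IsHenselization (Localization.AtPrime o) C]
    [Algebra A C] [IsScalarTower A (Localization.AtPrime o) C] :
    Nonempty (Bh ≃ₐ[A] C) := by
  haveI := hH.henselian
  haveI := hH.isLocalHom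
  let L := Localization.AtPrime o
  haveI := (inferInstance : Hensel.IsHenselization L C).henselian
  let ρ : MvPolynomial (Fin N) A →ₐ[A] C :=
    ((IsScalarTower.toAlgHom A L C).comp (IsScalarTower.toAlgHom A (MvPolynomial (Fin N) A ⧸ Ideal.span {F}) L)).comp
      (Ideal.Quotient.mkₐ A _)
  have hρo : ∀ p, Ideal.Quotient.mk _ p ∈ o → ρ p ∈ maximalIdeal C := fun p hp hu =>
    (IsLocalization.AtPrime.to_map_mem_maximal_iff L o _).2 hp ((isUnit_map_iff (algebraMap L C) _).1 hu)
  have hXo : ∀ i, Ideal.Quotient.mk _ (X i) ∈ o := fun i =>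
    ho ▸ Ideal.mem_map_of_mem _ (Ideal.mem_sup_right (Ideal.subset_span ⟨i, rfl⟩))
  haveI : IsLocalHom (algebraMap A C) := ⟨fun t ht => by
    by_contra hn
    refine hρo (MvPolynomial.C t) (ho ▸ Ideal.mem_map_of_mem _ (Ideal.mem_sup_left (Ideal.mem_map_of_mem _ hn))) ?_
    rw [← algebraMap_eq, AlgHom.commutes]
    exact ht⟩
  let g : H →ₐ[A] C := hH.lift (fun i => ρ (X i)) fun i => hρo _ (hXo i)
  have hg : ∀ i, g (x i) = ρ (X i) := hH.lift_x _ _
  set f := aeval (R := A) x F with hfdef
  have hgρ : ∀ p, g (aeval (R := A) x p) = ρ p := fun p => by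
    rw [comp_aeval_apply, funext hg]
    exact (DFunLike.congr_fun (aeval_unique ρ) p).symm
  have haeval : aeval (R := A) x F = f := rfl
  have hgf : g f = 0 := by
    rw [← haeval, hgρ]
    show algebraMap L C (algebraMap _ L (Ideal.Quotient.mk _ F)) = 0
    rw [Ideal.Quotient.eq_zero_iff_mem.2 (Ideal.mem_span_singleton_self _), map_zero, map_zero]
  let I := Ideal.span {f}
  have hfm : f ∈ maximalIdeal H := by
    have h1 : aeval (R := A) x F - algebraMap A H (constantCoeff F) ∈ Ideal.span (Set.range x) := by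
      have h2 : F - MvPolynomial.C (constantCoeff F) ∈ idealOfVars (Fin N) A :=
        (mem_idealOfVars_iff _).2 (by rw [map_sub, constantCoeff_C, sub_self])
      have h3 := Ideal.mem_map_of_mem (aeval (R := A) x) h2
      rw [idealOfVars, Ideal.map_span, ← Set.range_comp, map_sub, aeval_C,
        show (aeval (R := A) x) ∘ X = x from funext fun i => aeval_X _ i] at h3
      exact h3
    rw [hfdef, ← sub_add_cancel (aeval (R := A) x F) (algebraMap A H (constantCoeff F))]
    exact add_mem (hH.span_le_maximalIdeal h1) (hH.map_maximalIdeal_le (Ideal.mem_map_of_mem _ hF))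
  have hI : I ≠ ⊤ := ne_top_of_le_ne_top (maximalIdeal.isMaximal H).ne_top ((Ideal.span_singleton_le_iff_mem _).2 hfm)
  let Q := H ⧸ I
  haveI : Nontrivial Q := Ideal.Quotient.nontrivial_iff.2 hI
  haveI : IsLocalRing Q := .of_surjective' (Ideal.Quotient.mk I) Ideal.Quotient.mk_surjective
  haveI : HenselianLocalRing Q := Groth.L13.LocalPair.henselian_quotient I
  haveI : IsLocalHom (Ideal.Quotient.mk I) := IsLocalHom.of_surjective _ Ideal.Quotient.mk_surjective
  haveI : IsLocalHom (algebraMap A Q) := RingHom.isLocalHom_comp (Ideal.Quotient.mk I) (algebraMap A H)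
  let gQ : Q →ₐ[A] C := Ideal.Quotient.liftₐ I g fun z hz => by
    obtain ⟨r, rfl⟩ := Ideal.mem_span_singleton'.1 hz
    rw [map_mul, hgf, mul_zero]
  let σ : (MvPolynomial (Fin N) A ⧸ Ideal.span {F}) →ₐ[A] Q := Ideal.Quotient.liftₐ _ ((Ideal.Quotient.mkₐ A I).comp (aeval x)) fun p hp => by
    obtain ⟨r, rfl⟩ := Ideal.mem_span_singleton'.1 hp
    rw [map_mul, AlgHom.comp_apply, AlgHom.comp_apply, haeval, Ideal.Quotient.mkₐ_eq_mk,
      Ideal.Quotient.eq_zero_iff_mem.2 (Ideal.mem_span_singleton_self f), mul_zero]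
  have hu : ∀ t : o.primeCompl, IsUnit (σ t) := fun t => by
    obtain ⟨p, hp⟩ := Ideal.Quotient.mk_surjective (t : (MvPolynomial (Fin N) A ⧸ Ideal.span {F}))
    rw [← hp]
    show IsUnit (Ideal.Quotient.mk I (aeval (R := A) x p))
    refine IsUnit.map _ (IsLocalRing.notMem_maximalIdeal.1 fun hm => t.2 ?_)
    rw [← hp, ho]
    refine Ideal.mem_map_of_mem _ ?_
    have hX : ∀ q : MvPolynomial (Fin N) A, q - MvPolynomial.C (constantCoeff q) ∈ Ideal.span (Set.range X) := fun q =>
      (mem_idealOfVars_iff _).2 (by rw [map_sub, constantCoeff_C, sub_self])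
    have hx : aeval (R := A) x (p - MvPolynomial.C (constantCoeff p)) ∈ maximalIdeal H := by
      refine (show (Ideal.span (Set.range X)).map (aeval (R := A) x) ≤ maximalIdeal H from ?_)
        (Ideal.mem_map_of_mem _ (hX p))
      rw [Ideal.map_span, Ideal.span_le]
      rintro _ ⟨_, ⟨i, rfl⟩, rfl⟩
      rw [aeval_X]
      exact hH.mem i
    rw [map_sub, aeval_C] at hx
    have hc : constantCoeff p ∈ maximalIdeal A := fun hc => by
      have := sub_mem hm hx
      rw [sub_sub_cancel] at this
      exact this (hc.map _)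
    rw [← sub_add_cancel p (MvPolynomial.C (constantCoeff p))]
    exact add_mem (Ideal.mem_sup_right (hX p)) (Ideal.mem_sup_left (Ideal.mem_map_of_mem _ hc))
  let σL : L →ₐ[A] Q := IsLocalization.liftAlgHom (f := σ) hu
  have hσL : ∀ t, σL (algebraMap _ L t) = σ t := fun t => IsLocalization.lift_eq _ t
  have hcomp : ∀ z, gQ (σL z) = algebraMap L C z := fun z => by
    refine RingHom.congr_fun (f := gQ.toRingHom.comp σL.toRingHom) (IsLocalization.ringHom_ext o.primeCompl
      (RingHom.ext fun t => ?_)) z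
    obtain ⟨p, rfl⟩ := Ideal.Quotient.mk_surjective t
    show gQ (σL (algebraMap _ L (Ideal.Quotient.mk _ p))) = algebraMap L C (algebraMap _ L (Ideal.Quotient.mk _ p))
    rw [hσL]
    exact hgρ p
  haveI : IsLocalHom σL.toRingHom := ⟨fun z hz => by
    refine (isUnit_map_iff (algebraMap L C) z).1 ?_
    rw [← hcomp]
    exact hz.map gQ⟩
  obtain ⟨e, he, -⟩ := (inferInstance : Hensel.IsHenselization L C).universal Q σL.toRingHom inferInstance
  have heL : ∀ z, e (algebraMap L C z) = σL z := fun z => RingHom.congr_fun he z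
  have hid : gQ.toRingHom.comp e = RingHom.id C :=
    ((inferInstance : Hensel.IsHenselization L C).universal C (algebraMap L C) inferInstance).unique
      (RingHom.ext fun z => by
        show gQ (e (algebraMap L C z)) = _
        rw [heL, hcomp]) (RingHom.id_comp _)
  let eA : C →ₐ[A] Q := { e with
    commutes' := fun t => by
      rw [IsScalarTower.algebraMap_apply A L C]
      exact (heL _).trans (σL.commutes t) }
  have hid' : eA.comp g = Ideal.Quotient.mkₐ A I := by
    have hx : ∀ i, eA.comp g (x i) = Ideal.Quotient.mk I (x i) := fun i => by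
      show e (g (x i)) = _
      rw [hg]
      show e (algebraMap L C (algebraMap _ L (Ideal.Quotient.mk _ (X i)))) = _
      rw [heL, hσL]
      show Ideal.Quotient.mk I (aeval x (X i)) = _
      rw [aeval_X]
    refine hH.hom_ext (fun i => ?_) hx
    rw [hx]
    exact fun hu => hH.mem i ((isUnit_map_iff (Ideal.Quotient.mk I) _).1 hu)
  let E : Q ≃ₐ[A] C := AlgEquiv.ofAlgHom gQ eA (AlgHom.ext fun z => RingHom.congr_fun hid z)
    (Ideal.Quotient.algHom_ext A hid')
  exact ⟨(Ideal.quotientKerAlgEquivOfSurjective hφ).symm.trans ((Ideal.quotientEquivAlgOfEq A hker).trans E)⟩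

/-- A quotient by the standard deformation is a henselization of the standard model. -/
theorem equiv_model (a : Fin N → Fin N → A) (b : A) (hb : b ∈ maximalIdeal A)
    (Bh : Type u) [CommRing Bh] [Algebra A Bh] (φ : H →ₐ[A] Bh) (hφ : Function.Surjective φ)
    (hker : RingHom.ker φ = Ideal.span {VanCyc.quadEval (fun i j => algebraMap A H (a i j)) x - algebraMap A H b})
    [(VanCyc.originQuot A a b).IsPrime] (C : Type u) [CommRing C] [IsLocalRing C]
    [Algebra (Localization.AtPrime (VanCyc.originQuot A a b)) C]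
    [IsLocalHom (algebraMap (Localization.AtPrime (VanCyc.originQuot A a b)) C)]
    [Hensel.IsHenselization (Localization.AtPrime (VanCyc.originQuot A a b)) C]
    [Algebra A C] [IsScalarTower A (Localization.AtPrime (VanCyc.originQuot A a b)) C] :
    Nonempty (Bh ≃ₐ[A] C) := by
  refine hH.equiv_hypersurface (VanCyc.quadPoly a - MvPolynomial.C b) ?_ Bh φ hφ ?_ (VanCyc.originQuot A a b) rfl C
  · rw [map_sub, constantCoeff_C]
    refine sub_mem ?_ hb
    rw [constantCoeff_eq, (Groth.L28.Morse.quadPoly_isHomogeneous a).coeff_eq_zero (by simp)]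
    exact zero_mem _
  · rw [hker]
    congr 2
    rw [map_sub, aeval_C]
    congr 1
    simp only [VanCyc.quadPoly, VanCyc.quadEval, map_sum]
    refine Finset.sum_congr rfl fun i _ => Finset.sum_congr rfl fun j _ => ?_
    split_ifs <;> simp

end IsAffHens

end Groth.L28.HensModel
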