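import Groth.Agent.L28.HensModel.Weier
import Groth.Agent.L28.HensModel.DegAlg

/-!
The normal form `x₀² + b x₀ + c + Q(x₁, …, xₙ)`.
-/

set_option autoImplicit false
set_option linter.style.haveILetI false
set_option maxHeartbeats 1000000

noncomputable section

open IsLocalRing MvPolynomial

namespace Groth.L28.HensModel

universe u

/-- Coefficients in a truncated line. -/
theorem tr_line_eq_zero {k : Type u} [Field k] {c₀ c₁ c₂ : k}
    (h : algebraMap k (Tr k 1 3) c₀ + algebraMap k (Tr k 1 3) c₁ * Ideal.Quotient.mk _ (X 0) +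
      algebraMap k (Tr k 1 3) c₂ * Ideal.Quotient.mk _ (X 0) ^ 2 = 0) : c₀ = 0 ∧ c₁ = 0 ∧ c₂ = 0 := by
  have h' : Ideal.Quotient.mk (idealOfVars (Fin 1) k ^ 3) (C c₀ + C c₁ * X 0 + C c₂ * X 0 ^ 2) = 0 := by
    rw [map_add, map_add, map_mul, map_mul, map_pow]
    exact h
  rw [Ideal.Quotient.eq_zero_iff_mem, mem_pow_idealOfVars_iff'] at h'
  have e0 := h' 0 (by simp)
  have e1 := h' (Finsupp.single 0 1) (by simp)
  have e2 := h' (Finsupp.single 0 2) (by simp)
  simp [X_pow_eq_monomial, coeff_monomial, coeff_X, Finsupp.single_eq_single_iff, ← constantCoeff_eq] at e0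
  simp [X_pow_eq_monomial, coeff_monomial, coeff_X, coeff_C, Finsupp.single_eq_single_iff,
    eq_comm (a := (0 : Fin 1 →₀ ℕ))] at e1
  simp [X_pow_eq_monomial, coeff_monomial, coeff_X, coeff_C, Finsupp.single_eq_single_iff,
    eq_comm (a := (0 : Fin 1 →₀ ℕ))] at e2
  exact ⟨e0, e1, e2⟩

theorem quadEval_smul {R : Type u} [CommRing R] {N : ℕ} (a : Fin N → Fin N → R) (s : R) (v : Fin N → R) :
    VanCyc.quadEval a (fun i => s * v i) = s ^ 2 * VanCyc.quadEval a v := by
  simp only [VanCyc.quadEval, Finset.mul_sum]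
  refine Finset.sum_congr rfl fun i _ => Finset.sum_congr rfl fun j _ => ?_
  split_ifs <;> ring

namespace IsAffHens

variable {A : Type u} [CommRing A] [HenselianLocalRing A] {H : Type u} [CommRing H] [IsLocalRing H] [Algebra A H]

theorem aut_mem {N : ℕ} {x : Fin N → H} (hH : IsAffHens A H x) (e : H ≃ₐ[A] H) (j : ℕ) {h : H}
    (hh : h ∈ (maximalIdeal A).map (algebraMap A H) ⊔ Ideal.span (Set.range x) ^ j) :
    e h ∈ (maximalIdeal A).map (algebraMap A H) ⊔ Ideal.span (Set.range x) ^ j := by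
  obtain ⟨u, hu, w, hw, rfl⟩ := Submodule.mem_sup.1 hh
  rw [map_add]
  refine add_mem (Ideal.mem_sup_left ?_) (hH.pow_maximalIdeal_le j ?_)
  · have h1 : e u ∈ ((maximalIdeal A).map (algebraMap A H)).map e.toAlgHom.toRingHom :=
      Ideal.mem_map_of_mem e.toAlgHom.toRingHom hu
    rwa [Ideal.map_map, show e.toAlgHom.toRingHom.comp (algebraMap A H) = algebraMap A H from
      RingHom.ext fun a => e.commutes a] at h1
  · have h1 : Ideal.span (Set.range x) ≤ (maximalIdeal H).comap e.toAlgHom.toRingHom := by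
      intro z hz hu
      exact hH.span_le_maximalIdeal hz (by simpa using hu.map e.symm)
    have h2 := Ideal.mem_map_of_mem e.toAlgHom.toRingHom (Ideal.pow_right_mono h1 j hw)
    rw [Ideal.map_pow] at h2
    exact Ideal.pow_right_mono Ideal.map_comap_le j h2

theorem exists_deg_normal_form {n : ℕ} {x : Fin (n + 1) → H} (hH : IsAffHens A H x) (f : H)
    (a' : Fin n → Fin n → A) (ha' : VanCyc.QuadNondeg a')
    (hf : f - (x 0 ^ 2 + VanCyc.quadEval (fun i j => algebraMap A H (a' i j)) (fun i => x i.succ)) ∈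
      (maximalIdeal A).map (algebraMap A H) ⊔ Ideal.span (Set.range x) ^ 3) :
    ∃ (a'' : Fin n → Fin n → A) (b c : A) (ψ : H ≃ₐ[A] H) (u : Hˣ), VanCyc.QuadNondeg a'' ∧
      b ∈ maximalIdeal A ∧ c ∈ maximalIdeal A ∧
      ψ (x 0 ^ 2 + algebraMap A H b * x 0 + algebraMap A H c +
        VanCyc.quadEval (fun i j => algebraMap A H (a'' i j)) (fun i => x i.succ)) = u * f := by
  classical
  haveI := hH.henselian
  haveI := hH.isLocalHom
  obtain ⟨H₁, _, _, _, y, hH₁, -⟩ := exists_isAffHens.{u} (N := 1) A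
  haveI := hH₁.henselian
  haveI := hH₁.isLocalHom
  let ι : H₁ →ₐ[A] H := hH₁.lift (fun _ => x 0) fun _ => hH.mem 0
  letI : Algebra H₁ H := ι.toRingHom.toAlgebra
  haveI : IsScalarTower A H₁ H := IsScalarTower.of_algebraMap_eq fun a => (ι.commutes a).symm
  have he : algebraMap H₁ H (y 0) = x 0 := hH₁.lift_x _ _ 0
  set x' : Fin n → H := fun i => x i.succ
  have hR : IsAffHens H₁ H x' := hH.relative hH₁ he
  haveI := hR.isLocalHom
  have hAH : ∀ a, algebraMap H₁ H (algebraMap A H₁ a) = algebraMap A H a := fun a =>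
    (IsScalarTower.algebraMap_apply A H₁ H a).symm
  let aL : Fin n → Fin n → H₁ := fun i j => algebraMap A H₁ (a' i j)
  have haL : VanCyc.QuadNondeg aL := by
    show IsUnit (VanCyc.polarMatrix aL).det
    rw [← map_polarMatrix, ← RingHom.map_det]
    exact ha'.map _
  have hx0 : x 0 ∈ (maximalIdeal H₁).map (algebraMap H₁ H) := he ▸ Ideal.mem_map_of_mem _ (hH₁.mem 0)
  have hspan : Ideal.span (Set.range x) ≤ (maximalIdeal H₁).map (algebraMap H₁ H) ⊔ Ideal.span (Set.range x') :=
    Ideal.span_le.2 (Set.range_subset_iff.2 fun i => Fin.cases (Ideal.mem_sup_left hx0)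
      (fun i => Ideal.mem_sup_right (Ideal.subset_span ⟨i, rfl⟩)) i)
  have hmA : (maximalIdeal A).map (algebraMap A H) ≤ (maximalIdeal H₁).map (algebraMap H₁ H) := by
    rw [IsScalarTower.algebraMap_eq A H₁ H, ← Ideal.map_map]
    exact Ideal.map_mono hH₁.map_maximalIdeal_le
  have hf₁ : f - VanCyc.quadEval (fun i j => algebraMap H₁ H (aL i j)) x' ∈
      (maximalIdeal H₁).map (algebraMap H₁ H) ⊔ Ideal.span (Set.range x') ^ 3 := by
    simp only [aL, hAH]
    rw [show f - VanCyc.quadEval (fun i j => algebraMap A H (a' i j)) x' = (f - (x 0 ^ 2 +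
      VanCyc.quadEval (fun i j => algebraMap A H (a' i j)) x')) + x 0 * x 0 by ring]
    refine add_mem ?_ (Ideal.mem_sup_left (Ideal.mul_mem_left _ _ hx0))
    obtain ⟨u, hu, w, hw, huw⟩ := Submodule.mem_sup.1 hf
    rw [← huw]
    exact add_mem (Ideal.mem_sup_left (hmA hu)) (sup_pow_le _ _ 3 (Ideal.pow_right_mono hspan 3 hw))
  obtain ⟨a₁, b₁, ψ, ha₁, hb₁, hψ⟩ := hR.exists_normal_form f aL haL hf₁
  set g : H₁ := -b₁ with hgdef
  have hψ' : ψ.symm f = VanCyc.quadEval (fun i j => algebraMap H₁ H (a₁ i j)) x' + algebraMap H₁ H g := by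
    rw [← hψ, AlgEquiv.symm_apply_apply, hgdef, map_neg, sub_eq_add_neg]
  -- the leading terms
  have hf' : ψ.symm f - (x 0 ^ 2 + VanCyc.quadEval (fun i j => algebraMap A H (a' i j)) (fun i => ψ.symm (x' i))) ∈
      (maximalIdeal A).map (algebraMap A H) ⊔ Ideal.span (Set.range x) ^ 3 := by
    have h1 := hH.aut_mem (ψ.symm.restrictScalars A) 3 hf
    rw [map_sub, map_add, map_pow] at h1
    have h2 : (ψ.symm.restrictScalars A) (x 0) = x 0 := by rw [← he]; exact ψ.symm.commutes _
    rw [h2, show (ψ.symm.restrictScalars A) (VanCyc.quadEval (fun i j => algebraMap A H (a' i j)) x') =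
      VanCyc.quadEval (fun i j => algebraMap A H (a' i j)) (fun i => ψ.symm (x' i)) by
        rw [show ∀ z, (ψ.symm.restrictScalars A) z = ψ.symm.toAlgHom.toRingHom z from fun _ => rfl, map_quadEval]
        simp only [← hAH]
        congr 1
        funext i j
        exact ψ.symm.commutes _] at h1
    exact h1
  let k := ResidueField A
  have hh : ∀ i, ψ.symm (x' i) ∈ maximalIdeal H := fun i hu => hH.mem i.succ (by simpa using hu.map ψ)
  choose cc hcc using fun i => hH.exists_eq_add_sum (ψ.symm (x' i))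
  let L : (Fin (n + 1) → k) → Fin n → k := fun w i => ∑ l, residue A (hH.π (cc i l)) * w l
  let Q' : (Fin n → k) → k := VanCyc.quadEval fun i j => residue A (a' i j)
  let Q₁ : (Fin n → k) → k := VanCyc.quadEval fun i j => residue A (hH₁.π (a₁ i j))
  obtain ⟨g₁, hg₁⟩ := hH₁.exists_eq_add_sum g
  obtain ⟨g₂, hg₂⟩ := hH₁.exists_eq_add_sum (g₁ 0)
  obtain ⟨g₃, hg₃⟩ := hH₁.exists_eq_add_sum (g₂ 0)
  simp only [Fin.sum_univ_one] at hg₁ hg₂ hg₃
  set γ₀ := residue A (hH₁.π g)
  set γ₁ := residue A (hH₁.π (g₁ 0))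
  set γ₂ := residue A (hH₁.π (g₂ 0))
  have key : ∀ w : Fin (n + 1) → k, γ₀ = 0 ∧ w 0 * γ₁ = 0 ∧
      w 0 ^ 2 + Q' (L w) = Q₁ (fun i => w i.succ) + w 0 ^ 2 * γ₂ := by
    intro w
    let T := Tr k 1 3
    let t : T := Ideal.Quotient.mk _ (X 0)
    let κ : A →+* T := algebraMap A T
    have hκ : ∀ a, κ a = algebraMap k T (residue A a) := fun a => IsScalarTower.algebraMap_apply A k T a
    have ht3 : ∀ z : T, t ^ 3 * z = 0 := fun z => by
      rw [show t ^ 3 = Ideal.Quotient.mk _ (X 0 ^ 3) from (map_pow _ _ _).symm, Ideal.Quotient.eq_zero_iff_mem.2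
        (Ideal.pow_mem_pow (show (X 0 : MvPolynomial (Fin 1) k) ∈ idealOfVars (Fin 1) k from Ideal.subset_span ⟨0, rfl⟩) 3), zero_mul]
    have htm : t ∈ maximalIdeal T := mk_mem_maximalIdeal (by simp)
    have hwm : ∀ i, algebraMap k T (w i) * t ∈ maximalIdeal T := fun i => Ideal.mul_mem_left _ _ htm
    let G : H →ₐ[A] T := hH.lift (fun i => algebraMap k T (w i) * t) hwm
    have hG : ∀ i, G (x i) = algebraMap k T (w i) * t := hH.lift_x _ _
    have hGm : ∀ z ∈ maximalIdeal H, ∃ r, G z = t * r := fun z hz => by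
      obtain ⟨c, hc⟩ := hH.exists_eq_add_sum z
      refine ⟨∑ i, algebraMap k T (w i) * G (c i), ?_⟩
      rw [hc, map_add, AlgHom.commutes, IsScalarTower.algebraMap_apply A k T, show algebraMap A k (hH.π z) = 0 from
        (residue_eq_zero_iff _).2 (hH.π_mem z hz), map_zero, zero_add, map_sum, Finset.mul_sum]
      exact Finset.sum_congr rfl fun i _ => by rw [map_mul, hG]; ring
    have hG1 : ∀ z, ∃ r, G z = algebraMap k T (residue A (hH.π z)) + t * r := fun z => by
      obtain ⟨r, hr⟩ := hGm _ (hH.span_le_maximalIdeal (hH.sub_π_mem z))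
      refine ⟨r, ?_⟩
      rw [map_sub, AlgHom.commutes, IsScalarTower.algebraMap_apply A k T] at hr
      rw [← hr]
      exact (add_sub_cancel _ _).symm
    have hker : ∀ z ∈ (maximalIdeal A).map (algebraMap A H) ⊔ Ideal.span (Set.range x) ^ 3, G z = 0 := fun z hz => by
      have h2 : (maximalIdeal A).map (algebraMap A H) ⊔ Ideal.span (Set.range x) ^ 3 ≤ RingHom.ker G.toRingHom := by
        refine sup_le (Ideal.map_le_iff_le_comap.2 fun a ha => ?_) ?_
        · show G (algebraMap A H a) = 0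
          rw [AlgHom.commutes, IsScalarTower.algebraMap_apply A k T, show algebraMap A k a = 0 from
            (residue_eq_zero_iff _).2 ha, map_zero]
        · intro q hq
          have h3 := Ideal.mem_map_of_mem G.toRingHom hq
          rw [Ideal.map_pow] at h3
          have h4 : (Ideal.span (Set.range x)).map G.toRingHom ≤ Ideal.span {t} := by
            rw [Ideal.map_le_iff_le_comap]
            intro z hz
            obtain ⟨r, hr⟩ := hGm z (hH.span_le_maximalIdeal hz)
            exact Ideal.mem_span_singleton.2 ⟨r, hr⟩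
          have h5 := Ideal.pow_right_mono h4 3 h3
          rw [Ideal.span_singleton_pow, Ideal.mem_span_singleton] at h5
          obtain ⟨r, hr⟩ := h5
          exact hr.trans (ht3 r)
      exact h2 hz
    -- the images
    have hGh : ∀ i, ∃ r, G (ψ.symm (x' i)) = t * (algebraMap k T (L w i) + t * r) := fun i => by
      choose r hr using fun l => hG1 (cc i l)
      refine ⟨∑ l, algebraMap k T (w l) * r l, ?_⟩
      rw [hcc i, map_add, AlgHom.commutes, IsScalarTower.algebraMap_apply A k T, show algebraMap A k (hH.π (ψ.symm (x' i))) = 0 from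
        (residue_eq_zero_iff _).2 (hH.π_mem _ (hh i)), map_zero, zero_add, map_sum]
      simp only [L, map_sum, Finset.mul_sum, ← Finset.sum_add_distrib]
      exact Finset.sum_congr rfl fun l _ => by rw [map_mul, hG, hr, map_mul]; ring
    choose r hr using hGh
    have hGa : ∀ i j, ∃ r, G (algebraMap H₁ H (a₁ i j)) = algebraMap k T (residue A (hH₁.π (a₁ i j))) + t * r :=
      fun i j => by
      obtain ⟨s, hs⟩ := hH₁.exists_eq_add_sum (a₁ i j)
      rw [Fin.sum_univ_one] at hs
      refine ⟨algebraMap k T (w 0) * G (algebraMap H₁ H (s 0)), ?_⟩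
      conv_lhs => rw [hs, map_add, map_add, hAH, AlgHom.commutes, map_mul, map_mul, he, hG]
      rw [IsScalarTower.algebraMap_apply A k T]
      show algebraMap k T (residue A (hH₁.π (a₁ i j))) + _ = _
      ring
    choose ra hra using hGa
    have hGg : G (algebraMap H₁ H g) = algebraMap k T γ₀ + algebraMap k T (w 0 * γ₁) * t +
        algebraMap k T (w 0 ^ 2 * γ₂) * t ^ 2 := by
      rw [hg₁, hg₂, hg₃]
      simp only [map_add, map_mul, hAH, AlgHom.commutes, he, hG, IsScalarTower.algebraMap_apply A k T, map_pow]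
      show algebraMap k T γ₀ + algebraMap k T (w 0) * t * (algebraMap k T γ₁ + algebraMap k T (w 0) * t *
        (algebraMap k T γ₂ + algebraMap k T (w 0) * t * G (algebraMap H₁ H (g₃ 0)))) = _
      linear_combination (algebraMap k T (w 0)) ^ 3 * ht3 (G (algebraMap H₁ H (g₃ 0)))
    have hQ : ∀ (v : Fin n → k) (r : Fin n → T) (b : Fin n → Fin n → k) (d : Fin n → Fin n → T),
        VanCyc.quadEval (fun i j => algebraMap k T (b i j) + t * d i j)
          (fun i => t * (algebraMap k T (v i) + t * r i)) = algebraMap k T (VanCyc.quadEval b v) * t ^ 2 := by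
      intro v r b d
      rw [quadEval_smul, map_quadEval]
      simp only [VanCyc.quadEval]
      rw [Finset.mul_sum, Finset.sum_mul]
      refine Finset.sum_congr rfl fun i _ => ?_
      rw [Finset.mul_sum, Finset.sum_mul]
      refine Finset.sum_congr rfl fun j _ => ?_
      split_ifs
      · linear_combination (algebraMap k T (b i j) * r i * algebraMap k T (v j) +
          algebraMap k T (b i j) * algebraMap k T (v i) * r j + t * algebraMap k T (b i j) * r i * r j +
          d i j * (algebraMap k T (v i) + t * r i) * (algebraMap k T (v j) + t * r j)) * ht3 1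
      · simp
    have h1 := hker _ hf'
    rw [hψ', map_sub, map_add, map_add, map_pow, hG, hGg, show G (VanCyc.quadEval (fun i j => algebraMap A H (a' i j))
        (fun i => ψ.symm (x' i))) = algebraMap k T (Q' (L w)) * t ^ 2 by
        rw [show ∀ z, G z = G.toRingHom z from fun _ => rfl, map_quadEval,
          show (fun i => G.toRingHom (ψ.symm (x' i))) = fun i => t * (algebraMap k T (L w i) + t * r i) from funext hr,
          show (fun i j => G.toRingHom (algebraMap A H (a' i j))) = fun i j =>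
            algebraMap k T (residue A (a' i j)) + t * 0 from funext fun i => funext fun j => by
              rw [mul_zero, add_zero]; exact (G.commutes _).trans (IsScalarTower.algebraMap_apply A k T _)]
        exact hQ _ _ _ _,
      show G (VanCyc.quadEval (fun i j => algebraMap H₁ H (a₁ i j)) x') =
          algebraMap k T (Q₁ fun i => w i.succ) * t ^ 2 by
        rw [show ∀ z, G z = G.toRingHom z from fun _ => rfl, map_quadEval,
          show (fun i => G.toRingHom (x' i)) = fun i => t * (algebraMap k T (w i.succ) + t * 0) from funext fun i => by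
            rw [mul_zero, add_zero, mul_comm]; exact hG _,
          show (fun i j => G.toRingHom (algebraMap H₁ H (a₁ i j))) = fun i j =>
            algebraMap k T (residue A (hH₁.π (a₁ i j))) + t * ra i j from funext fun i => funext fun j => hra i j]
        exact hQ _ _ _ _] at h1
    obtain ⟨e0, e1, e2⟩ := tr_line_eq_zero (c₀ := γ₀) (c₁ := w 0 * γ₁)
      (c₂ := Q₁ (fun i => w i.succ) + w 0 ^ 2 * γ₂ - (w 0 ^ 2 + Q' (L w))) (by
        rw [map_sub, map_add, map_add, map_pow (algebraMap k T) (w 0) 2]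
        simp only [map_mul, map_pow] at h1 ⊢
        linear_combination h1)
    exact ⟨e0, e1, (sub_eq_zero.1 e2).symm⟩
  -- consequences
  let M : Matrix (Fin n) (Fin n) k := fun i l => residue A (hH.π (cc i l.succ))
  let v : Fin n → k := fun i => residue A (hH.π (cc i 0))
  have hLw : ∀ (s : k) (w' : Fin n → k), L (Fin.cons s w') = M.mulVec w' + s • v := fun s w' => funext fun i => by
    simp only [L, Fin.sum_univ_succ, Fin.cons_zero, Fin.cons_succ, Pi.add_apply, Pi.smul_apply, smul_eq_mul,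
      Matrix.mulVec, dotProduct, M, v]
    ring
  have hk0 : ∀ w', Q₁ w' = 1 * Q' (M.mulVec w') := fun w' => by
    have h1 := (key (Fin.cons 0 w')).2.2
    rw [hLw, zero_smul, add_zero, Fin.cons_zero] at h1
    simpa [Fin.cons_succ] using h1.symm
  have hP₁ := polar_congr _ _ M 1 hk0
  have hP₁det : IsUnit (VanCyc.polarMatrix fun i j => residue A (hH₁.π (a₁ i j))).det := by
    have h1 := (show IsUnit (VanCyc.polarMatrix a₁).det from ha₁).map ((residue A).comp hH₁.π.toRingHom)
    rwa [RingHom.map_det, map_polarMatrix] at h1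
  rw [hP₁, one_smul, Matrix.det_mul, Matrix.det_mul] at hP₁det
  have hMdet : IsUnit M.det := (IsUnit.mul_iff.1 hP₁det).2
  have hP'det : IsUnit (VanCyc.polarMatrix fun i j => residue A (a' i j)).det :=
    (IsUnit.mul_iff.1 (IsUnit.mul_iff.1 hP₁det).1).2
  have hcross : ∀ w', ∑ p, ∑ q, M.mulVec w' p * VanCyc.polarMatrix (fun i j => residue A (a' i j)) p q * v q = 0 :=
    fun w' => by
    have h1 := (key (Fin.cons 1 w')).2.2
    have h0 := (key (Fin.cons 1 0)).2.2
    rw [hLw, one_smul, Fin.cons_zero] at h1 h0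
    simp only [Fin.cons_succ, Matrix.mulVec_zero, zero_add] at h1 h0
    have hQz : Q₁ (0 : Fin n → k) = 0 := by simp [Q₁, VanCyc.quadEval]
    rw [show (fun i : Fin n => (0 : Fin n → k) i) = (0 : Fin n → k) from rfl, hQz, zero_add] at h0
    simp only [Q'] at h1 h0
    rw [quadEval_add] at h1
    have h2 := hk0 w'
    simp only [Q₁, Q', one_mul] at h2 h1
    linear_combination h1 - h0 + h2
  have hv : v = 0 := by
    have hu : IsUnit (M.transpose * VanCyc.polarMatrix (fun i j => residue A (a' i j))).det := by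
      rw [Matrix.det_mul, Matrix.det_transpose]; exact hMdet.mul hP'det
    refine Matrix.mulVec_injective_iff_isUnit.2 ((Matrix.isUnit_iff_isUnit_det _).2 hu) ?_
    rw [Matrix.mulVec_zero]
    funext l
    have h := hcross (Pi.single l 1)
    simp only [Matrix.mulVec_single, MulOpposite.op_one, one_smul, Matrix.col_apply] at h
    rw [← Matrix.mulVec_mulVec]
    simp only [Matrix.mulVec, dotProduct, Matrix.transpose_apply, Finset.mul_sum, Pi.zero_apply]
    simpa only [mul_assoc] using h
  have hγ : γ₀ = 0 ∧ γ₁ = 0 ∧ γ₂ = 1 := by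
    obtain ⟨h0, h1, h2⟩ := key (Fin.cons 1 0)
    rw [Fin.cons_zero, one_mul] at h1
    rw [hLw, one_smul, hv, Matrix.mulVec_zero, zero_add, Fin.cons_zero] at h2
    refine ⟨h0, h1, ?_⟩
    simpa [Q', Q₁, VanCyc.quadEval] using h2.symm
  have hgy : g - y 0 ^ 2 ∈ (maximalIdeal A).map (algebraMap A H₁) ⊔ Ideal.span (Set.range y) ^ 3 := by
    obtain ⟨e0, e1, e2⟩ := hγ
    have h0 : algebraMap A H₁ (hH₁.π g) ∈ (maximalIdeal A).map (algebraMap A H₁) :=
      Ideal.mem_map_of_mem _ ((residue_eq_zero_iff _).1 e0)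
    have h1 : algebraMap A H₁ (hH₁.π (g₁ 0)) ∈ (maximalIdeal A).map (algebraMap A H₁) :=
      Ideal.mem_map_of_mem _ ((residue_eq_zero_iff _).1 e1)
    have h2 : algebraMap A H₁ (hH₁.π (g₂ 0)) - 1 ∈ (maximalIdeal A).map (algebraMap A H₁) := by
      rw [← map_one (algebraMap A H₁), ← map_sub]
      refine Ideal.mem_map_of_mem _ ((residue_eq_zero_iff _).1 ?_)
      rw [map_sub, map_one]
      exact sub_eq_zero.2 e2
    rw [show g - y 0 ^ 2 = (algebraMap A H₁ (hH₁.π g) + y 0 * algebraMap A H₁ (hH₁.π (g₁ 0)) +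
      y 0 ^ 2 * (algebraMap A H₁ (hH₁.π (g₂ 0)) - 1)) + y 0 ^ 3 * g₃ 0 by
        conv_lhs => rw [hg₁, hg₂, hg₃]
        ring]
    exact add_mem (Ideal.mem_sup_left (add_mem (add_mem h0 (Ideal.mul_mem_left _ _ h1)) (Ideal.mul_mem_left _ _ h2)))
      (Ideal.mem_sup_right (Ideal.mul_mem_right _ _ (Ideal.pow_mem_pow (show y 0 ∈ Ideal.span (Set.range y) from Ideal.subset_span ⟨0, rfl⟩) 3)))
  obtain ⟨b, c, u, hb, hc, hgu⟩ := hH₁.exists_weierstrass_two g hgy
  -- change of the form
  let a₂ : Fin n → Fin n → A := fun i j => if i ≤ j then hH₁.π (↑u⁻¹ * a₁ i j) else 0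
  have ha₂ : VanCyc.QuadNondeg a₂ := by
    show IsUnit (VanCyc.polarMatrix a₂).det
    have e : VanCyc.polarMatrix a₂ = hH₁.π (↑u⁻¹ : H₁) • hH₁.π.toRingHom.mapMatrix (VanCyc.polarMatrix a₁) := by
      ext i j
      rw [Matrix.smul_apply, RingHom.mapMatrix_apply, Matrix.map_apply, smul_eq_mul]
      simp only [VanCyc.polarMatrix, a₂]
      rcases lt_trichotomy i j with hij | rfl | hij
      · simp [hij.ne, hij, hij.le]
      · simp [map_ofNat]; ring
      · simp [hij.ne', not_lt.2 hij.le, hij.le]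
    rw [e, Matrix.det_smul, ← RingHom.map_det]
    exact (IsUnit.pow _ ((u⁻¹).isUnit.map hH₁.π)).mul (ha₁.map _)
  let aL₂ : Fin n → Fin n → H₁ := fun i j => algebraMap A H₁ (a₂ i j)
  have haL₂ : VanCyc.QuadNondeg aL₂ := by
    show IsUnit (VanCyc.polarMatrix aL₂).det
    rw [← map_polarMatrix, ← RingHom.map_det]
    exact ha₂.map _
  let h₂ : Fin n → Fin n → H := fun i j => if i ≤ j then algebraMap H₁ H (↑u⁻¹ * a₁ i j) else 0
  obtain ⟨χ, hχ⟩ := hR.exists_morse_congr h₂ aL₂ haL₂
    (fun i j hij => by simp [aL₂, a₂, not_le.2 hij]) fun i j => by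
      have hm : ∀ z : H₁, algebraMap H₁ H (algebraMap A H₁ (hH₁.π z)) - algebraMap H₁ H z ∈ maximalIdeal H :=
        fun z => by
        rw [← map_sub]
        intro hu
        exact hH₁.span_le_maximalIdeal (by rw [← neg_sub]; exact neg_mem (hH₁.sub_π_mem z))
          ((isUnit_map_iff (algebraMap H₁ H) _).1 hu)
      rcases lt_trichotomy i j with hij | rfl | hij
      · simpa [fold, h₂, aL₂, a₂, hij.ne, hij, hij.le, not_le.2 hij] using hm (↑u⁻¹ * a₁ i j)
      · simpa [fold, h₂, aL₂, a₂] using hm (↑u⁻¹ * a₁ i i)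
      · simp [fold, aL₂, a₂, hij.ne', not_lt.2 hij.le, not_le.2 hij]
  refine ⟨a₂, b, c, (χ.trans ψ).restrictScalars A, Units.map (algebraMap H₁ H : H₁ →* H) u⁻¹, ha₂, hb, hc, ?_⟩
  show ψ (χ _) = algebraMap H₁ H ↑u⁻¹ * f
  have hχQ : χ (VanCyc.quadEval (fun i j => algebraMap A H (a₂ i j)) x') =
      algebraMap H₁ H ↑u⁻¹ * VanCyc.quadEval (fun i j => algebraMap H₁ H (a₁ i j)) x' := by
    simp only [← hAH]
    refine hχ.trans ?_
    simp only [VanCyc.quadEval, Finset.mul_sum, h₂]
    refine Finset.sum_congr rfl fun i _ => Finset.sum_congr rfl fun j _ => ?_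
    split_ifs
    · rw [map_mul]; ring
    · simp
  have hp : x 0 ^ 2 + algebraMap A H b * x 0 + algebraMap A H c = algebraMap H₁ H (↑u⁻¹ * g) := by
    rw [hgu, mul_left_comm, Units.inv_mul, mul_one, map_add, map_add, map_mul, map_pow, he, hAH, hAH]
  rw [hp, map_add, AlgEquiv.commutes, hχQ, map_add, AlgEquiv.commutes, map_mul ψ, AlgEquiv.commutes, map_mul,
    ← mul_add]
  congr 1
  rw [← hψ, map_sub, AlgEquiv.commutes, hgdef, map_neg]
  ring

end IsAffHens

end Groth.L28.HensModel
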