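import Groth.Agent.L28.HensModel.Point

/-!
Generators and the leading relation at a rational geometrically quadratic point.
-/

set_option autoImplicit false
set_option linter.style.haveILetI false
set_option maxHeartbeats 1000000

noncomputable section

open IsLocalRing MvPolynomial TensorProduct

namespace Groth.L28.HensModel

universe u

variable {k K O : Type u} [Field k] [Field K] [Algebra k K] [CommRing O] [Algebra k O] {N : ℕ}

/-- Applying a functional to the scalars. -/
def scal (π : K →ₗ[k] k) : K ⊗[k] O →ₗ[k] O := (TensorProduct.lid k O).toLinearMap.comp (π.rTensor O)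

theorem scal_tmul (π : K →ₗ[k] k) (c : K) (b : O) : scal π (c ⊗ₜ b) = π c • b := by simp [scal]

theorem scal_mul (π : K →ₗ[k] k) (r : K ⊗[k] O) (b : O) : scal π (r * ((1 : K) ⊗ₜ b)) = scal π r * b := by
  induction r using TensorProduct.induction_on with
  | zero => simp
  | tmul c b' => rw [Algebra.TensorProduct.tmul_mul_tmul, mul_one, scal_tmul, scal_tmul, smul_mul_assoc]
  | add u v hu hv => rw [add_mul, map_add, hu, hv, map_add, add_mul]

theorem scal_mem (π : K →ₗ[k] k) (J : Ideal O) {r : K ⊗[k] O}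
    (hr : r ∈ J.map (Algebra.TensorProduct.includeRight : O →ₐ[k] K ⊗[k] O)) : scal π r ∈ J := by
  suffices h : ∀ s, scal π (s * r) ∈ J by simpa using h 1
  induction hr using Submodule.span_induction with
  | mem y hy =>
    obtain ⟨b, hb, rfl⟩ := hy
    intro s
    rw [Algebra.TensorProduct.includeRight_apply, scal_mul]
    exact J.mul_mem_left _ hb
  | zero => intro s; simp
  | add u v _ _ hu hv => intro s; rw [mul_add, map_add]; exact add_mem (hu s) (hv s)
  | smul c u _ hu => intro s; rw [smul_eq_mul, ← mul_assoc]; exact hu _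

/-- Applying a functional to the coefficients. -/
def coef (π : K →ₗ[k] k) (p : MvPolynomial (Fin N) K) : MvPolynomial (Fin N) k :=
  ∑ d ∈ p.support, monomial d (π (coeff d p))

theorem coeff_coef (π : K →ₗ[k] k) (p : MvPolynomial (Fin N) K) (d : Fin N →₀ ℕ) :
    coeff d (coef π p) = π (coeff d p) := by
  classical
  simp only [coef, coeff_sum, coeff_monomial, Finset.sum_ite_eq']
  split_ifs with h
  · rfl
  · rw [notMem_support_iff.1 h, map_zero]

theorem coef_add (π : K →ₗ[k] k) (p q : MvPolynomial (Fin N) K) : coef π (p + q) = coef π p + coef π q := by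
  ext d; simp [coeff_coef]

theorem coef_map_mul (π : K →ₗ[k] k) (p : MvPolynomial (Fin N) k) (q : MvPolynomial (Fin N) K) :
    coef π (MvPolynomial.map (algebraMap k K) p * q) = p * coef π q := by
  classical
  ext d
  rw [coeff_coef, coeff_mul, coeff_mul, map_sum]
  refine Finset.sum_congr rfl fun x _ => ?_
  rw [coeff_map, coeff_coef, ← Algebra.smul_def, map_smul, smul_eq_mul]

theorem coef_map (π : K →ₗ[k] k) (h1 : π 1 = 1) (p : MvPolynomial (Fin N) k) :
    coef π (MvPolynomial.map (algebraMap k K) p) = p := by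
  ext d
  rw [coeff_coef, coeff_map, Algebra.algebraMap_eq_smul_one, map_smul, h1, smul_eq_mul, mul_one]

theorem coef_mem (π : K →ₗ[k] k) (j : ℕ) {p : MvPolynomial (Fin N) K} (hp : p ∈ idealOfVars (Fin N) K ^ j) :
    coef π p ∈ idealOfVars (Fin N) k ^ j := by
  rw [mem_pow_idealOfVars_iff'] at hp ⊢
  intro d hd
  rw [coeff_coef, hp d hd, map_zero]

theorem coef_sum (π : K →ₗ[k] k) {ι : Type*} (s : Finset ι) (f : ι → MvPolynomial (Fin N) K) :
    coef π (∑ i ∈ s, f i) = ∑ i ∈ s, coef π (f i) := by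
  ext d; simp [coeff_coef, coeff_sum]

theorem coef_quadPoly (π : K →ₗ[k] k) (t : Fin N → Fin N → K) :
    coef π (VanCyc.quadPoly t) = VanCyc.quadPoly fun i j => π (t i j) := by
  classical
  simp only [VanCyc.quadPoly, coef_sum]
  refine Finset.sum_congr rfl fun i _ => Finset.sum_congr rfl fun j _ => ?_
  split_ifs
  · ext d
    rw [coeff_coef, mul_assoc, coeff_C_mul, mul_assoc, coeff_C_mul,
      show (X i * X j : MvPolynomial (Fin N) K) = MvPolynomial.map (algebraMap k K) (X i * X j) by simp,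
      coeff_map, ← Algebra.commutes, ← Algebra.smul_def, map_smul, smul_eq_mul, mul_comm]
  · ext d; simp [coeff_coef]

theorem scal_aeval (π : K →ₗ[k] k) (z : Fin N → O) (p : MvPolynomial (Fin N) K) :
    scal π (aeval (fun i => (1 : K) ⊗ₜ[k] z i) p) = aeval z (coef π p) := by
  induction p using MvPolynomial.induction_on' with
  | monomial d c =>
    have h : coef π (monomial d c) = monomial d (π c) := by
      classical
      ext e
      rw [coeff_coef, coeff_monomial, coeff_monomial]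
      split_ifs <;> simp
    rw [h, aeval_monomial, aeval_monomial, Algebra.TensorProduct.algebraMap_apply, Algebra.algebraMap_self,
      RingHom.id_apply, Finsupp.prod, Finsupp.prod]
    simp only [Algebra.TensorProduct.tmul_pow, one_pow]
    rw [show ∏ x ∈ d.support, ((1 : K) ⊗ₜ[k] (z x ^ d x)) = (1 : K) ⊗ₜ[k] ∏ x ∈ d.support, z x ^ d x from
      (map_prod (Algebra.TensorProduct.includeRight : O →ₐ[k] K ⊗[k] O) _ _).symm,
      Algebra.TensorProduct.tmul_mul_tmul, mul_one, one_mul, scal_tmul, Algebra.smul_def]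
  | add p q hp hq => rw [map_add, map_add, hp, hq, coef_add, map_add]

theorem aeval_map_eq (z : Fin N → O) (p : MvPolynomial (Fin N) k) :
    aeval (fun i => (1 : K) ⊗ₜ[k] z i) (MvPolynomial.map (algebraMap k K) p) = (1 : K) ⊗ₜ[k] aeval z p := by
  rw [MvPolynomial.aeval_map_algebraMap]
  exact (MvPolynomial.comp_aeval_apply z (Algebra.TensorProduct.includeRight : O →ₐ[k] K ⊗[k] O) p).symm

theorem polar_congr {F : Type u} [CommRing F] (t a : Fin N → Fin N → F) (T : Matrix (Fin N) (Fin N) F) (c : F)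
    (h : ∀ v, VanCyc.quadEval t v = c * VanCyc.quadEval a (T.mulVec v)) :
    VanCyc.polarMatrix t = c • (T.transpose * VanCyc.polarMatrix a * T) := by
  classical
  have key : ∀ v w : Fin N → F, ∑ p, ∑ q, v p * VanCyc.polarMatrix t p q * w q =
      c * ∑ p, ∑ q, T.mulVec v p * VanCyc.polarMatrix a p q * T.mulVec w q := fun v w => by
    have e := h (v + w)
    rw [quadEval_add, Matrix.mulVec_add, quadEval_add, h v, h w] at e
    linear_combination e
  ext p q
  have e := key (Pi.single p 1) (Pi.single q 1)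
  simp only [Pi.single_apply, ite_mul, one_mul, zero_mul, mul_ite, mul_one, mul_zero, Finset.sum_ite_eq',
    Finset.sum_ite_irrel, Finset.sum_const_zero, Finset.mem_univ, if_true, Matrix.mulVec_single, MulOpposite.op_one,
    one_smul, Matrix.col_apply] at e
  rw [e, Matrix.smul_apply, smul_eq_mul, Matrix.mul_apply]
  simp only [Matrix.mul_apply, Matrix.transpose_apply, Finset.sum_mul]
  rw [Finset.sum_comm]

variable [IsLocalRing O]

set_option backward.isDefEq.respectTransparency.types false in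
theorem exists_generators_form [IsNoetherianRing (K ⊗[k] O)] [IsNoetherianRing O]
    (Pr : (Fin N → Fin N → K) → Prop) (hPr : ∀ a, Pr a → 0 < N → VanCyc.quadPoly a ≠ 0)
    (hM : ∀ (M : Ideal (K ⊗[k] O)) [M.IsMaximal], ∃ a : Fin N → Fin N → K, Pr a ∧ HasTrunc M a)
    (hrat : ∀ y : O, ∃ c : k, y - algebraMap k O c ∈ maximalIdeal O) (S : Set O)
    (hS : Ideal.span S = maximalIdeal O) :
    ∃ (z : Fin N → O) (a₀ : Fin N → Fin N → k), (∀ i, z i ∈ S) ∧ Ideal.span (Set.range z) = maximalIdeal O ∧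
      (∃ (a : Fin N → Fin N → K) (T : Matrix (Fin N) (Fin N) K) (c : K), Pr a ∧ c ≠ 0 ∧ IsUnit T.det ∧
        ∀ w, VanCyc.quadEval (fun i j => algebraMap k K (a₀ i j)) w = c * VanCyc.quadEval a (T.mulVec w)) ∧
      aeval z (VanCyc.quadPoly a₀) ∈ maximalIdeal O ^ 3 ∧
      ∀ j, 3 ≤ j → ∀ p : MvPolynomial (Fin N) k, p - VanCyc.quadPoly a₀ ∈ idealOfVars (Fin N) k ^ 3 →
        aeval z p ∈ maximalIdeal O ^ j → ∀ h, aeval z h ∈ maximalIdeal O ^ j →
          h ∈ Ideal.span {p} ⊔ idealOfVars (Fin N) k ^ j := by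
  classical
  let R := K ⊗[k] O
  let inc : O →ₐ[k] R := Algebra.TensorProduct.includeRight
  let M : Ideal R := (maximalIdeal O).map inc
  -- rationality
  have hbij : Function.Bijective (Algebra.ofId k (ResidueField O)) := by
    refine ⟨(algebraMap k (ResidueField O)).injective, fun l => ?_⟩
    obtain ⟨y, rfl⟩ := residue_surjective l
    obtain ⟨c, hc⟩ := hrat y
    exact ⟨c, (sub_eq_zero.1 ((map_sub (residue O) _ _).symm.trans ((residue_eq_zero_iff _).2 hc))).symm⟩
  let ε : O →ₐ[k] k := (AlgEquiv.ofBijective _ hbij).symm.toAlgHom.comp (IsScalarTower.toAlgHom k O (ResidueField O))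
  have hε : ∀ y, y - algebraMap k O (ε y) ∈ maximalIdeal O := fun y => by
    rw [← residue_eq_zero_iff, map_sub, sub_eq_zero]
    exact ((AlgEquiv.ofBijective _ hbij).apply_symm_apply _).symm
  have hε0 : ∀ y ∈ maximalIdeal O, ε y = 0 := fun y hy => by
    show (AlgEquiv.ofBijective _ hbij).symm (residue O y) = 0
    rw [(residue_eq_zero_iff y).2 hy, map_zero]
  let χ₀ : R →ₐ[K] K := Algebra.TensorProduct.lift (AlgHom.id K K) ((Algebra.ofId k K).comp ε) fun _ _ => Commute.all _ _
  have hsub : ∀ r, r - algebraMap K R (χ₀ r) ∈ M := fun r => by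
    induction r using TensorProduct.induction_on with
    | zero => simp
    | tmul c b =>
      have e : c ⊗ₜ[k] b - algebraMap K R (χ₀ (c ⊗ₜ b)) = (c ⊗ₜ[k] (1 : O)) * inc (b - algebraMap k O (ε b)) := by
        rw [Algebra.TensorProduct.lift_tmul, AlgHom.id_apply, Algebra.TensorProduct.includeRight_apply,
          Algebra.TensorProduct.tmul_mul_tmul, mul_one, one_mul, TensorProduct.tmul_sub]
        congr 1
        show (c * algebraMap k K (ε b)) ⊗ₜ[k] (1 : O) = c ⊗ₜ[k] algebraMap k O (ε b)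
        rw [mul_comm, ← Algebra.smul_def, TensorProduct.smul_tmul, ← Algebra.algebraMap_eq_smul_one]
      rw [e]
      exact Ideal.mul_mem_left _ _ (Ideal.mem_map_of_mem _ (hε b))
    | add u v hu hv => rw [map_add, map_add, add_sub_add_comm]; exact add_mem hu hv
  have hMker : M = RingHom.ker χ₀.toRingHom := by
    refine le_antisymm (Ideal.map_le_iff_le_comap.2 fun y hy => ?_) fun r hr => ?_
    · show χ₀ ((1 : K) ⊗ₜ[k] y) = 0
      rw [Algebra.TensorProduct.lift_tmul, AlgHom.comp_apply, hε0 y hy, map_zero, mul_zero]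
    · have := hsub r
      rwa [show χ₀ r = 0 from hr, map_zero, sub_zero] at this
  haveI : M.IsMaximal := hMker ▸ RingHom.ker_isMaximal_of_surjective _ fun c => ⟨algebraMap K R c, χ₀.commutes c⟩
  obtain ⟨a, ha, htr⟩ := hM M
  -- generators
  obtain ⟨Λ₂, hs₂, hk₂⟩ := htr 2
  obtain ⟨χ, δ, hχM, hχ, hδ⟩ := HasTrunc.exists_tangent M le_rfl Λ₂ hs₂ hk₂
  have hfst : ∀ i r, TrivSqZeroExt.fst (δ i r) = χ r := fun i r => by
    obtain ⟨p, hp⟩ := hs₂ (Ideal.Quotient.mk _ r)
    rw [hδ i p r hp, hχ p r hp]; simp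
  let ℓ : R →ₗ[K] (Fin N → K) := LinearMap.pi fun i =>
    { toFun := fun r => TrivSqZeroExt.snd (δ i r)
      map_add' := fun r r' => by rw [map_add, TrivSqZeroExt.snd_add]
      map_smul' := fun c r => by rw [map_smul, TrivSqZeroExt.snd_smul]; rfl }
  have hℓmul : ∀ r u, u ∈ M → ℓ (r * u) = χ r • ℓ u := fun r u hu => funext fun i => by
    show TrivSqZeroExt.snd (δ i (r * u)) = χ r * TrivSqZeroExt.snd (δ i u)
    rw [map_mul, TrivSqZeroExt.snd_mul, hfst, hfst, (hχM u).2 hu]
    simp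
  have hℓker : ∀ u ∈ M, ℓ u = 0 → u ∈ M ^ 2 := fun u hu h0 => by
    obtain ⟨p, hp⟩ := hs₂ (Ideal.Quotient.mk _ u)
    rw [← Ideal.Quotient.eq_zero_iff_mem, ← hp, hk₂]
    refine Ideal.mem_sup_right ?_
    rw [mem_pow_idealOfVars_iff']
    intro x hx
    rcases Groth.L28.PSer.degree_le_one (show x.degree ≤ 1 by omega) with rfl | ⟨i, rfl⟩
    · rw [← constantCoeff_eq, ← hχ p u hp, (hχM u).2 hu]
    · have := congrFun h0 i
      change TrivSqZeroExt.snd (δ i u) = 0 at this
      rw [hδ i p u hp] at this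
      simpa using this
  have hspan : Submodule.span K (ℓ '' (inc '' S)) = ⊤ := by
    have hmem : ∀ u ∈ M, ℓ u ∈ Submodule.span K (ℓ '' (inc '' S)) := fun u hu => by
      have hM' : M = Ideal.span (inc '' S) := by
        show (maximalIdeal O).map inc = _
        rw [← hS, Ideal.map_span]
      rw [hM'] at hu
      induction hu using Submodule.span_induction with
      | mem y hy => exact Submodule.subset_span ⟨y, hy, rfl⟩
      | zero => simp
      | add x y _ _ hx hy => rw [map_add]; exact add_mem hx hy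
      | smul r y hy' hy => rw [smul_eq_mul, hℓmul r y (hM' ▸ hy')]; exact Submodule.smul_mem _ _ hy
    refine eq_top_iff.2 ((Pi.basisFun K (Fin N)).span_eq.ge.trans (Submodule.span_le.2 ?_))
    rintro _ ⟨i, rfl⟩
    obtain ⟨r, hr⟩ := Ideal.Quotient.mk_surjective (Λ₂ (X i))
    have h0 : χ r = 0 := by rw [hχ (X i) r hr.symm, constantCoeff_X]
    rw [show Pi.basisFun K (Fin N) i = ℓ r from funext fun l => ?_]
    · exact hmem r ((hχM r).1 h0)
    show _ = TrivSqZeroExt.snd (δ l r)
    rw [hδ l (X i) r hr.symm, Pi.basisFun_apply]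
    rcases eq_or_ne l i with rfl | hne
    · simp
    · simp [hne, coeff_X, Finsupp.single_left_inj, hne.symm]
  obtain ⟨b, hbs, hbspan, hbli⟩ := exists_linearIndependent K (ℓ '' (inc '' S))
  let Bb : Module.Basis b K (Fin N → K) := Module.Basis.mk hbli (by rw [Subtype.range_coe, hbspan, hspan])
  let e := Bb.indexEquiv (Pi.basisFun K (Fin N))
  let Bz := Bb.reindex e
  have hex : ∀ i, ∃ z ∈ S, ℓ (inc z) = Bz i := fun i => by
    obtain ⟨_, ⟨z, hz, rfl⟩, hz'⟩ := hbs (e.symm i).2
    exact ⟨z, hz, by rw [Module.Basis.reindex_apply, Module.Basis.mk_apply, hz']⟩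
  choose z hzS hz using hex
  have hzm : ∀ i, z i ∈ maximalIdeal O := fun i => hS ▸ Ideal.subset_span (hzS i)
  let zK : Fin N → R := fun i => (1 : K) ⊗ₜ[k] z i
  have hzK : ∀ i, zK i ∈ M := fun i => Ideal.mem_map_of_mem inc (hzm i)
  obtain ⟨π₁, hπ₁'⟩ := (Algebra.linearMap k K).exists_leftInverse_of_injective
    (LinearMap.ker_eq_bot.2 (algebraMap k K).injective)
  have hπ₁ : π₁ 1 = 1 := by simpa using LinearMap.congr_fun hπ₁' 1
  have hspanz : Ideal.span (Set.range z) = maximalIdeal O := by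
    refine le_antisymm (Ideal.span_le.2 (Set.range_subset_iff.2 hzm)) ?_
    refine Submodule.le_of_le_smul_of_le_jacobson_bot (IsNoetherian.noetherian _)
      (IsLocalRing.maximalIdeal_le_jacobson ⊥) fun y hy => ?_
    have hu : inc y ∈ M := Ideal.mem_map_of_mem inc hy
    set c := Bz.repr (ℓ (inc y))
    have hd : inc y - ∑ i, c i • zK i ∈ M ^ 2 := by
      refine hℓker _ (sub_mem hu (sum_mem fun i _ => by rw [Algebra.smul_def]; exact Ideal.mul_mem_left _ _ (hzK i))) ?_
      rw [map_sub, map_sum, sub_eq_zero]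
      refine (Bz.sum_repr _).symm.trans (Finset.sum_congr rfl fun i _ => ?_)
      rw [map_smul, ← hz]
      rfl
    have h1 := scal_mem π₁ (maximalIdeal O ^ 2) (by rw [Ideal.map_pow]; exact hd)
    rw [map_sub, map_sum, show inc y = (1 : K) ⊗ₜ[k] y from rfl, scal_tmul, hπ₁, one_smul] at h1
    rw [← sub_add_cancel y (∑ i, scal π₁ (c i • zK i))]
    refine add_mem (Submodule.mem_sup_right (by show _ ∈ maximalIdeal O * maximalIdeal O; rwa [sq] at h1)) ?_
    refine Submodule.mem_sup_left (sum_mem fun i _ => ?_)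
    rw [show c i • zK i = (c i • (1 : K)) ⊗ₜ[k] z i from rfl, scal_tmul, Algebra.smul_def]
    exact Ideal.mul_mem_left _ _ (Ideal.subset_span ⟨i, rfl⟩)
  have hMz : M = Ideal.span (Set.range zK) := by
    show (maximalIdeal O).map inc = _
    rw [← hspanz, Ideal.map_span, ← Set.range_comp]
    rfl
  -- each level
  have level : ∀ j, 3 ≤ j → ∃ (v : Fin N → MvPolynomial (Fin N) K) (B B' : Matrix (Fin N) (Fin N) K),
      (∀ i, v i ∈ idealOfVars (Fin N) K) ∧ (∀ i, v i - ∑ l, C (B i l) * X l ∈ idealOfVars (Fin N) K ^ 2) ∧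
      B * B' = 1 ∧ ∀ p : MvPolynomial (Fin N) K, aeval zK p ∈ M ^ j ↔
        aeval v p ∈ Ideal.span {VanCyc.quadPoly a} ⊔ idealOfVars (Fin N) K ^ j := by
    intro j hj
    obtain ⟨Λ, hs, hk⟩ := htr j
    obtain ⟨χ', δ', hχM', hχ', hδ'⟩ := HasTrunc.exists_tangent M (by omega) Λ hs hk
    have hfst' : ∀ i r, TrivSqZeroExt.fst (δ' i r) = χ' r := fun i r => by
      obtain ⟨p, hp⟩ := hs (Ideal.Quotient.mk _ r)
      rw [hδ' i p r hp, hχ' p r hp]; simp
    choose v hv using fun i => hs (Ideal.Quotient.mk _ (zK i))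
    have hv0 : ∀ i, v i ∈ idealOfVars (Fin N) K := fun i => by
      rw [mem_idealOfVars_iff, ← hχ' _ _ (hv i), (hχM' _).2 (hzK i)]
    let B : Matrix (Fin N) (Fin N) K := fun i l => coeff (Finsupp.single l 1) (v i)
    have hr : ∀ m, ∃ c : Fin N → K, ∀ l, ∑ i, c i * B i l = (1 : Matrix (Fin N) (Fin N) K) m l := fun m => by
      obtain ⟨r, hr⟩ := Ideal.Quotient.mk_surjective (Λ (X m))
      have hrM : r ∈ M := (hχM' r).1 (by rw [hχ' (X m) r hr.symm, constantCoeff_X])
      obtain ⟨c, hc⟩ := Ideal.mem_span_range_iff_exists_fun.1 (hMz ▸ hrM)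
      refine ⟨fun i => χ' (c i), fun l => ?_⟩
      have h1 := congrArg (fun t => TrivSqZeroExt.snd (δ' l t)) hc
      simp only [map_sum, map_mul, TrivSqZeroExt.snd_sum, TrivSqZeroExt.snd_mul, hfst', (hχM' _).2 (hzK _)] at h1
      simp only [hδ' l _ _ (hv _), hδ' l _ _ hr.symm] at h1
      simp only [TrivSqZeroExt.snd_add, TrivSqZeroExt.snd_inl, TrivSqZeroExt.snd_inr, zero_add, MulOpposite.op_zero,
        zero_smul, add_zero, smul_eq_mul] at h1
      rw [h1]
      rcases eq_or_ne m l with rfl | hne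
      · simp
      · simp [coeff_X, Finsupp.single_left_inj, hne]
    choose Cm hCm using hr
    have hCB : Matrix.of Cm * B = 1 := by ext m l; rw [Matrix.mul_apply]; exact hCm m l
    refine ⟨v, B, Matrix.of Cm, hv0, fun i => ?_, mul_eq_one_comm.1 hCB, fun p => ?_⟩
    · rw [mem_pow_idealOfVars_iff']
      intro x hx
      rcases Groth.L28.PSer.degree_le_one (show x.degree ≤ 1 by omega) with rfl | ⟨m, rfl⟩
      · rw [← constantCoeff_eq, map_sub, (mem_idealOfVars_iff _).1 (hv0 i), map_sum]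
        simp
      · rw [coeff_sub, coeff_sum]
        simp [coeff_C_mul, coeff_X, Finsupp.single_left_inj, B]
    · rw [← Ideal.Quotient.eq_zero_iff_mem, ← hk]
      have : Λ (aeval v p) = Ideal.Quotient.mkₐ K (M ^ j) (aeval zK p) := by
        rw [MvPolynomial.comp_aeval_apply, MvPolynomial.comp_aeval_apply]
        rw [show (fun i => Λ (v i)) = fun i => Ideal.Quotient.mkₐ K (M ^ j) (zK i) from funext hv]
      rw [this]
      rfl
  -- the quadratic relation
  obtain ⟨v, B, B', hv, hvB, hBB, hlev⟩ := level 3 le_rfl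
  obtain ⟨t, ht⟩ := exists_table_lin a B'
  have hGhom : (VanCyc.quadPoly t).IsHomogeneous 2 := Groth.L28.Morse.quadPoly_isHomogeneous t
  have hlin : lin B (lin B' (VanCyc.quadPoly a)) = VanCyc.quadPoly a := lin_lin B' B (mul_eq_one_comm.1 hBB) _
  have hGker : aeval zK (VanCyc.quadPoly t) ∈ M ^ 3 := by
    rw [hlev]
    have hw : ∀ i, ∑ l, C (B i l) * X l ∈ idealOfVars (Fin N) K := fun i =>
      sum_mem fun l _ => Ideal.mul_mem_left _ _ (Ideal.subset_span ⟨l, rfl⟩)
    rw [← sub_add_cancel (aeval v (VanCyc.quadPoly t)) (lin B (VanCyc.quadPoly t))]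
    refine add_mem (Ideal.mem_sup_right (aeval_sub_aeval_mem hv hw hvB 2 _ (quadPoly_mem_sq t)).2) ?_
    rw [← ht, hlin]
    exact Ideal.mem_sup_left (Ideal.mem_span_singleton_self _)
  have hQ0 : 0 < N → VanCyc.quadPoly a ≠ 0 := hPr a ha
  obtain ⟨π, hπG⟩ : ∃ π : K →ₗ[k] k, 0 < N → coef π (VanCyc.quadPoly t) ≠ 0 := by
    rcases Nat.eq_zero_or_pos N with hN | hN
    · exact ⟨0, fun h => absurd h (by omega)⟩
    have hG0 : VanCyc.quadPoly t ≠ 0 := fun h => hQ0 hN (by rw [← hlin, ht, h, map_zero])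
    obtain ⟨d, hd⟩ := MvPolynomial.exists_coeff_ne_zero hG0
    obtain ⟨π, hπ, -⟩ := Submodule.exists_dual_map_eq_bot_of_notMem (p := (⊥ : Submodule k K)) (x := coeff d (VanCyc.quadPoly t)) (by simpa using hd) inferInstance
    exact ⟨π, fun _ h => hπ (by rw [← coeff_coef, h, coeff_zero])⟩
  let a₀ : Fin N → Fin N → k := fun i j => π (t i j)
  have hg₀ : coef π (VanCyc.quadPoly t) = VanCyc.quadPoly a₀ := coef_quadPoly π t
  have hg₀z : aeval z (VanCyc.quadPoly a₀) ∈ maximalIdeal O ^ 3 := by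
    rw [← hg₀, ← scal_aeval]
    exact scal_mem π _ (by rw [Ideal.map_pow]; exact hGker)
  have hup : ∀ j (p : MvPolynomial (Fin N) k), aeval z p ∈ maximalIdeal O ^ j →
      aeval zK (MvPolynomial.map (algebraMap k K) p) ∈ M ^ j := fun j p hp => by
    rw [show zK = fun i => (1 : K) ⊗ₜ[k] z i from rfl, aeval_map_eq, ← Ideal.map_pow]
    exact Ideal.mem_map_of_mem inc hp
  set g := MvPolynomial.map (algebraMap k K) (VanCyc.quadPoly a₀) with hgdef
  have hghom : g.IsHomogeneous 2 := (Groth.L28.Morse.quadPoly_isHomogeneous a₀).map _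
  have hnd : ∃ (a : Fin N → Fin N → K) (T : Matrix (Fin N) (Fin N) K) (c : K), Pr a ∧ c ≠ 0 ∧ IsUnit T.det ∧
      ∀ w, VanCyc.quadEval (fun i j => algebraMap k K (a₀ i j)) w = c * VanCyc.quadEval a (T.mulVec w) := by
    rcases Nat.eq_zero_or_pos N with hN | hN
    · haveI : IsEmpty (Fin N) := hN ▸ Fin.isEmpty
      exact ⟨a, 1, 1, ha, one_ne_zero, by simp, fun w => by simp [VanCyc.quadEval]⟩
    obtain ⟨c, hc, hcg⟩ := (exists_leading a v B hv hvB (by norm_num : 2 < 3) (homogeneous_mem hghom)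
      ((hlev _).1 (hup 3 _ hg₀z))).2
    rw [homogeneousComponent_of_mem hghom, if_pos rfl] at hcg
    obtain ⟨c, rfl⟩ : ∃ s : K, c = C s := ⟨_, totalDegree_eq_zero_iff_eq_C.1 (Nat.le_zero.1 hc.totalDegree_le)⟩
    have hg_eq : g = C c * lin B' (VanCyc.quadPoly a) := by
      rw [← lin_lin B B' hBB g, hcg, map_mul, mul_comm, ← algebraMap_eq, AlgHom.commutes]
    have hc0 : c ≠ 0 := fun h0 => hπG hN (by
      rw [hg₀]
      refine MvPolynomial.map_injective (algebraMap k K) (algebraMap k K).injective ?_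
      rw [map_zero, ← hgdef, hg_eq, h0, C_0, zero_mul])
    let ak : Fin N → Fin N → K := fun i j => algebraMap k K (a₀ i j)
    have hev : ∀ w, VanCyc.quadEval ak w = c * VanCyc.quadEval a (B'.mulVec w) := fun w => by
      have h1 := congrArg (aeval (R := K) w) hg_eq
      rw [hgdef, MvPolynomial.aeval_map_algebraMap, aeval_quadPoly_eq, map_mul, aeval_C, lin,
        ← AlgHom.comp_apply, comp_aeval, aeval_quadPoly_eq] at h1
      rw [show B'.mulVec w = fun i => ∑ x, B' i x * w x from rfl]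
      simpa [ak] using h1
    exact ⟨a, B', c, ha, hc0,
      IsUnit.of_mul_eq_one B.det (by rw [← Matrix.det_mul, mul_eq_one_comm.1 hBB, Matrix.det_one]), hev⟩
  refine ⟨z, a₀, hzS, hspanz, hnd, hg₀z, fun j hj p hp hpz h hh => ?_⟩
  obtain ⟨v', Bj, Bj', hv', hvBj, hBBj, hlevj⟩ := level j hj
  rcases Nat.eq_zero_or_pos N with hN | hN
  · refine Ideal.mem_sup_right ?_
    haveI : IsEmpty (Fin N) := hN ▸ Fin.isEmpty
    rw [mem_pow_idealOfVars_iff']
    intro x hx
    rw [Subsingleton.elim x 0]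
    have h1 : h = C (constantCoeff h) := (MvPolynomial.eq_C_of_isEmpty h).trans (by rw [constantCoeff_eq])
    rw [← constantCoeff_eq]
    by_contra hne
    rw [h1, aeval_C] at hh
    exact IsLocalRing.notMem_maximalIdeal.2 ((isUnit_iff_ne_zero.2 hne).map (algebraMap k O))
      (Ideal.pow_le_self (by omega) hh)
  have hg0 : g ≠ 0 := fun h0 => hπG hN (by
    rw [hg₀]
    exact MvPolynomial.map_injective (algebraMap k K) (algebraMap k K).injective (by rw [map_zero, ← hgdef, h0]))
  have hpg : MvPolynomial.map (algebraMap k K) p - g ∈ idealOfVars (Fin N) K ^ 3 := by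
    rw [hgdef, ← map_sub]
    rw [mem_pow_idealOfVars_iff'] at hp ⊢
    intro x hx
    rw [coeff_map, hp x hx, map_zero]
  have hmem := mem_span_sup_pow a v' Bj Bj' hv' hvBj hBBj hj hghom hg0 hpg ((hlevj _).1 (hup j p hpz))
    ((hlevj _).1 (hup j h hh))
  obtain ⟨y, hy, w, hw, hyw⟩ := Submodule.mem_sup.1 hmem
  obtain ⟨u, rfl⟩ := Ideal.mem_span_singleton.1 hy
  have := congrArg (coef π₁) hyw
  rw [coef_add, coef_map_mul, coef_map π₁ hπ₁] at this
  rw [← this]
  exact add_mem (Ideal.mem_sup_left (Ideal.mem_span_singleton.2 ⟨_, rfl⟩)) (Ideal.mem_sup_right (coef_mem π₁ j hw))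

theorem exists_generators [IsNoetherianRing (K ⊗[k] O)] [IsNoetherianRing O]
    (hM : ∀ (M : Ideal (K ⊗[k] O)) [M.IsMaximal], ∃ a : Fin N → Fin N → K, VanCyc.QuadNondeg a ∧ HasTrunc M a)
    (hrat : ∀ y : O, ∃ c : k, y - algebraMap k O c ∈ maximalIdeal O) (S : Set O)
    (hS : Ideal.span S = maximalIdeal O) :
    ∃ (z : Fin N → O) (a₀ : Fin N → Fin N → k), (∀ i, z i ∈ S) ∧ Ideal.span (Set.range z) = maximalIdeal O ∧
      VanCyc.QuadNondeg a₀ ∧ aeval z (VanCyc.quadPoly a₀) ∈ maximalIdeal O ^ 3 ∧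
      ∀ j, 3 ≤ j → ∀ p : MvPolynomial (Fin N) k, p - VanCyc.quadPoly a₀ ∈ idealOfVars (Fin N) k ^ 3 →
        aeval z p ∈ maximalIdeal O ^ j → ∀ h, aeval z h ∈ maximalIdeal O ^ j →
          h ∈ Ideal.span {p} ⊔ idealOfVars (Fin N) k ^ j := by
  have hPr : ∀ a : Fin N → Fin N → K, VanCyc.QuadNondeg a → 0 < N → VanCyc.quadPoly a ≠ 0 := fun a ha hN h0 => by
    have hz0 : ∀ v : Fin N → K, VanCyc.quadEval a v = 0 := fun v => by
      have h2 := congrArg (aeval (R := K) v) h0
      rwa [aeval_quadPoly_eq, map_zero] at h2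
    have hP := polar_congr a a 1 0 fun v => by simp [hz0]
    rw [zero_smul] at hP
    have : Nonempty (Fin N) := ⟨⟨0, hN⟩⟩
    have hu : IsUnit (VanCyc.polarMatrix a).det := ha
    rw [hP, Matrix.det_zero] at hu
    exact not_isUnit_zero hu
  obtain ⟨z, a₀, hzS, hspan, ⟨a, T, c, ha, hc, hT, hev⟩, h1, h2⟩ :=
    exists_generators_form VanCyc.QuadNondeg hPr hM hrat S hS
  refine ⟨z, a₀, hzS, hspan, ?_, h1, h2⟩
  have hdet : IsUnit (VanCyc.polarMatrix fun i j => algebraMap k K (a₀ i j)).det := by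
    rw [polar_congr _ a T c hev, Matrix.det_smul, Matrix.det_mul, Matrix.det_mul, Matrix.det_transpose]
    exact (IsUnit.pow _ (isUnit_iff_ne_zero.2 hc)).mul ((hT.mul ha).mul hT)
  show IsUnit (VanCyc.polarMatrix a₀).det
  rw [← map_polarMatrix, ← RingHom.map_det] at hdet
  exact isUnit_iff_ne_zero.2 fun h0 => not_isUnit_zero (by rwa [h0, map_zero] at hdet)

end Groth.L28.HensModel
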