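import Groth.Agent.L28.HensModel.Basic
import Groth.Agent.L05.Henselization.StrictUniq
import Groth.Agent.L05.Henselization.Noeth
import Mathlib.RingTheory.Unramified.LocalRing
import Mathlib.RingTheory.Flat.EquationalCriterion
import Mathlib.RingTheory.LocalRing.ResidueField.Ideal

/-!
Presenting a henselization as a quotient of the henselization of affine space.
-/

set_option autoImplicit false
set_option linter.style.haveILetI false
set_option maxHeartbeats 1000000

noncomputable section

open IsLocalRing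

namespace Groth.L28.HensModel

universe u

/-- The kernel of a map to a flat module meets `mH` in `m` times itself. -/
theorem mem_mul_of_flat {A : Type u} [CommRing A] {H B : Type u} [CommRing H] [Algebra A H] [CommRing B]
    [Algebra A B] [Module.Flat A B] (φ : H →ₐ[A] B) (hφ : Function.Surjective φ) (I : Ideal A) {h : H}
    (hk : h ∈ RingHom.ker φ) (hm : h ∈ I.map (algebraMap A H)) :
    h ∈ I.map (algebraMap A H) * RingHom.ker φ := by
  classical
  have hex : ∃ (n : ℕ) (a : Fin n → A) (c : Fin n → H), (∀ i, a i ∈ I) ∧ h = ∑ i, a i • c i := by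
    clear hk
    induction hm using Submodule.span_induction with
    | mem y hy => obtain ⟨a, ha, rfl⟩ := hy; exact ⟨1, fun _ => a, fun _ => 1, fun _ => ha, by simp [Algebra.smul_def]⟩
    | zero => exact ⟨0, Fin.elim0, Fin.elim0, fun i => i.elim0, by simp⟩
    | add y z _ _ hy hz =>
      obtain ⟨n, a, c, ha, rfl⟩ := hy
      obtain ⟨m, b, d, hb, rfl⟩ := hz
      refine ⟨n + m, Fin.append a b, Fin.append c d, fun i => ?_, by simp [Fin.sum_univ_add]⟩
      induction i using Fin.addCases <;> simp [ha, hb]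
    | smul r y _ hy =>
      obtain ⟨n, a, c, ha, rfl⟩ := hy
      exact ⟨n, a, fun i => r * c i, ha, by simp [Finset.mul_sum, mul_smul_comm]⟩
  obtain ⟨n, a, c, ha, rfl⟩ := hex
  have h0 : ∑ i, a i • φ (c i) = 0 := by simpa [RingHom.mem_ker, map_sum] using hk
  obtain ⟨k, r, y, hy, hr⟩ := Module.Flat.iff_forall_isTrivialRelation.1 ‹_› h0
  choose z hz using fun j => hφ (y j)
  have e : ∑ i, a i • c i = ∑ i, algebraMap A H (a i) * (c i - ∑ j, r i j • z j) := by
    have h2 : ∑ i, algebraMap A H (a i) * ∑ j, r i j • z j = 0 := by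
      simp only [Algebra.smul_def, Finset.mul_sum, ← mul_assoc, ← map_mul]
      rw [Finset.sum_comm]
      simp only [← Finset.sum_mul, ← map_sum, hr, map_zero, zero_mul, Finset.sum_const_zero]
    simp only [mul_sub, Finset.sum_sub_distrib, h2, sub_zero]
    exact Finset.sum_congr rfl fun i _ => Algebra.smul_def _ _
  rw [e]
  refine sum_mem fun i _ => Ideal.mul_mem_mul (Ideal.mem_map_of_mem _ (ha i)) ?_
  simp [RingHom.mem_ker, hy, hz, map_sum]

namespace IsAffHens

variable {A : Type u} [CommRing A] [HenselianLocalRing A] {H : Type u} [CommRing H] [IsLocalRing H]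
  [Algebra A H] {N : ℕ} {x : Fin N → H} (hH : IsAffHens A H x)

include hH in
theorem presentation (B₀ : Type u) [CommRing B₀] [Algebra A B₀] [Algebra.FinitePresentation A B₀]
    (P : Ideal B₀) [P.IsMaximal] (hP : (maximalIdeal A).map (algebraMap A B₀) ≤ P) (z : Fin N → B₀)
    (hz : ∀ i, z i ∈ P) (hrat : ∀ y : B₀, ∃ c : A, y - algebraMap A B₀ c ∈ P)
    (hgen : maximalIdeal (Localization.AtPrime P) ≤ (maximalIdeal A).map (algebraMap A (Localization.AtPrime P)) ⊔
      Ideal.span (Set.range fun i => algebraMap B₀ (Localization.AtPrime P) (z i)))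
    (Bh : Type u) [CommRing Bh] [IsLocalRing Bh] [Algebra (Localization.AtPrime P) Bh]
    [IsLocalHom (algebraMap (Localization.AtPrime P) Bh)] [Hensel.IsHenselization (Localization.AtPrime P) Bh]
    [Algebra A Bh] [IsScalarTower A (Localization.AtPrime P) Bh] :
    ∃ φ : H →ₐ[A] Bh, (∀ i, φ (x i) = algebraMap (Localization.AtPrime P) Bh (algebraMap B₀ _ (z i))) ∧
      Function.Surjective φ ∧ (RingHom.ker φ).FG := by
  classical
  haveI := hH.henselian
  haveI := hH.isLocalHom
  let B := Localization.AtPrime P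
  haveI hBh := (inferInstance : Hensel.IsHenselization B Bh).henselian
  let β : B₀ →ₐ[A] Bh := (IsScalarTower.toAlgHom A B Bh).comp (IsScalarTower.toAlgHom A B₀ B)
  have hβ : ∀ y ∈ P, β y ∈ maximalIdeal Bh := fun y hy hu =>
    (IsLocalization.AtPrime.to_map_mem_maximal_iff B P y).2 hy ((isUnit_map_iff (algebraMap B Bh) _).1 hu)
  have hβu : ∀ y ∉ P, IsUnit (β y) := fun y hy =>
    (IsLocalization.map_units B (⟨y, hy⟩ : P.primeCompl)).map (algebraMap B Bh)
  haveI : IsLocalHom (algebraMap A Bh) := ⟨fun a ha => by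
    by_contra hn
    exact hβ _ (hP (Ideal.mem_map_of_mem _ hn)) (by rwa [β.commutes])⟩
  let φ := hH.lift (fun i => β (z i)) fun i => hβ _ (hz i)
  have hφ : ∀ i, φ (x i) = β (z i) := hH.lift_x _ _
  have hφm : ∀ i, φ (x i) ∈ maximalIdeal Bh := fun i => by rw [hφ]; exact hβ _ (hz i)
  haveI : IsLocalHom φ.toRingHom := ((IsLocalRing.local_hom_TFAE φ.toRingHom).out 0 2 rfl rfl).2
    (Ideal.map_le_iff_le_comap.2 fun h hh => hH.map_mem φ hφm hh)
  -- the algebra structures over polynomials
  let R := MvPolynomial (Fin N) A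
  letI : Algebra R B₀ := (MvPolynomial.aeval (R := A) z).toRingHom.toAlgebra
  haveI : IsScalarTower A R B₀ := IsScalarTower.of_algebraMap_eq fun a => by simp [RingHom.algebraMap_toAlgebra]
  haveI : Algebra.FiniteType R B₀ := Algebra.FiniteType.of_restrictScalars_finiteType A R B₀
  have hRX : ∀ i, algebraMap R B₀ (MvPolynomial.X i) = z i := fun i => MvPolynomial.aeval_X z i
  have hRC : ∀ a, algebraMap R B₀ (MvPolynomial.C a) = algebraMap A B₀ a := fun a => MvPolynomial.aeval_C z a
  let p : Ideal R := P.comap (algebraMap R B₀)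
  haveI : p.IsPrime := Ideal.IsPrime.comap _
  haveI : P.LiesOver p := ⟨rfl⟩
  letI : Algebra (Localization.AtPrime p) B := Localization.AtPrime.algebraOfLiesOver p P
  haveI : Algebra.IsUnramifiedAt R P := by
    rw [Algebra.isUnramifiedAt_iff_map_eq R p P]
    have hsurj : Function.Surjective (algebraMap p.ResidueField P.ResidueField) := by
      intro w
      obtain ⟨y, rfl⟩ := Ideal.algebraMap_residueField_surjective P w
      obtain ⟨c, hc⟩ := hrat y
      refine ⟨algebraMap R _ (MvPolynomial.C c), ?_⟩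
      rw [← IsScalarTower.algebraMap_apply, IsScalarTower.algebraMap_apply R B₀ P.ResidueField, eq_comm, ← sub_eq_zero,
        ← map_sub, Ideal.algebraMap_residueField_eq_zero]
      rw [hRC]
      exact hc
    refine ⟨⟨fun w => ?_⟩, le_antisymm ?_ ?_⟩
    · obtain ⟨v, rfl⟩ := hsurj w
      exact isSeparable_algebraMap v
    · rw [Ideal.map_le_iff_le_comap]
      intro q hq
      show algebraMap R B q ∈ maximalIdeal B
      rw [IsScalarTower.algebraMap_apply R B₀ B]
      exact (IsLocalization.AtPrime.to_map_mem_maximal_iff B P _).2 hq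
    · refine hgen.trans (sup_le (Ideal.map_le_iff_le_comap.2 fun a ha => ?_) (Ideal.span_le.2 ?_))
      · rw [Ideal.mem_comap]
        rw [IsScalarTower.algebraMap_apply A B₀ B, IsScalarTower.algebraMap_apply A R B₀,
          ← IsScalarTower.algebraMap_apply R B₀ B]
        refine Ideal.mem_map_of_mem _ (show algebraMap R B₀ (algebraMap A R a) ∈ P from ?_)
        rw [← IsScalarTower.algebraMap_apply A R B₀]
        exact hP (Ideal.mem_map_of_mem _ ha)
      · rintro _ ⟨i, rfl⟩
        show algebraMap B₀ B (z i) ∈ _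
        rw [← hRX i,
          ← IsScalarTower.algebraMap_apply R B₀ B]
        exact Ideal.mem_map_of_mem _ (show algebraMap R B₀ (MvPolynomial.X i) ∈ P by rw [hRX]; exact hz i)
  obtain ⟨s, hs, W, π, hπ⟩ := Algebra.IsUnramifiedAt.exists_hasStandardEtaleSurjectionOn (R := R) P
  letI : Algebra R H := (MvPolynomial.aeval (R := A) x).toRingHom.toAlgebra
  haveI : IsScalarTower A R H := IsScalarTower.of_algebraMap_eq fun a => by simp [RingHom.algebraMap_toAlgebra]
  letI : Algebra R Bh := (β.toRingHom.comp (algebraMap R B₀)).toAlgebra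
  let β' : B₀ →ₐ[R] Bh := { β.toRingHom with commutes' := fun _ => rfl }
  let φ' : H →ₐ[R] Bh := { φ.toRingHom with
    commutes' := fun q => by
      refine RingHom.congr_fun (f := φ.toRingHom.comp (algebraMap R H)) (g := algebraMap R Bh)
        (MvPolynomial.ringHom_ext (fun a => ?_) fun i => ?_) q
      · simp [RingHom.algebraMap_toAlgebra]
      · simp [RingHom.algebraMap_toAlgebra, hφ] }
  let βs : Localization.Away s →ₐ[R] Bh := IsLocalization.Away.liftAlgHom (f := β') s (hβu s hs)
  have hβs : ∀ y, βs (algebraMap B₀ _ y) = β y := fun y => Groth.L05.awayLift_algebraMap s β' (hβu s hs) y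
  -- lift the root
  set ζ' := βs (π W.X) with hζ'
  have hζ'map : W.HasMap ζ' := StandardEtalePair.hasMap_X.map (βs.comp π)
  obtain ⟨c, hc⟩ : ∃ c : A, ζ' - algebraMap A Bh c ∈ maximalIdeal Bh := by
    obtain ⟨m, y, hym⟩ := IsLocalization.Away.surj s (π W.X)
    obtain ⟨c₁, hc₁⟩ := hrat y
    obtain ⟨c₂, hc₂⟩ := hrat (s ^ m)
    have hc₂u : IsUnit c₂ := by
      by_contra hn
      have : s ^ m ∈ P := by simpa using add_mem hc₂ (hP (Ideal.mem_map_of_mem _ hn))
      exact hs (Ideal.IsPrime.mem_of_pow_mem inferInstance m this)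
    obtain ⟨w, hw⟩ := hc₂u.exists_right_inv
    refine ⟨c₁ * w, ?_⟩
    have e := congrArg βs hym
    rw [map_mul, map_pow, hβs, hβs, ← map_pow] at e
    have h1 := hβ _ hc₁
    have h2 := hβ _ hc₂
    rw [map_sub, β.commutes] at h1 h2
    have e2 : ζ' - algebraMap A Bh (c₁ * w) =
        algebraMap A Bh w * ((β y - algebraMap A Bh c₁) - ζ' * (β (s ^ m) - algebraMap A Bh c₂)) := by
      have hw' : algebraMap A Bh c₂ * algebraMap A Bh w = 1 := by rw [← map_mul, hw, map_one]
      rw [map_mul]
      linear_combination (algebraMap A Bh w) * e - ζ' * hw'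
    rw [e2]
    exact Ideal.mul_mem_left _ _ (sub_mem h1 (Ideal.mul_mem_left _ _ h2))
  have hres : ∀ (q : Polynomial R) (t : H), φ' (Polynomial.aeval t q) = Polynomial.aeval (φ' t) q :=
    fun q t => (Polynomial.aeval_algHom_apply φ' t q).symm
  have hnu : ∀ h : H, IsUnit (φ' h) → IsUnit h := fun h hu => (isUnit_map_iff φ.toRingHom h).1 hu
  have hcong : ∀ q : Polynomial R, Polynomial.aeval ζ' q - φ' (Polynomial.aeval (algebraMap A H c) q) ∈ maximalIdeal Bh := by
    intro q
    rw [hres]
    have h1 : φ' (algebraMap A H c) = algebraMap A Bh c := φ.commutes c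
    rw [h1]
    obtain ⟨d, hd⟩ := Polynomial.sub_dvd_eval_sub ζ' (algebraMap A Bh c) (q.map (algebraMap R Bh))
    rw [Polynomial.eval_map, Polynomial.eval_map, ← Polynomial.aeval_def, ← Polynomial.aeval_def] at hd
    rw [hd]
    exact Ideal.mul_mem_right _ _ hc
  have hf0 : ¬ IsUnit (Polynomial.aeval (algebraMap A H c) W.f) := fun hu => by
    have h1 := hcong W.f
    rw [hζ'map.1, zero_sub, neg_mem_iff] at h1
    exact h1 (hu.map φ')
  have hd0 : IsUnit (Polynomial.aeval (algebraMap A H c) W.f.derivative) := by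
    refine hnu _ (IsLocalRing.notMem_maximalIdeal.1 fun hm => IsLocalRing.notMem_maximalIdeal.2 hζ'map.isUnit_derivative_f ?_)
    simpa using add_mem (hcong W.f.derivative) hm
  obtain ⟨ζ, hζ, hζc⟩ := HenselianLocalRing.is_henselian (W.f.map (algebraMap R H)) (W.monic_f.map _)
    (algebraMap A H c) (by rw [Polynomial.eval_map, ← Polynomial.aeval_def]; exact hf0)
    (by rw [Polynomial.derivative_map, Polynomial.eval_map, ← Polynomial.aeval_def]; exact hd0)
  rw [Polynomial.IsRoot.def, Polynomial.eval_map, ← Polynomial.aeval_def] at hζ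
  have hφζ : φ' ζ = ζ' := by
    refine IsLocalRing.eq_of_eval_eq_zero_of_not_isUnit_sub (f := W.f.map (algebraMap R Bh)) ?_ ?_ ?_ ?_
    · rw [Polynomial.eval_map, ← Polynomial.aeval_def, ← hres, hζ, map_zero]
    · rw [Polynomial.eval_map, ← Polynomial.aeval_def]; exact hζ'map.1
    · have h2 : φ' (ζ - algebraMap A H c) ∈ maximalIdeal Bh := fun hu => hζc (hnu _ hu)
      rw [map_sub, show φ' (algebraMap A H c) = algebraMap A Bh c from φ.commutes c] at h2
      exact (show φ' ζ - ζ' ∈ maximalIdeal Bh by simpa using sub_mem h2 hc)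
    · rw [Polynomial.derivative_map, Polynomial.eval_map, ← Polynomial.aeval_def, ← hres]
      refine IsUnit.map φ' (hnu _ (IsLocalRing.notMem_maximalIdeal.1 fun hm => IsLocalRing.notMem_maximalIdeal.2 hd0 ?_))
      intro hu
      obtain ⟨d, hd⟩ := Polynomial.sub_dvd_eval_sub ζ (algebraMap A H c) (W.f.derivative.map (algebraMap R H))
      rw [Polynomial.eval_map, Polynomial.eval_map, ← Polynomial.aeval_def, ← Polynomial.aeval_def] at hd
      have h3 : φ' (Polynomial.aeval ζ W.f.derivative - Polynomial.aeval (algebraMap A H c) W.f.derivative) ∈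
          maximalIdeal Bh := by
        rw [hd, map_mul]
        exact Ideal.mul_mem_right _ _ (fun hu => hζc (hnu _ hu))
      rw [map_sub] at h3
      have h4 := sub_mem hm h3
      rw [sub_sub_cancel] at h4
      exact h4 (hu.map φ')
  have hζmap : W.HasMap ζ := ⟨hζ, hnu _ (by rw [hres, hφζ]; exact hζ'map.2)⟩
  let ι : W.Ring →ₐ[R] H := W.lift ζ hζmap
  have hcomm : φ'.comp ι = βs.comp π := W.hom_ext (by
    rw [AlgHom.comp_apply, AlgHom.comp_apply, show ι W.X = ζ from W.lift_X ζ hζmap, hφζ])
  have himg : ∀ y : B₀, β y ∈ φ.range := fun y => by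
    obtain ⟨w, hw⟩ := hπ (algebraMap B₀ _ y)
    exact ⟨ι w, by rw [show φ.toRingHom (ι w) = βs (π w) from AlgHom.congr_fun hcomm w, hw, hβs]⟩
  have hu2 : ∀ y ∉ P, ∃ h, IsUnit h ∧ φ h = β y := fun y hy => by
    obtain ⟨h, hh⟩ := himg y
    exact ⟨h, hnu h (by rw [show φ' h = β y from hh]; exact hβu y hy), hh⟩
  -- the image contains everything
  have hsurj : Function.Surjective φ := by
    let Q := H ⧸ RingHom.ker φ.toRingHom
    haveI : Nontrivial Q := Ideal.Quotient.nontrivial_iff.2 (RingHom.ker_ne_top _)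
    haveI : IsLocalRing Q := .of_surjective' (Ideal.Quotient.mk _) Ideal.Quotient.mk_surjective
    haveI : HenselianLocalRing Q := Groth.L13.LocalPair.henselian_quotient _
    let φQ : Q →+* Bh := RingHom.kerLift φ.toRingHom
    have hinj : Function.Injective φQ := RingHom.kerLift_injective _
    have hmk : ∀ h, φQ (Ideal.Quotient.mk _ h) = φ h := fun h => RingHom.kerLift_mk _ h
    haveI : IsLocalHom φQ := ⟨fun q hq => by
      obtain ⟨h, rfl⟩ := Ideal.Quotient.mk_surjective q
      rw [hmk] at hq
      exact (hnu h hq).map _⟩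
    have hB : ∀ b : B, ∃ q : Q, φQ q = algebraMap B Bh b := fun b => by
      obtain ⟨y, t, rfl⟩ := IsLocalization.exists_mk'_eq P.primeCompl b
      obtain ⟨h₁, hh₁⟩ := himg y
      obtain ⟨h₂, hh₂, hh₂'⟩ := hu2 t t.2
      obtain ⟨v, hv⟩ := hh₂.exists_right_inv
      refine ⟨Ideal.Quotient.mk _ (h₁ * v), (hβu t t.2).mul_right_cancel ?_⟩
      rw [hmk, map_mul, mul_assoc, ← hh₂', ← map_mul, mul_comm v, hv, map_one, mul_one, hh₂',
        show β (t : B₀) = algebraMap B Bh (algebraMap B₀ B t) from rfl, ← map_mul, IsLocalization.mk'_spec]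
      exact hh₁
    choose q hq using hB
    let f : B →+* Q :=
      { toFun := q
        map_one' := hinj (by rw [hq]; simp)
        map_mul' := fun a b => hinj (by rw [hq, map_mul, map_mul, hq, hq])
        map_zero' := hinj (by rw [hq]; simp)
        map_add' := fun a b => hinj (by rw [hq, map_add, map_add, hq, hq]) }
    haveI : IsLocalHom f := ⟨fun b hb => by
      refine (isUnit_map_iff (algebraMap B Bh) b).1 ?_
      rw [← hq b]
      exact hb.map φQ⟩
    obtain ⟨g, hg, -⟩ := (inferInstance : Hensel.IsHenselization B Bh).universal Q f inferInstance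
    have hid : φQ.comp g = RingHom.id Bh :=
      ((inferInstance : Hensel.IsHenselization B Bh).universal Bh (algebraMap B Bh) inferInstance).unique
        (RingHom.ext fun b => by
          show φQ (g (algebraMap B Bh b)) = _
          rw [show g (algebraMap B Bh b) = f b from RingHom.congr_fun hg b]
          exact hq b) (RingHom.id_comp _)
    intro b
    obtain ⟨h, hh⟩ := Ideal.Quotient.mk_surjective (g b)
    exact ⟨h, by rw [← hmk, hh]; exact RingHom.congr_fun hid b⟩
  refine ⟨φ, hφ, hsurj, ?_⟩
  -- finite generation of the kernel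
  letI : Algebra A W.Ring := ((algebraMap R W.Ring).comp (algebraMap A R)).toAlgebra
  haveI : IsScalarTower A R W.Ring := IsScalarTower.of_algebraMap_eq' rfl
  haveI : Algebra.FinitePresentation A W.Ring := Algebra.FinitePresentation.trans A R W.Ring
  haveI : Algebra.FinitePresentation A (Localization.Away s) := Algebra.FinitePresentation.trans A B₀ _
  have hfg : (RingHom.ker π.toRingHom).FG :=
    Algebra.FinitePresentation.ker_fG_of_surjective (π.restrictScalars A) hπ
  set J := (RingHom.ker π.toRingHom).map ι.toRingHom with hJ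
  suffices RingHom.ker φ = J by rw [this]; exact hfg.map _
  have hle : J ≤ RingHom.ker φ := Ideal.map_le_iff_le_comap.2 fun w hw => by
    show φ (ι w) = 0
    rw [show φ (ι w) = βs (π w) from AlgHom.congr_fun hcomm w, show π w = 0 from hw, map_zero]
  refine le_antisymm (fun h hh => ?_) hle
  let Q := H ⧸ J
  haveI : Nontrivial Q := Ideal.Quotient.nontrivial_iff.2 (ne_top_of_le_ne_top (RingHom.ker_ne_top _) hle)
  haveI : IsLocalRing Q := .of_surjective' (Ideal.Quotient.mk _) Ideal.Quotient.mk_surjective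
  haveI : HenselianLocalRing Q := Groth.L13.LocalPair.henselian_quotient _
  haveI : IsLocalHom (Ideal.Quotient.mk J) := IsLocalHom.of_surjective _ Ideal.Quotient.mk_surjective
  haveI : IsLocalHom (algebraMap A Q) := RingHom.isLocalHom_comp (Ideal.Quotient.mk J) (algebraMap A H)
  let qR : H →ₐ[R] Q := Ideal.Quotient.mkₐ R J
  let γ : Localization.Away s →ₐ[R] Q := AlgHom.liftOfSurjective π hπ (qR.comp ι)
    fun w hw => Ideal.Quotient.eq_zero_iff_mem.2 (Ideal.mem_map_of_mem ι.toRingHom hw)
  have hγ : ∀ w, γ (π w) = Ideal.Quotient.mk J (ι w) := fun w => AlgHom.liftOfSurjective_apply _ _ _ _ w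
  let toBh : Q →+* Bh := Ideal.Quotient.lift J φ.toRingHom hle
  have htoBh : ∀ y, toBh (γ y) = βs y := fun y => by
    obtain ⟨w, rfl⟩ := hπ y
    rw [hγ]
    exact AlgHom.congr_fun hcomm w
  have hQu : ∀ q : Q, IsUnit (toBh q) → IsUnit q := fun q hq => by
    obtain ⟨h, rfl⟩ := Ideal.Quotient.mk_surjective q
    exact (hnu h hq).map _
  have hu : ∀ t : P.primeCompl, IsUnit (γ (algebraMap B₀ _ (t : B₀))) := fun t =>
    hQu _ (by rw [htoBh, hβs]; exact hβu t t.2)
  let f : B →+* Q := IsLocalization.lift (M := P.primeCompl) (g := γ.toRingHom.comp (algebraMap B₀ _)) hu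
  have hf : ∀ y : B₀, f (algebraMap B₀ B y) = γ (algebraMap B₀ _ y) := fun y => IsLocalization.lift_eq _ y
  haveI : IsLocalHom f := ⟨fun b hb => by
    refine (isUnit_map_iff (algebraMap B Bh) b).1 ?_
    have : toBh.comp f = algebraMap B Bh := IsLocalization.ringHom_ext P.primeCompl (RingHom.ext fun y => by
      show toBh (f (algebraMap B₀ B y)) = _
      rw [hf, htoBh, hβs]
      rfl)
    rw [← RingHom.congr_fun this b]
    exact hb.map toBh⟩
  obtain ⟨g, hg, -⟩ := (inferInstance : Hensel.IsHenselization B Bh).universal Q f inferInstance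
  have hgβ : ∀ y, g (β y) = γ (algebraMap B₀ _ y) := fun y => (RingHom.congr_fun hg _).trans (hf y)
  have hgA : ∀ a : A, g (algebraMap A Bh a) = algebraMap A Q a := fun a => by
    rw [← β.commutes, hgβ, ← IsScalarTower.algebraMap_apply A B₀, IsScalarTower.algebraMap_apply A R (Localization.Away s),
      γ.commutes, ← IsScalarTower.algebraMap_apply]
  let gA : Bh →ₐ[A] Q := { g with commutes' := hgA }
  have key : gA.comp φ = Ideal.Quotient.mkₐ A J := by
    have hx : ∀ i, gA.comp φ (x i) = Ideal.Quotient.mk J (x i) := fun i => by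
      show g (φ (x i)) = _
      rw [hφ, hgβ, ← hRX i,
        ← IsScalarTower.algebraMap_apply, γ.commutes, IsScalarTower.algebraMap_apply R H Q]
      exact congrArg (Ideal.Quotient.mk J) (MvPolynomial.aeval_X x i)
    refine hH.hom_ext (fun i => ?_) hx
    rw [hx]
    exact fun hu => hH.mem i ((isUnit_map_iff (Ideal.Quotient.mk J) _).1 hu)
  have := AlgHom.congr_fun key h
  rw [AlgHom.comp_apply, show φ h = 0 from hh, map_zero] at this
  exact Ideal.Quotient.eq_zero_iff_mem.1 this.symm

end IsAffHens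

end Groth.L28.HensModel
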