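import Groth.Agent.L28.HensModel.Closed
import Groth.Agent.L28.HensModel.Gens
import Groth.Agent.L28.HensModel.Present
import Mathlib.RingTheory.Flat.Stability
import Mathlib.RingTheory.EssentialFiniteness
import Mathlib.RingTheory.Localization.Submodule

/-!
The henselian normal form at a non-degenerate quadratic point of a flat family.
-/

set_option autoImplicit false
set_option linter.style.haveILetI false
set_option maxHeartbeats 1000000

noncomputable section

open IsLocalRing TensorProduct MvPolynomial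

namespace Groth.L28.HensModel

universe u

/-- Two rings presented with generators and one relation modulo the powers of the maximal ideal. -/
theorem exists_fibre_data {k O : Type u} [Field k] [CommRing O] [IsLocalRing O] [Algebra k O]
    [Algebra.EssFiniteType k O] (n : ℕ) (hq : ∀ (M : Ideal (AlgebraicClosure k ⊗[k] O)) [M.IsMaximal],
      VanCyc.IsNondegQuadSing (AlgebraicClosure k) (Localization.AtPrime M) n)
    (hins : ∀ y : O, ∃ (e : ℕ) (c : k), y ^ ringExpChar k ^ e - algebraMap k O c ∈ maximalIdeal O)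
    (S : Set O) (hS : Ideal.span S = maximalIdeal O) :
    (∀ y : O, ∃ c : k, y - algebraMap k O c ∈ maximalIdeal O) ∧
    ∃ (z : Fin (n + 1) → O) (a₀ : Fin (n + 1) → Fin (n + 1) → k), (∀ i, z i ∈ S) ∧
      Ideal.span (Set.range z) = maximalIdeal O ∧ VanCyc.QuadNondeg a₀ ∧
      aeval z (VanCyc.quadPoly a₀) ∈ maximalIdeal O ^ 3 ∧
      ∀ j, 3 ≤ j → ∀ p : MvPolynomial (Fin (n + 1)) k, p - VanCyc.quadPoly a₀ ∈ idealOfVars (Fin (n + 1)) k ^ 3 →
        aeval z p ∈ maximalIdeal O ^ j → ∀ h, aeval z h ∈ maximalIdeal O ^ j →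
          h ∈ Ideal.span {p} ⊔ idealOfVars (Fin (n + 1)) k ^ j := by
  let K := AlgebraicClosure k
  haveI : IsNoetherianRing O := Algebra.EssFiniteType.isNoetherianRing k O
  haveI : IsNoetherianRing (K ⊗[k] O) := Algebra.EssFiniteType.isNoetherianRing K (K ⊗[k] O)
  have hM : ∀ (M : Ideal (K ⊗[k] O)) [M.IsMaximal], ∃ a : Fin (n + 1) → Fin (n + 1) → K,
      VanCyc.QuadNondeg a ∧ HasTrunc M a := fun M _ => hasTrunc_of_sing M n (hq M)
  have hrat : ∀ y : O, ∃ c : k, y - algebraMap k O c ∈ maximalIdeal O := fun y => rational_of_trunc hM hins y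
  exact ⟨hrat, exists_generators hM hrat S hS⟩

/-- The quadratic relation in the henselization of affine space. -/
theorem exists_relation (A : Type u) [CommRing A] [HenselianLocalRing A]
    (B₀ : Type u) [CommRing B₀] [Algebra A B₀] [Algebra.FinitePresentation A B₀]
    (P : Ideal B₀) [P.IsMaximal] (hP : (maximalIdeal A).map (algebraMap A B₀) ≤ P)
    (hrat₀ : ∀ y : B₀, ∃ c : A, y - algebraMap A B₀ c ∈ P)
    [Module.Flat A (Localization.AtPrime P)] (n : ℕ)
    [IsLocalRing (VanCyc.fibQuot A (Localization.AtPrime P))]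
    [Algebra (ResidueField A) (VanCyc.fibQuot A (Localization.AtPrime P))]
    [IsScalarTower A (ResidueField A) (VanCyc.fibQuot A (Localization.AtPrime P))]
    (z : Fin (n + 1) → B₀) (hzP : ∀ i, z i ∈ P) (zO : Fin (n + 1) → VanCyc.fibQuot A (Localization.AtPrime P))
    (hzβ : ∀ i, Ideal.Quotient.mk _ (algebraMap B₀ (Localization.AtPrime P) (z i)) = zO i)
    (hspan : Ideal.span (Set.range zO) = maximalIdeal (VanCyc.fibQuot A (Localization.AtPrime P)))
    (a₀ : Fin (n + 1) → Fin (n + 1) → ResidueField A)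
    (haz : aeval zO (VanCyc.quadPoly a₀) ∈ maximalIdeal (VanCyc.fibQuot A (Localization.AtPrime P)) ^ 3)
    (hkey : ∀ j, 3 ≤ j → ∀ p : MvPolynomial (Fin (n + 1)) (ResidueField A),
      p - VanCyc.quadPoly a₀ ∈ idealOfVars (Fin (n + 1)) (ResidueField A) ^ 3 →
        aeval zO p ∈ maximalIdeal (VanCyc.fibQuot A (Localization.AtPrime P)) ^ j → ∀ h,
          aeval zO h ∈ maximalIdeal (VanCyc.fibQuot A (Localization.AtPrime P)) ^ j →
            h ∈ Ideal.span {p} ⊔ idealOfVars (Fin (n + 1)) (ResidueField A) ^ j)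
    (Bh : Type u) [CommRing Bh] [IsLocalRing Bh] [Algebra (Localization.AtPrime P) Bh]
    [IsLocalHom (algebraMap (Localization.AtPrime P) Bh)] [Hensel.IsHenselization (Localization.AtPrime P) Bh]
    [Algebra A Bh] [IsScalarTower A (Localization.AtPrime P) Bh]
    {H : Type u} [CommRing H] [IsLocalRing H] [Algebra A H] {x : Fin (n + 1) → H} (hH : IsAffHens A H x) :
    ∃ (at' : Fin (n + 1) → Fin (n + 1) → A) (f : H) (φ : H →ₐ[A] Bh), (∀ i j, residue A (at' i j) = a₀ i j) ∧
      Function.Surjective φ ∧ RingHom.ker φ = Ideal.span {f} ∧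
      f - VanCyc.quadEval (fun i j => algebraMap A H (at' i j)) x ∈
        (maximalIdeal A).map (algebraMap A H) ⊔ Ideal.span (Set.range x) ^ 3 := by
  classical
  haveI := hH.henselian
  haveI := hH.isLocalHom
  let k := ResidueField A
  let B := Localization.AtPrime P
  let mAB := (maximalIdeal A).map (algebraMap A B)
  have hmB : mAB ≤ maximalIdeal B := by
    show (maximalIdeal A).map (algebraMap A B) ≤ _
    rw [IsScalarTower.algebraMap_eq A B₀ B, ← Ideal.map_map, ← Localization.AtPrime.map_eq_maximalIdeal]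
    exact Ideal.map_mono hP
  let O := VanCyc.fibQuot A B
  let π : B →+* O := Ideal.Quotient.mk mAB
  have hπs : Function.Surjective π := Ideal.Quotient.mk_surjective
  have hmO : maximalIdeal O = (maximalIdeal B).map π := (IsLocalRing.map_maximalIdeal_of_surjective _ hπs).symm
  let β : B₀ →+* O := π.comp (algebraMap B₀ B)
  have hβA : ∀ a : A, β (algebraMap A B₀ a) = algebraMap k O (residue A a) := fun a => by
    show π (algebraMap B₀ B (algebraMap A B₀ a)) = _
    rw [← IsScalarTower.algebraMap_apply A B₀ B]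
    exact IsScalarTower.algebraMap_apply A k O a
  have hβP : ∀ y, β y ∈ maximalIdeal O ↔ y ∈ P := fun y => by
    refine ⟨fun h => ?_, fun h => ?_⟩
    · by_contra hy
      exact h ((IsLocalization.map_units B (⟨y, hy⟩ : P.primeCompl)).map π)
    · rw [hmO]
      exact Ideal.mem_map_of_mem _ ((IsLocalization.AtPrime.to_map_mem_maximal_iff B P y).2 h)
  let zB : Fin (n + 1) → B := fun i => algebraMap B₀ B (z i)
  have hgen : maximalIdeal B ≤ mAB ⊔ Ideal.span (Set.range zB) := fun u hu => by
    have h1 : π u ∈ (Ideal.span (Set.range zB)).map π := by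
      rw [Ideal.map_span, ← Set.range_comp, show π ∘ zB = zO from funext hzβ, hspan, hmO]
      exact Ideal.mem_map_of_mem _ hu
    rw [← Ideal.mem_comap, Ideal.comap_map_of_surjective π hπs, ← RingHom.ker_eq_comap_bot, Ideal.mk_ker] at h1
    rwa [sup_comm]
  obtain ⟨φ, hφ, hφs, hφfg⟩ := hH.presentation B₀ P hP z hzP hrat₀ hgen Bh
  let J := RingHom.ker φ
  let mAH := (maximalIdeal A).map (algebraMap A H)
  have hmAφ : mAH.map φ.toRingHom = mAB.map (algebraMap B Bh) := by
    rw [Ideal.map_map, Ideal.map_map]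
    congr 1
    exact RingHom.ext fun a => (φ.commutes a).trans (IsScalarTower.algebraMap_apply A B Bh a)
  -- the quadratic relation
  choose at' hat using fun i j => residue_surjective (R := A) (a₀ i j)
  let qH := VanCyc.quadEval (fun i j => algebraMap A H (at' i j)) x
  let bB := VanCyc.quadEval (fun i j => algebraMap A B (at' i j)) zB
  have hφq : φ qH = algebraMap B Bh bB := by
    rw [show φ qH = φ.toRingHom qH from rfl, map_quadEval, map_quadEval]
    congr 1
    · funext i j
      exact (φ.commutes _).trans (IsScalarTower.algebraMap_apply A B Bh _)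
    · exact funext hφ
  have hbB : bB ∈ maximalIdeal B ^ 3 ⊔ mAB := by
    have h1 : π bB ∈ (maximalIdeal B ^ 3).map π := by
      rw [Ideal.map_pow, ← hmO, map_quadEval,
        show (fun i => π (zB i)) = zO from funext hzβ]
      rw [aeval_quadPoly_eq] at haz
      rw [show (fun i j => π (algebraMap A B (at' i j))) = fun i j => algebraMap k O (a₀ i j) from
        funext fun i => funext fun j => by rw [← hat]; exact IsScalarTower.algebraMap_apply A k O _]
      exact haz
    rw [← Ideal.mem_comap, Ideal.comap_map_of_surjective π hπs, ← RingHom.ker_eq_comap_bot, Ideal.mk_ker] at h1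
    exact h1
  have hmBh : maximalIdeal Bh = (maximalIdeal H).map φ.toRingHom :=
    (IsLocalRing.map_maximalIdeal_of_surjective _ hφs).symm
  have hqe : φ qH ∈ (mAH ⊔ Ideal.span (Set.range x) ^ 3).map φ.toRingHom := by
    rw [hφq]
    have h1 : (maximalIdeal B ^ 3 ⊔ mAB).map (algebraMap B Bh) ≤ (mAH ⊔ Ideal.span (Set.range x) ^ 3).map φ.toRingHom := by
      rw [Ideal.map_sup]
      refine sup_le ?_ ?_
      · refine le_trans ?_ (Ideal.map_mono (hH.pow_maximalIdeal_le 3))
        rw [Ideal.map_pow, Ideal.map_pow, ← hmBh]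
        exact Ideal.pow_right_mono (((IsLocalRing.local_hom_TFAE (algebraMap B Bh)).out 0 2 rfl rfl).1 inferInstance) 3
      · rw [← hmAφ]
        exact Ideal.map_mono le_sup_left
    exact h1 (Ideal.mem_map_of_mem _ hbB)
  obtain ⟨e, he, hφe⟩ := (Ideal.mem_map_iff_of_surjective _ hφs).1 hqe
  let f := qH - e
  have hfJ : f ∈ J := by
    show φ (qH - e) = 0
    rw [map_sub, sub_eq_zero]
    exact hφe.symm
  have hfq : f - qH ∈ mAH ⊔ Ideal.span (Set.range x) ^ 3 := by
    rw [show f - qH = -e by ring]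
    exact neg_mem he
  -- truncations
  have hkj : ∀ j, 3 ≤ j → ∀ h ∈ J, h ∈ Ideal.span {f} ⊔ (mAH ⊔ Ideal.span (Set.range x) ^ j) := by
    intro j hj h hh
    obtain ⟨j, rfl⟩ : ∃ i, j = i + 1 := ⟨j - 1, by omega⟩
    let T := O ⧸ maximalIdeal O ^ (j + 1)
    haveI : HenselianLocalRing T := henselianLocalRing_quot_pow O j
    let βT : B →+* T := (Ideal.Quotient.mk _).comp π
    haveI : IsLocalHom βT := IsLocalHom.of_surjective _ (Ideal.Quotient.mk_surjective.comp hπs)
    obtain ⟨θ, hθ, -⟩ := (inferInstance : Hensel.IsHenselization B Bh).universal T βT inferInstance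
    have hθB : ∀ w, θ (algebraMap B Bh w) = βT w := fun w => RingHom.congr_fun hθ w
    let γ : MvPolynomial (Fin (n + 1)) k →ₐ[k] T := (Ideal.Quotient.mkₐ k _).comp (aeval zO)
    have hγ : idealOfVars (Fin (n + 1)) k ^ (j + 1) ≤ RingHom.ker γ.toRingHom := fun p hp => by
      show Ideal.Quotient.mk _ (aeval zO p) = 0
      refine Ideal.Quotient.eq_zero_iff_mem.2 ?_
      have h1 : (idealOfVars (Fin (n + 1)) k).map (aeval (R := k) zO) ≤ maximalIdeal O := by
        rw [idealOfVars, Ideal.map_span, Ideal.span_le]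
        rintro _ ⟨_, ⟨i, rfl⟩, rfl⟩
        rw [aeval_X, ← hspan]
        exact Ideal.subset_span ⟨i, rfl⟩
      refine Ideal.pow_right_mono h1 (j + 1) ?_
      rw [← Ideal.map_pow]
      exact Ideal.mem_map_of_mem _ hp
    let η : Tr k (n + 1) (j + 1) →+* T := Ideal.Quotient.lift _ γ.toRingHom hγ
    have hη : ∀ p, η (Ideal.Quotient.mk _ p) = Ideal.Quotient.mk _ (aeval zO p) := fun p => rfl
    let e₁ : H →ₐ[A] T :=
      { η.comp (hH.trunc j).toRingHom with
        commutes' := fun a => by
          show η (hH.trunc j (algebraMap A H a)) = _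
          rw [AlgHom.commutes, IsScalarTower.algebraMap_apply A k (Tr k (n + 1) (j + 1)),
            IsScalarTower.algebraMap_apply A k T]
          exact γ.commutes _ }
    let e₂ : H →ₐ[A] T :=
      { θ.comp φ.toRingHom with
        commutes' := fun a => by
          show θ (φ (algebraMap A H a)) = _
          rw [φ.commutes, IsScalarTower.algebraMap_apply A B Bh, hθB]
          rfl }
    haveI : IsLocalHom (algebraMap A T) := ⟨fun a ha => by
      by_contra hn
      have h0 : algebraMap A T a = 0 := by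
        rw [IsScalarTower.algebraMap_apply A k T]
        show algebraMap k T (residue A a) = 0
        rw [(residue_eq_zero_iff a).2 hn, map_zero]
      exact not_isUnit_zero (h0 ▸ ha)⟩
    have he12 : e₁ = e₂ := by
      have hx : ∀ i, e₁ (x i) = e₂ (x i) := fun i => by
        show η (hH.trunc j (x i)) = θ (φ (x i))
        rw [hH.trunc_x, hη, aeval_X, hφ, hθB]
        exact congrArg (Ideal.Quotient.mk _) (hzβ i).symm
      refine hH.hom_ext (fun i => ?_) hx
      show η (hH.trunc j (x i)) ∈ maximalIdeal T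
      rw [hH.trunc_x, hη, aeval_X]
      rw [← IsLocalRing.map_maximalIdeal_of_surjective _ (Ideal.Quotient.mk_surjective (I := maximalIdeal O ^ (j + 1)))]
      refine Ideal.mem_map_of_mem _ ?_
      rw [← hspan]
      exact Ideal.subset_span ⟨i, rfl⟩
    have hker : ∀ w ∈ J, ∀ p, hH.trunc j w = Ideal.Quotient.mk _ p → aeval zO p ∈ maximalIdeal O ^ (j + 1) :=
      fun w hw p hp => by
        rw [← Ideal.Quotient.eq_zero_iff_mem, ← hη, ← hp]
        show e₁ w = 0
        rw [he12]
        show θ (φ w) = 0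
        rw [show φ w = 0 from hw, map_zero]
    obtain ⟨p, hp⟩ := Ideal.Quotient.mk_surjective (hH.trunc j f)
    have hpq : p - VanCyc.quadPoly a₀ ∈ idealOfVars (Fin (n + 1)) k ^ 3 := by
      obtain ⟨u, hu, w, hw, huw⟩ := Submodule.mem_sup.1 hfq
      have h1 : hH.trunc j w ∈ (idealOfVars (Fin (n + 1)) k ^ 3).map (Ideal.Quotient.mk _) := by
        have h2 : (Ideal.span (Set.range x)).map (hH.trunc j).toRingHom ≤
            (idealOfVars (Fin (n + 1)) k).map (Ideal.Quotient.mk _) := by
          rw [Ideal.map_span, Ideal.span_le]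
          rintro _ ⟨_, ⟨i, rfl⟩, rfl⟩
          rw [show (hH.trunc j).toRingHom (x i) = Ideal.Quotient.mk _ (X i) from hH.trunc_x j i]
          exact Ideal.mem_map_of_mem _ (Ideal.subset_span ⟨i, rfl⟩)
        have h3 : hH.trunc j w ∈ ((Ideal.span (Set.range x)) ^ 3).map (hH.trunc j).toRingHom := Ideal.mem_map_of_mem _ hw
        rw [Ideal.map_pow] at h3 ⊢
        exact Ideal.pow_right_mono h2 3 h3
      have h4 : hH.trunc j qH = Ideal.Quotient.mk _ (VanCyc.quadPoly a₀) := by
        rw [show qH = aeval x (VanCyc.quadPoly at') from (aeval_quadPoly_eq at' x).symm, hH.trunc_aeval]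
        congr 1
        simp only [VanCyc.quadPoly, map_sum]
        refine Finset.sum_congr rfl fun a _ => Finset.sum_congr rfl fun b _ => ?_
        split_ifs
        · simp [hat]
        · simp
      have h5 : Ideal.Quotient.mk _ (p - VanCyc.quadPoly a₀) ∈ (idealOfVars (Fin (n + 1)) k ^ 3).map
          (Ideal.Quotient.mk (idealOfVars (Fin (n + 1)) k ^ (j + 1))) := by
        rw [map_sub, hp, ← h4, ← map_sub, ← huw, map_add,
          (hH.trunc_eq_zero_iff j u).2 (Ideal.mem_sup_left hu), zero_add]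
        exact h1
      rw [← Ideal.mem_comap, Ideal.comap_map_of_surjective _ Ideal.Quotient.mk_surjective,
        ← RingHom.ker_eq_comap_bot, Ideal.mk_ker] at h5
      obtain ⟨s, hs, t, ht, hst⟩ := Submodule.mem_sup.1 h5
      rw [← hst]
      exact add_mem hs (Ideal.pow_le_pow_right hj ht)
    obtain ⟨ph, hph⟩ := Ideal.Quotient.mk_surjective (hH.trunc j h)
    obtain ⟨y, hy, w, hw, hyw⟩ := Submodule.mem_sup.1
      (hkey (j + 1) hj p hpq (hker f hfJ p hp.symm) ph (hker h hh ph hph.symm))
    obtain ⟨u, rfl⟩ := Ideal.mem_span_singleton.1 hy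
    obtain ⟨u', hu'⟩ := hH.trunc_surjective j (Ideal.Quotient.mk _ u)
    have h6 : hH.trunc j (h - f * u') = 0 := by
      rw [map_sub, map_mul, ← hph, ← hp, hu', ← map_mul, ← map_sub, ← hyw, add_sub_cancel_left,
        Ideal.Quotient.eq_zero_iff_mem]
      exact hw
    rw [← add_sub_cancel (f * u') h]
    exact add_mem (Ideal.mem_sup_left (Ideal.mem_span_singleton.2 ⟨u', rfl⟩))
      (Ideal.mem_sup_right ((hH.trunc_eq_zero_iff j _).1 h6))
  -- Krull
  haveI : Nontrivial (H ⧸ mAH) := Ideal.Quotient.nontrivial_iff.2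
    (ne_top_of_le_ne_top (maximalIdeal.isMaximal H).ne_top hH.map_maximalIdeal_le)
  haveI : IsLocalRing (H ⧸ mAH) := .of_surjective' (Ideal.Quotient.mk mAH) Ideal.Quotient.mk_surjective
  haveI : IsNoetherianRing (H ⧸ mAH) := hH.isNoetherianRing_closedFibre
  have hJ1 : ∀ h ∈ J, h ∈ Ideal.span {f} ⊔ mAH := fun h hh => by
    have h1 : Ideal.Quotient.mk mAH h ∈ (Ideal.span {f}).map (Ideal.Quotient.mk mAH) := by
      refine Groth.L05.Henselization.mem_of_forall_mem_sup_pow fun m => ?_
      obtain ⟨y, hy, w, hw, rfl⟩ := Submodule.mem_sup.1 (hkj (m + 3) (by omega) h hh)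
      obtain ⟨w₁, hw₁, w₂, hw₂, rfl⟩ := Submodule.mem_sup.1 hw
      rw [map_add, map_add, Ideal.Quotient.eq_zero_iff_mem.2 hw₁, zero_add]
      refine Submodule.mem_sup.2 ⟨_, Ideal.mem_map_of_mem _ hy, _, ?_, rfl⟩
      rw [← IsLocalRing.map_maximalIdeal_of_surjective _ (Ideal.Quotient.mk_surjective (I := mAH)), ← Ideal.map_pow]
      exact Ideal.mem_map_of_mem _ (Ideal.pow_right_mono hH.span_le_maximalIdeal m (Ideal.pow_le_pow_right (by omega) hw₂))
    rwa [← Ideal.mem_comap, Ideal.comap_map_of_surjective _ Ideal.Quotient.mk_surjective,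
      ← RingHom.ker_eq_comap_bot, Ideal.mk_ker] at h1
  haveI : Module.Flat B Bh := Groth.L05.Henselization.flat_of_isHenselization B Bh
  haveI : Module.Flat A Bh := Module.Flat.trans A B Bh
  have hle : J ≤ Ideal.span {f} := by
    refine Submodule.le_of_le_smul_of_le_jacobson_bot hφfg (IsLocalRing.maximalIdeal_le_jacobson ⊥) fun h hh => ?_
    obtain ⟨y, hy, w, hw, rfl⟩ := Submodule.mem_sup.1 (hJ1 h hh)
    have hwJ : w ∈ J := by
      have := sub_mem hh ((Ideal.span_singleton_le_iff_mem J).2 hfJ hy)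
      rwa [add_sub_cancel_left] at this
    refine Submodule.mem_sup.2 ⟨y, hy, w, ?_, rfl⟩
    exact Ideal.mul_mono hH.map_maximalIdeal_le le_rfl (mem_mul_of_flat φ hφs (maximalIdeal A) hwJ hw)
  have hJf : J = Ideal.span {f} := le_antisymm hle ((Ideal.span_singleton_le_iff_mem J).2 hfJ)
  exact ⟨at', f, φ, hat, hφs, hJf, hfq⟩

theorem exists_normal_form_of_point (A : Type u) [CommRing A] [HenselianLocalRing A]
    (B₀ : Type u) [CommRing B₀] [Algebra A B₀] [Algebra.FinitePresentation A B₀]
    (P : Ideal B₀) [P.IsMaximal] (hP : (maximalIdeal A).map (algebraMap A B₀) ≤ P)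
    (hPi : ∀ y : B₀, ∃ (e : ℕ) (c : A),
      y ^ ringExpChar (ResidueField A) ^ e - algebraMap A B₀ c ∈ P)
    [Module.Flat A (Localization.AtPrime P)] (n : ℕ)
    (hq : VanCyc.IsNondegQuadPt (VanCyc.fibHom A (Localization.AtPrime P)) n)
    (Bh : Type u) [CommRing Bh] [IsLocalRing Bh] [Algebra (Localization.AtPrime P) Bh]
    [IsLocalHom (algebraMap (Localization.AtPrime P) Bh)] [Hensel.IsHenselization (Localization.AtPrime P) Bh]
    [Algebra A Bh] [IsScalarTower A (Localization.AtPrime P) Bh]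
    {H : Type u} [CommRing H] [IsLocalRing H] [Algebra A H] {x : Fin (n + 1) → H} (hH : IsAffHens A H x) :
    ∃ (a : Fin (n + 1) → Fin (n + 1) → A) (b : A) (φ : H →ₐ[A] Bh), VanCyc.QuadNondeg a ∧
      b ∈ maximalIdeal A ∧ Function.Surjective φ ∧ RingHom.ker φ =
        Ideal.span {VanCyc.quadEval (fun i j => algebraMap A H (a i j)) x - algebraMap A H b} := by
  classical
  haveI := hH.henselian
  haveI := hH.isLocalHom
  let k := ResidueField A
  let B := Localization.AtPrime P
  let mAB := (maximalIdeal A).map (algebraMap A B)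
  have hmB : mAB ≤ maximalIdeal B := by
    show (maximalIdeal A).map (algebraMap A B) ≤ _
    rw [IsScalarTower.algebraMap_eq A B₀ B, ← Ideal.map_map, ← Localization.AtPrime.map_eq_maximalIdeal]
    exact Ideal.map_mono hP
  let O := VanCyc.fibQuot A B
  haveI : Nontrivial O := Ideal.Quotient.nontrivial_iff.2 (ne_top_of_le_ne_top (maximalIdeal.isMaximal B).ne_top hmB)
  haveI : IsLocalRing O := .of_surjective' (Ideal.Quotient.mk mAB) Ideal.Quotient.mk_surjective
  let π : B →+* O := Ideal.Quotient.mk mAB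
  have hπs : Function.Surjective π := Ideal.Quotient.mk_surjective
  have hmO : maximalIdeal O = (maximalIdeal B).map π := (IsLocalRing.map_maximalIdeal_of_surjective _ hπs).symm
  letI : Algebra k O := (VanCyc.fibHom A B).toAlgebra
  haveI : IsScalarTower A k O := IsScalarTower.of_algebraMap_eq fun a => rfl
  haveI : Algebra.EssFiniteType B₀ B := Algebra.EssFiniteType.of_isLocalization B P.primeCompl
  haveI : Algebra.EssFiniteType A B := Algebra.EssFiniteType.comp A B₀ B
  haveI : Algebra.EssFiniteType A O := Algebra.EssFiniteType.of_surjective (Ideal.Quotient.mkₐ A mAB) hπs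
  haveI : Algebra.EssFiniteType k O := Algebra.EssFiniteType.of_comp A k O
  let β : B₀ →+* O := π.comp (algebraMap B₀ B)
  have hβA : ∀ a : A, β (algebraMap A B₀ a) = algebraMap k O (residue A a) := fun a => by
    show π (algebraMap B₀ B (algebraMap A B₀ a)) = _
    rw [← IsScalarTower.algebraMap_apply A B₀ B]
    rfl
  have hβP : ∀ y, β y ∈ maximalIdeal O ↔ y ∈ P := fun y => by
    refine ⟨fun h => ?_, fun h => ?_⟩
    · by_contra hy
      exact h ((IsLocalization.map_units B (⟨y, hy⟩ : P.primeCompl)).map π)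
    · rw [hmO]
      exact Ideal.mem_map_of_mem _ ((IsLocalization.AtPrime.to_map_mem_maximal_iff B P y).2 h)
  have happrox : ∀ y : O, ∃ y₀ : B₀, y - β y₀ ∈ maximalIdeal O := fun y => by
    obtain ⟨w, rfl⟩ := hπs y
    obtain ⟨v, hv⟩ := (IsLocalization.AtPrime.equivQuotMaximalIdeal P B).surjective (Ideal.Quotient.mk _ w)
    obtain ⟨y₀, rfl⟩ := Ideal.Quotient.mk_surjective v
    rw [IsLocalization.AtPrime.equivQuotMaximalIdeal_apply_mk] at hv
    refine ⟨y₀, ?_⟩
    rw [hmO, RingHom.comp_apply, ← map_sub]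
    exact Ideal.mem_map_of_mem _ (Ideal.Quotient.eq.1 hv.symm)
  have hins : ∀ y : O, ∃ (e : ℕ) (c : k), y ^ ringExpChar k ^ e - algebraMap k O c ∈ maximalIdeal O := fun y => by
    obtain ⟨y₀, hy₀⟩ := happrox y
    obtain ⟨e, c, hc⟩ := hPi y₀
    refine ⟨e, residue A c, ?_⟩
    have h1 := (hβP _).2 hc
    rw [map_sub, map_pow, hβA] at h1
    obtain ⟨d, hd⟩ := sub_dvd_pow_sub_pow y (β y₀) (ringExpChar k ^ e)
    rw [← sub_add_sub_cancel _ (β y₀ ^ ringExpChar k ^ e), hd]
    exact add_mem (Ideal.mul_mem_right _ _ hy₀) h1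
  have hS : Ideal.span (β '' (P : Set B₀)) = maximalIdeal O := by
    rw [hmO, ← Localization.AtPrime.map_eq_maximalIdeal, Ideal.map_map]
    rfl
  obtain ⟨hrat, zO, a₀, hzS, hspan, ha₀, haz, hkey⟩ := exists_fibre_data n hq hins _ hS
  choose z hzP hzβ using hzS
  have hrat₀ : ∀ y : B₀, ∃ c : A, y - algebraMap A B₀ c ∈ P := fun y => by
    obtain ⟨c, hc⟩ := hrat (β y)
    obtain ⟨c, rfl⟩ := residue_surjective c
    exact ⟨c, (hβP _).1 (by rwa [map_sub, hβA])⟩
  obtain ⟨at', f, φ, hat, hφs, hJf, hfq⟩ :=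
    exists_relation A B₀ P hP hrat₀ n z hzP zO hzβ hspan a₀ haz hkey Bh hH
  have hat' : VanCyc.QuadNondeg at' := by
    refine (isUnit_map_iff (residue A) _).1 ?_
    rw [RingHom.map_det, map_polarMatrix, show (fun i j => residue A (at' i j)) = a₀ from funext fun i => funext (hat i)]
    exact ha₀
  obtain ⟨a', b, ψ, ha', hb, hψ⟩ := hH.exists_normal_form f at' hat' hfq
  refine ⟨a', b, φ.comp ψ.toAlgHom, ha', hb, hφs.comp ψ.surjective, ?_⟩
  ext h
  rw [RingHom.mem_ker, AlgHom.comp_apply, show φ (ψ.toAlgHom h) = 0 ↔ ψ h ∈ RingHom.ker φ from Iff.rfl, hJf,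
    Ideal.mem_span_singleton, Ideal.mem_span_singleton, ← hψ]
  exact ⟨fun ⟨c, hc⟩ => ⟨ψ.symm c, ψ.injective (by rw [hc, map_mul, ψ.apply_symm_apply])⟩,
    fun ⟨c, hc⟩ => ⟨ψ c, by rw [hc, map_mul]⟩⟩

end Groth.L28.HensModel
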