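import Groth.Agent.L28.HensModel.DegForm
import Groth.Agent.L28.HensModel.Main

/-!
The henselian normal form at a degenerate ordinary quadratic point in characteristic two.
-/

set_option autoImplicit false
set_option linter.style.haveILetI false
set_option maxHeartbeats 1000000

noncomputable section

open IsLocalRing TensorProduct MvPolynomial

namespace Groth.L28.HensModel

universe u

theorem exists_deg_form_of_point (A : Type u) [CommRing A] [HenselianLocalRing A]
    (hA : CharP (ResidueField A) 2)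
    (B₀ : Type u) [CommRing B₀] [Algebra A B₀] [Algebra.FinitePresentation A B₀]
    (P : Ideal B₀) [P.IsMaximal] (hP : (maximalIdeal A).map (algebraMap A B₀) ≤ P)
    (hPi : ∀ y : B₀, ∃ c : A, y - algebraMap A B₀ c ∈ P)
    [Module.Flat A (Localization.AtPrime P)] (m : ℕ)
    (hq : VanCyc.IsOrdQuadPt (VanCyc.fibHom A (Localization.AtPrime P)) (2 * m))
    (Bh : Type u) [CommRing Bh] [IsLocalRing Bh] [Algebra (Localization.AtPrime P) Bh]
    [IsLocalHom (algebraMap (Localization.AtPrime P) Bh)] [Hensel.IsHenselization (Localization.AtPrime P) Bh]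
    [Algebra A Bh] [IsScalarTower A (Localization.AtPrime P) Bh]
    {H : Type u} [CommRing H] [IsLocalRing H] [Algebra A H] {x : Fin (2 * m + 1) → H} (hH : IsAffHens A H x) :
    ∃ (a' : Fin (2 * m) → Fin (2 * m) → A) (b c : A) (φ : H →ₐ[A] Bh), VanCyc.QuadNondeg a' ∧
      b ∈ maximalIdeal A ∧ c ∈ maximalIdeal A ∧ Function.Surjective φ ∧
      RingHom.ker φ = Ideal.span {aeval (R := A) x (VanCyc.degQuadPoly A a' b c)} := by
  classical
  haveI := hH.henselian
  haveI := hH.isLocalHom
  let k := ResidueField A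
  let B := Localization.AtPrime P
  let mAB := (maximalIdeal A).map (algebraMap A B)
  have hmB : mAB ≤ maximalIdeal B := by
    show (maximalIdeal A).map (algebraMap A B) ≤ _
    rw [IsScalarTower.algebraMap_eq A B₀ B, ← Ideal.map_map, ← Localization.AtPrime.map_eq_maximalIdeal]
    exact Ideal.map_mono hP
  let O := VanCyc.fibQuot A B
  haveI : Nontrivial O := Ideal.Quotient.nontrivial_iff.2 (ne_top_of_le_ne_top (maximalIdeal.isMaximal B).ne_top hmB)
  haveI : IsLocalRing O := .of_surjective' (Ideal.Quotient.mk mAB) Ideal.Quotient.mk_surjective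
  let π : B →+* O := Ideal.Quotient.mk mAB
  have hπs : Function.Surjective π := Ideal.Quotient.mk_surjective
  have hmO : maximalIdeal O = (maximalIdeal B).map π := (IsLocalRing.map_maximalIdeal_of_surjective _ hπs).symm
  letI : Algebra k O := (VanCyc.fibHom A B).toAlgebra
  haveI : IsScalarTower A k O := IsScalarTower.of_algebraMap_eq fun a => rfl
  haveI : Algebra.EssFiniteType B₀ B := Algebra.EssFiniteType.of_isLocalization B P.primeCompl
  haveI : Algebra.EssFiniteType A B := Algebra.EssFiniteType.comp A B₀ B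
  haveI : Algebra.EssFiniteType A O := Algebra.EssFiniteType.of_surjective (Ideal.Quotient.mkₐ A mAB) hπs
  haveI : Algebra.EssFiniteType k O := Algebra.EssFiniteType.of_comp A k O
  let β : B₀ →+* O := π.comp (algebraMap B₀ B)
  have hβP : ∀ y ∈ P, β y ∈ maximalIdeal O := fun y hy => by
    rw [hmO]
    exact Ideal.mem_map_of_mem _ ((IsLocalization.AtPrime.to_map_mem_maximal_iff B P y).2 hy)
  have hrat : ∀ y : O, ∃ c : k, y - algebraMap k O c ∈ maximalIdeal O := fun y => by
    obtain ⟨w, rfl⟩ := hπs y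
    obtain ⟨v, hv⟩ := (IsLocalization.AtPrime.equivQuotMaximalIdeal P B).surjective (Ideal.Quotient.mk _ w)
    obtain ⟨y₀, rfl⟩ := Ideal.Quotient.mk_surjective v
    rw [IsLocalization.AtPrime.equivQuotMaximalIdeal_apply_mk] at hv
    obtain ⟨c, hc⟩ := hPi y₀
    refine ⟨residue A c, ?_⟩
    rw [← sub_add_sub_cancel _ (β y₀)]
    refine add_mem ?_ ?_
    · rw [hmO, RingHom.comp_apply, ← map_sub]
      exact Ideal.mem_map_of_mem _ (Ideal.Quotient.eq.1 hv.symm)
    · have h1 := hβP _ hc
      rw [map_sub] at h1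
      rwa [show β (algebraMap A B₀ c) = algebraMap k O (residue A c) by
        show π (algebraMap B₀ B (algebraMap A B₀ c)) = _
        rw [← IsScalarTower.algebraMap_apply A B₀ B]
        exact IsScalarTower.algebraMap_apply A k O c] at h1
  have hS : Ideal.span (β '' (P : Set B₀)) = maximalIdeal O := by
    rw [hmO, ← Localization.AtPrime.map_eq_maximalIdeal, Ideal.map_map]
    rfl
  let K := AlgebraicClosure k
  haveI : IsNoetherianRing O := Algebra.EssFiniteType.isNoetherianRing k O
  haveI : IsNoetherianRing (K ⊗[k] O) := Algebra.EssFiniteType.isNoetherianRing K (K ⊗[k] O)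
  have hM : ∀ (M : Ideal (K ⊗[k] O)) [M.IsMaximal],
      ∃ a : Fin (2 * m + 1) → Fin (2 * m + 1) → K, VanCyc.QuadOrd a ∧ HasTrunc M a := fun M _ => by
    have hq' : VanCyc.IsOrdQuadSing K (Localization.AtPrime M) (2 * m) := hq M
    obtain ⟨F, hF, he⟩ := hq'
    exact ⟨_, hF.2, hasTrunc_of_ordSing M _ F hF he⟩
  obtain ⟨zO, a₀, hzS, hspan, ⟨a, T₀, c₀, ha, hc₀, hT₀, hev⟩, haz, hkey⟩ :=
    exists_generators_form (fun a => VanCyc.QuadOrd a) (fun a ha hN h0 => by
      have hz0 : ∀ v : Fin (2 * m + 1) → K, VanCyc.quadEval a v = 0 := fun v => by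
        have h2 := congrArg (aeval (R := K) v) h0
        rwa [aeval_quadPoly_eq, map_zero] at h2
      have hP0 := polar_congr a a 1 0 fun v => by simp [hz0]
      rw [zero_smul] at hP0
      exact one_ne_zero (congrFun (ha (fun _ => 1) (hz0 _) (by rw [hP0, Matrix.zero_mulVec])) ⟨0, hN⟩))
      hM hrat _ hS
  choose z hzP hzβ using hzS
  haveI : CharP k 2 := hA
  have hord : VanCyc.QuadOrd fun i j => algebraMap k K (a₀ i j) := quadOrd_congr _ a T₀ c₀ hc₀ hT₀ hev ha
  obtain ⟨T, q, a', hT, hq0, hnd, hsplit⟩ := exists_split (even_two_mul m) K a₀ hord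
  obtain ⟨at', f, φ, hat, hφs, hJf, hfq⟩ :=
    exists_relation A B₀ P hP hPi (2 * m) z hzP zO hzβ hspan a₀ haz hkey Bh hH
  -- lifts
  choose Tl hTl using fun i j => residue_surjective (R := A) (T i j)
  obtain ⟨ql, hql⟩ := residue_surjective (R := A) q
  choose al hal using fun i j => residue_surjective (R := A) (a' i j)
  have hTdet : IsUnit (Matrix.of Tl).det := by
    refine (isUnit_map_iff (residue A) _).1 ?_
    rw [RingHom.map_det, show (residue A).mapMatrix (Matrix.of Tl) = T from Matrix.ext fun i j => hTl i j]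
    exact hT
  have hqu : IsUnit ql := (isUnit_map_iff (residue A) ql).1 (hql ▸ isUnit_iff_ne_zero.2 hq0)
  have halnd : VanCyc.QuadNondeg al := by
    refine (isUnit_map_iff (residue A) _).1 ?_
    rw [RingHom.map_det, map_polarMatrix, show (fun i j => residue A (al i j)) = a' from funext fun i => funext (hal i)]
    exact hnd
  let y : Fin (2 * m + 1) → H := fun i => ∑ l, algebraMap A H (Tl i l) * x l
  obtain ⟨ψT, hψT⟩ := hH.exists_algEquiv y (fun i => sum_mem fun l _ => Ideal.mul_mem_left _ _ (hH.mem l))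
    (Matrix.of Tl) hTdet fun i => by simp [y]
  set mAH := (maximalIdeal A).map (algebraMap A H)
  set J3 := mAH ⊔ Ideal.span (Set.range x) ^ 3
  set tgt := x 0 ^ 2 + VanCyc.quadEval (fun i j => algebraMap A H (al i j)) (fun l => x l.succ)
  letI : Algebra k (H ⧸ mAH) := (Ideal.Quotient.lift (maximalIdeal A) (algebraMap A (H ⧸ mAH)) fun a ha =>
    Ideal.Quotient.eq_zero_iff_mem.2 (Ideal.mem_map_of_mem _ ha)).toAlgebra
  have hmk : ∀ a, Ideal.Quotient.mk mAH (algebraMap A H a) = algebraMap k (H ⧸ mAH) (residue A a) := fun a => rfl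
  have hψq : ψT (VanCyc.quadEval (fun i j => algebraMap A H (at' i j)) x) - algebraMap A H ql * tgt ∈ mAH := by
    rw [show ∀ z, ψT z = ψT.toAlgHom.toRingHom z from fun _ => rfl, map_quadEval,
      show (fun i j => ψT.toAlgHom.toRingHom (algebraMap A H (at' i j))) = fun i j => algebraMap A H (at' i j) from
        funext fun i => funext fun j => ψT.commutes _,
      show (fun i => ψT.toAlgHom.toRingHom (x i)) = y from funext hψT, ← Ideal.Quotient.eq_zero_iff_mem, map_sub,
      map_mul, map_add, map_pow, map_quadEval, map_quadEval, sub_eq_zero]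
    have h1 := hsplit (H ⧸ mAH) (fun l => Ideal.Quotient.mk mAH (x l))
    simp only [hmk, hat, hql, hal]
    rw [show (fun i => Ideal.Quotient.mk mAH (y i)) =
      (T.map (algebraMap k (H ⧸ mAH))).mulVec (fun l => Ideal.Quotient.mk mAH (x l)) from funext fun i => by
        simp [y, Matrix.mulVec, dotProduct, hmk, hTl]]
    exact h1
  let qi := algebraMap A H ↑hqu.unit⁻¹
  have hqi : qi * algebraMap A H ql = 1 := by rw [← map_mul, IsUnit.val_inv_mul, map_one]
  have hf' : qi * ψT f - tgt ∈ J3 := by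
    rw [show qi * ψT f - tgt = qi * ((ψT f - ψT (VanCyc.quadEval (fun i j => algebraMap A H (at' i j)) x)) +
      (ψT (VanCyc.quadEval (fun i j => algebraMap A H (at' i j)) x) - algebraMap A H ql * tgt)) by
        linear_combination tgt * hqi]
    refine Ideal.mul_mem_left _ _ (add_mem ?_ (Ideal.mem_sup_left hψq))
    rw [← map_sub]
    exact hH.aut_mem ψT 3 hfq
  obtain ⟨a'', b, c, ψ, u, ha'', hb, hc, hψ⟩ := hH.exists_deg_normal_form (qi * ψT f) al halnd hf'
  refine ⟨a'', b, c, φ.comp (ψ.trans ψT.symm).toAlgHom, ha'', hb, hc, hφs.comp (ψ.trans ψT.symm).surjective, ?_⟩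
  set p := aeval (R := A) x (VanCyc.degQuadPoly A a'' b c) with hp
  have hpe : p = x 0 ^ 2 + algebraMap A H b * x 0 + algebraMap A H c +
      VanCyc.quadEval (fun i j => algebraMap A H (a'' i j)) (fun l => x l.succ) := by
    rw [hp, VanCyc.degQuadPoly]
    simp only [map_add, map_mul, map_pow, aeval_X, aeval_C, aeval_rename, aeval_quadPoly_eq]
    rfl
  rw [← hpe] at hψ
  obtain ⟨v, hv⟩ : ∃ v : Hˣ, ψT.symm (ψ p) = v * f := by
    refine ⟨Units.map (ψT.symm : H →* H) u * Units.map (algebraMap A H : A →* H) hqu.unit⁻¹, ?_⟩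
    rw [hψ, map_mul, map_mul, AlgEquiv.symm_apply_apply, Units.val_mul]
    simp only [qi, AlgEquiv.commutes, Units.coe_map]
    exact (mul_assoc _ _ _).symm
  ext h
  rw [RingHom.mem_ker, AlgHom.comp_apply,
    show φ ((ψ.trans ψT.symm).toAlgHom h) = 0 ↔ ψT.symm (ψ h) ∈ RingHom.ker φ from Iff.rfl, hJf,
    Ideal.mem_span_singleton, Ideal.mem_span_singleton]
  constructor
  · rintro ⟨r, hr⟩
    refine ⟨ψ.symm (ψT (↑v⁻¹ * r)), ψ.injective (ψT.symm.injective ?_)⟩
    rw [hr, map_mul, map_mul, hv, AlgEquiv.apply_symm_apply, AlgEquiv.symm_apply_apply]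
    calc f * r = (↑v * ↑v⁻¹) * (f * r) := by rw [Units.mul_inv, one_mul]
      _ = ↑v * f * (↑v⁻¹ * r) := by ring
  · rintro ⟨r, rfl⟩
    rw [map_mul, map_mul, hv]
    exact Dvd.dvd.mul_right (dvd_mul_left _ _) _

/-- The point of the degenerate model is the origin. -/
theorem eq_origin {A : Type u} [CommRing A] [IsLocalRing A] {m : ℕ} (a' : Fin (2 * m) → Fin (2 * m) → A) (b c : A)
    (hb : b ∈ maximalIdeal A) (hc : c ∈ maximalIdeal A) (Q : Ideal (VanCyc.degQuadRing A a' b c)) [Q.IsMaximal]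
    (hQ : VanCyc.sideIdeal A a' b c ≤ Q) : Q = (VanCyc.originIdeal A).map (Ideal.Quotient.mk _) := by
  let mk : MvPolynomial (Fin (2 * m + 1)) A →+* VanCyc.degQuadRing A a' b c := Ideal.Quotient.mk _
  have hC : ∀ a ∈ maximalIdeal A, mk (MvPolynomial.C a) ∈ Q := fun a ha =>
    hQ (Ideal.mem_map_of_mem _ (Ideal.mem_sup_left (Ideal.mem_map_of_mem _ ha)))
  have hXs : ∀ i : Fin (2 * m), mk (X i.succ) ∈ Q := fun i =>
    hQ (Ideal.mem_map_of_mem _ (Ideal.mem_sup_right (Ideal.subset_span ⟨i, rfl⟩)))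
  have hquad : mk (rename Fin.succ (VanCyc.quadPoly a')) ∈ Q := by
    simp only [VanCyc.quadPoly, map_sum]
    refine sum_mem fun i _ => sum_mem fun j _ => ?_
    split_ifs
    · rw [map_mul, rename_X, map_mul]
      exact Ideal.mul_mem_left _ _ (hXs j)
    · simp
  have hX : ∀ i : Fin (2 * m + 1), mk (X i) ∈ Q := fun i => by
    refine Fin.cases ?_ hXs i
    refine (inferInstance : Q.IsMaximal).isPrime.mem_of_pow_mem 2 ?_
    have h0 : mk (X 0 ^ 2 + MvPolynomial.C b * X 0 + MvPolynomial.C c + rename Fin.succ (VanCyc.quadPoly a')) = 0 :=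
      Ideal.Quotient.eq_zero_iff_mem.2 (Ideal.mem_span_singleton_self (VanCyc.degQuadPoly A a' b c))
    rw [map_add, map_add, map_add, map_pow, map_mul] at h0
    rw [show mk (X 0) ^ 2 = -(mk (MvPolynomial.C b) * mk (X 0) + mk (MvPolynomial.C c) +
      mk (rename Fin.succ (VanCyc.quadPoly a'))) by linear_combination h0]
    exact neg_mem (add_mem (add_mem (Ideal.mul_mem_right _ _ (hC b hb)) (hC c hc)) hquad)
  have hle : (VanCyc.originIdeal A).map mk ≤ Q := by
    rw [VanCyc.originIdeal, Ideal.map_sup, Ideal.map_map, Ideal.map_span]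
    refine sup_le (Ideal.map_le_iff_le_comap.2 hC) (Ideal.span_le.2 ?_)
    rintro _ ⟨_, ⟨i, rfl⟩, rfl⟩
    exact hX i
  refine le_antisymm (fun z hz => ?_) hle
  obtain ⟨p, rfl⟩ := Ideal.Quotient.mk_surjective z
  have hd : p - MvPolynomial.C (constantCoeff p) ∈ Ideal.span (Set.range X) :=
    (mem_idealOfVars_iff _).2 (by rw [map_sub, constantCoeff_C, sub_self])
  have hcm : constantCoeff p ∈ maximalIdeal A := fun hu => by
    refine (inferInstance : Q.IsMaximal).ne_top (Ideal.eq_top_of_isUnit_mem _ ?_ ((hu.map MvPolynomial.C).map mk))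
    have h1 := sub_mem hz (hle (Ideal.mem_map_of_mem mk (Ideal.mem_sup_right hd)))
    rwa [map_sub, sub_sub_cancel] at h1
  rw [← sub_add_cancel p (MvPolynomial.C (constantCoeff p))]
  exact Ideal.mem_map_of_mem _ (add_mem (Ideal.mem_sup_right hd) (Ideal.mem_sup_left (Ideal.mem_map_of_mem _ hcm)))

end Groth.L28.HensModel
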