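import Groth.Agent.L28.HensModel.Trunc
import Groth.Agent.L28.HensModel.Morse
import Groth.Agent.L28.Morse
import Mathlib.RingTheory.MvPolynomial.Homogeneous

/-!
The ideal of a quadratic form in truncated polynomial rings.
-/

set_option autoImplicit false
set_option linter.style.haveILetI false

noncomputable section

open MvPolynomial

namespace Groth.L28.HensModel

universe u

variable {K : Type u} [Field K] {N : ℕ}

local notation "I" => idealOfVars (Fin N) K

theorem aeval_quadPoly_eq {R S : Type u} [CommRing R] [CommRing S] [Algebra R S] (a : Fin N → Fin N → R)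
    (v : Fin N → S) :
    aeval v (VanCyc.quadPoly a) = VanCyc.quadEval (fun i j => algebraMap R S (a i j)) v := by
  simp only [VanCyc.quadPoly, VanCyc.quadEval, map_sum]
  refine Finset.sum_congr rfl fun i _ => Finset.sum_congr rfl fun j _ => ?_
  split_ifs <;> simp

theorem quadPoly_mem_sq {R : Type u} [CommRing R] (a : Fin N → Fin N → R) :
    VanCyc.quadPoly a ∈ idealOfVars (Fin N) R ^ 2 := by
  rw [mem_pow_idealOfVars_iff']
  exact fun x hx => (Groth.L28.Morse.quadPoly_isHomogeneous a).coeff_eq_zero (by omega)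

/-- The linear substitution given by a matrix. -/
def lin (B : Matrix (Fin N) (Fin N) K) : MvPolynomial (Fin N) K →ₐ[K] MvPolynomial (Fin N) K :=
  aeval fun i => ∑ l, C (B i l) * X l

theorem lin_X (B : Matrix (Fin N) (Fin N) K) (i : Fin N) : lin B (X i) = ∑ l, C (B i l) * X l := aeval_X _ i

theorem isHomogeneous_lin (B : Matrix (Fin N) (Fin N) K) {p : MvPolynomial (Fin N) K} {d : ℕ}
    (hp : p.IsHomogeneous d) : (lin B p).IsHomogeneous d := by
  have h := hp.aeval (fun i => ∑ l, C (B i l) * X l) (n := 1) fun i =>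
    IsHomogeneous.sum _ _ _ fun l _ => (isHomogeneous_X _ l).C_mul _
  rwa [one_mul] at h

theorem lin_lin (B B' : Matrix (Fin N) (Fin N) K) (h : B * B' = 1) (p : MvPolynomial (Fin N) K) :
    lin B' (lin B p) = p := by
  have hC : ∀ c : K, lin B' (C c) = C c := fun c => (lin B').commutes c
  have : (lin B').comp (lin B) = AlgHom.id K _ := algHom_ext fun i => by
    rw [AlgHom.comp_apply, lin_X, map_sum, AlgHom.id_apply,
      Finset.sum_congr rfl fun l _ => show lin B' (C (B i l) * X l) = ∑ m, C (B i l * B' l m) * X m by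
        rw [map_mul, hC, lin_X, Finset.mul_sum]
        exact Finset.sum_congr rfl fun m _ => by rw [← mul_assoc, C_mul]]
    rw [Finset.sum_comm, Finset.sum_congr rfl fun m _ => show ∑ l, C (B i l * B' l m) * X m =
      C ((1 : Matrix (Fin N) (Fin N) K) i m) * X m by rw [← Finset.sum_mul, ← map_sum, ← Matrix.mul_apply, h]]
    rw [Finset.sum_eq_single i (fun m _ hm => by rw [Matrix.one_apply_ne hm.symm, map_zero, zero_mul])
      (fun hi => absurd (Finset.mem_univ i) hi), Matrix.one_apply_eq, map_one, one_mul]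
  exact AlgHom.congr_fun this p

/-- A quadratic form in new linear coordinates. -/
theorem exists_table_lin (a : Fin N → Fin N → K) (T : Matrix (Fin N) (Fin N) K) :
    ∃ t : Fin N → Fin N → K, lin T (VanCyc.quadPoly a) = VanCyc.quadPoly t := by
  let a' : Fin N → Fin N → K := fun i j => if i ≤ j then a i j else 0
  let h : Fin N → Fin N → K := fun p q => ∑ i, ∑ j, a' i j * T i p * T j q
  refine ⟨fold h, ?_⟩
  have e : ∀ b : Fin N → Fin N → K, VanCyc.quadPoly b = ∑ i, ∑ j, X i * X j * C (if i ≤ j then b i j else 0) := fun b => by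
    refine Finset.sum_congr rfl fun i _ => Finset.sum_congr rfl fun j _ => ?_
    split_ifs
    · ring
    · simp
  have e3 : ∀ i j, C (if i ≤ j then fold h i j else 0) = fold (fun i j => (C (h i j) : MvPolynomial (Fin N) K)) i j := fun i j => by
    rcases lt_trichotomy i j with hij | rfl | hij
    · simp [fold, hij.le, hij.ne, hij]
    · simp [fold]
    · simp [fold, hij.ne', not_lt.2 hij.le, not_le.2 hij]
  rw [e, e, map_sum]
  simp only [e3]
  rw [sum_fold (fun i j => (C (h i j) : MvPolynomial (Fin N) K)) X]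
  simp only [map_sum, map_mul, lin_X, ← algebraMap_eq, AlgHom.commutes]
  simp only [algebraMap_eq, h, map_sum, map_mul, Finset.mul_sum, Finset.sum_mul]
  rw [Finset.sum_congr rfl fun x _ => Finset.sum_congr rfl fun x' _ => Finset.sum_comm, Finset.sum_comm_cycle]
  refine Finset.sum_congr rfl fun p _ => ?_
  rw [Finset.sum_comm_cycle]
  refine Finset.sum_congr rfl fun q _ => Finset.sum_congr rfl fun i _ => Finset.sum_congr rfl fun j _ => ?_
  simp only [a']
  ring

theorem aeval_sub_aeval_mem {v w : Fin N → MvPolynomial (Fin N) K} (hv : ∀ i, v i ∈ I) (hw : ∀ i, w i ∈ I)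
    (hvw : ∀ i, v i - w i ∈ I ^ 2) : ∀ (d : ℕ) (p : MvPolynomial (Fin N) K), p ∈ I ^ d →
      aeval v p ∈ I ^ d ∧ aeval v p - aeval w p ∈ I ^ (d + 1) := by
  have h0 : ∀ p : MvPolynomial (Fin N) K, aeval v p - aeval w p ∈ I := fun p => by
    induction p using MvPolynomial.induction_on with
    | C c => simp
    | add p q hp hq => rw [map_add, map_add, add_sub_add_comm]; exact add_mem hp hq
    | mul_X p i hp =>
      rw [map_mul, map_mul, aeval_X, aeval_X]
      exact sub_mem (Ideal.mul_mem_left _ _ (hv i)) (Ideal.mul_mem_left _ _ (hw i))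
  have hm : ∀ (u : Fin N → MvPolynomial (Fin N) K), (∀ i, u i ∈ I) → ∀ p ∈ I, aeval u p ∈ I := fun u hu p hp => by
    induction hp using Submodule.span_induction with
    | mem y hy => obtain ⟨i, rfl⟩ := hy; rw [aeval_X]; exact hu i
    | zero => simp
    | add a b _ _ ha hb => rw [map_add]; exact add_mem ha hb
    | smul r a _ ha => rw [smul_eq_mul, map_mul]; exact Ideal.mul_mem_left _ _ ha
  have h1 : ∀ p ∈ I, aeval v p - aeval w p ∈ I ^ 2 := fun p hp => by
    induction hp using Submodule.span_induction with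
    | mem y hy => obtain ⟨i, rfl⟩ := hy; rw [aeval_X, aeval_X]; exact hvw i
    | zero => simp
    | add a b _ _ ha hb => rw [map_add, map_add, add_sub_add_comm]; exact add_mem ha hb
    | smul r a ha' ha =>
      rw [smul_eq_mul, map_mul, map_mul, show aeval v r * aeval v a - aeval w r * aeval w a =
        (aeval v r - aeval w r) * aeval v a + aeval w r * (aeval v a - aeval w a) by ring]
      refine add_mem ?_ (Ideal.mul_mem_left _ _ ha)
      rw [sq]
      exact Ideal.mul_mem_mul (h0 r) (hm v hv a ha')
  have h2 : ∀ (d : ℕ) (p : MvPolynomial (Fin N) K), p ∈ I ^ d →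
      aeval v p ∈ I ^ d ∧ aeval w p ∈ I ^ d ∧ aeval v p - aeval w p ∈ I ^ (d + 1) := by
    intro d
    induction d with
    | zero => exact fun p _ => ⟨by simp, by simp, by rw [zero_add, pow_one]; exact h0 p⟩
    | succ d ih =>
      intro p hp
      rw [pow_succ] at hp
      refine Submodule.mul_induction_on hp (fun a ha b hb => ?_) fun a b ha hb => ?_
      · obtain ⟨i1, i2, i3⟩ := ih a ha
        simp only [map_mul]
        refine ⟨Ideal.mul_mem_mul i1 (hm v hv b hb), Ideal.mul_mem_mul i2 (hm w hw b hb), ?_⟩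
        rw [show aeval v a * aeval v b - aeval w a * aeval w b =
          (aeval v a - aeval w a) * aeval v b + aeval w a * (aeval v b - aeval w b) by ring]
        refine add_mem (pow_succ (I) (d + 1) ▸ Ideal.mul_mem_mul i3 (hm v hv b hb)) ?_
        rw [show d + 1 + 1 = d + 2 by omega, pow_add]
        exact Ideal.mul_mem_mul i2 (h1 b hb)
      · simp only [map_add, add_sub_add_comm]
        exact ⟨add_mem ha.1 hb.1, add_mem ha.2.1 hb.2.1, add_mem ha.2.2 hb.2.2⟩
  exact fun d p hp => ⟨(h2 d p hp).1, (h2 d p hp).2.2⟩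

theorem homogeneousComponent_eq_zero_of_mem {d n : ℕ} (hd : d < n) {p : MvPolynomial (Fin N) K} (hp : p ∈ I ^ n) :
    homogeneousComponent d p = 0 := by
  rw [mem_pow_idealOfVars_iff'] at hp
  exact homogeneousComponent_eq_zero' d p fun e he h => mem_support_iff.1 he (hp e (by omega))

theorem sub_homogeneousComponent_mem {d : ℕ} {p : MvPolynomial (Fin N) K} (hp : p ∈ I ^ d) :
    p - homogeneousComponent d p ∈ I ^ (d + 1) := by
  classical
  rw [mem_pow_idealOfVars_iff'] at hp ⊢
  intro e he
  rw [coeff_sub, coeff_homogeneousComponent]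
  split_ifs with h
  · exact sub_self _
  · rw [sub_zero]; exact hp e (by omega)

theorem homogeneous_mem {d : ℕ} {p : MvPolynomial (Fin N) K} (hp : p.IsHomogeneous d) : p ∈ I ^ d := by
  rw [mem_pow_idealOfVars_iff']
  exact fun x hx => hp.coeff_eq_zero (by omega)

theorem homogeneousComponent_mul {r : ℕ} {q : MvPolynomial (Fin N) K} (hq : q.IsHomogeneous r)
    (u : MvPolynomial (Fin N) K) (d : ℕ) :
    homogeneousComponent d (q * u) = if r ≤ d then q * homogeneousComponent (d - r) u else 0 := by
  conv_lhs => rw [← sum_homogeneousComponent u, Finset.mul_sum, map_sum]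
  have e : ∀ i, homogeneousComponent d (q * homogeneousComponent i u) =
      if r + i = d then q * homogeneousComponent i u else 0 := fun i => by
    have h : (q * homogeneousComponent i u).IsHomogeneous (r + i) := hq.mul (homogeneousComponent_isHomogeneous i u)
    rw [homogeneousComponent_of_mem h]
    exact if_congr eq_comm rfl rfl
  simp only [e]
  split_ifs with h
  · rw [Finset.sum_eq_single (d - r) (fun b _ hb => if_neg (by omega)) fun hb => ?_, if_pos (by omega)]
    rw [if_pos (by omega), homogeneousComponent_eq_zero _ _ (by rw [Finset.mem_range] at hb; omega), mul_zero]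
  · exact Finset.sum_eq_zero fun b _ => if_neg (by omega)

variable (a : Fin N → Fin N → K) (v : Fin N → MvPolynomial (Fin N) K) (B B' : Matrix (Fin N) (Fin N) K)

/-- The leading form of an element of the substituted quadratic ideal is a multiple of the transformed form. -/
theorem exists_leading (hv : ∀ i, v i ∈ I) (hvB : ∀ i, v i - ∑ l, C (B i l) * X l ∈ I ^ 2)
    {j d : ℕ} (hdj : d < j) {h : MvPolynomial (Fin N) K} (hd : h ∈ I ^ d)
    (hh : aeval v h ∈ Ideal.span {VanCyc.quadPoly a} ⊔ I ^ j) :
    (d < 2 → lin B (homogeneousComponent d h) = 0) ∧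
      ∃ u : MvPolynomial (Fin N) K, u.IsHomogeneous (d - 2) ∧
        lin B (homogeneousComponent d h) = VanCyc.quadPoly a * u := by
  obtain ⟨y, hy, z, hz, hyz⟩ := Submodule.mem_sup.1 hh
  obtain ⟨u, rfl⟩ := Ideal.mem_span_singleton.1 hy
  have hw : ∀ i, ∑ l, C (B i l) * X l ∈ I := fun i => by
    rw [← sub_sub_cancel (v i) (∑ l, C (B i l) * X l)]
    exact sub_mem (hv i) (Ideal.pow_le_self two_ne_zero (hvB i))
  have h1 : aeval v h - lin B (homogeneousComponent d h) ∈ I ^ (d + 1) := by
    have hh1 := (aeval_sub_aeval_mem hv hw hvB (d + 1) _ (sub_homogeneousComponent_mem hd)).1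
    have hh2 := (aeval_sub_aeval_mem hv hw hvB d _ (homogeneous_mem (homogeneousComponent_isHomogeneous d h))).2
    have := add_mem hh1 hh2
    rwa [map_sub, sub_add_sub_cancel] at this
  have h2 := homogeneousComponent_eq_zero_of_mem (Nat.lt_succ_self d) h1
  rw [map_sub, sub_eq_zero, ← hyz, map_add, homogeneousComponent_eq_zero_of_mem hdj hz, add_zero,
    homogeneousComponent_mul (Groth.L28.Morse.quadPoly_isHomogeneous a),
    homogeneousComponent_of_mem (isHomogeneous_lin B (homogeneousComponent_isHomogeneous d h)), if_pos rfl] at h2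
  split_ifs at h2 with h3
  · exact ⟨fun hl => absurd h3 (by omega), _, homogeneousComponent_isHomogeneous _ u, h2.symm⟩
  · exact ⟨fun _ => h2.symm, 0, isHomogeneous_zero _ _ _, by rw [← h2, mul_zero]⟩

/-- The substituted quadratic ideal is generated by any element with a nonzero quadratic leading form. -/
theorem mem_span_sup_pow (hv : ∀ i, v i ∈ I) (hvB : ∀ i, v i - ∑ l, C (B i l) * X l ∈ I ^ 2) (hB : B * B' = 1)
    {j : ℕ} (hj : 3 ≤ j) {g p : MvPolynomial (Fin N) K} (hg : g.IsHomogeneous 2) (hg0 : g ≠ 0)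
    (hpg : p - g ∈ I ^ 3) (hp : aeval v p ∈ Ideal.span {VanCyc.quadPoly a} ⊔ I ^ j) {h : MvPolynomial (Fin N) K}
    (hh : aeval v h ∈ Ideal.span {VanCyc.quadPoly a} ⊔ I ^ j) : h ∈ Ideal.span {p} ⊔ I ^ j := by
  have hp2 : p ∈ I ^ 2 := by
    have := add_mem (Ideal.pow_le_pow_right (by norm_num : 2 ≤ 3) hpg) (homogeneous_mem hg)
    rwa [sub_add_cancel] at this
  have hpc : homogeneousComponent 2 p = g := by
    have := homogeneousComponent_eq_zero_of_mem (by norm_num : 2 < 3) hpg
    rwa [map_sub, sub_eq_zero, homogeneousComponent_of_mem hg, if_pos rfl] at this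
  obtain ⟨c, hc, hgc⟩ := (exists_leading a v B hv hvB (by omega) hp2 hp).2
  rw [hpc] at hgc
  obtain ⟨c, rfl⟩ : ∃ t : K, c = C t := ⟨_, totalDegree_eq_zero_iff_eq_C.1 (Nat.le_zero.1 hc.totalDegree_le)⟩
  have hc0 : c ≠ 0 := fun h0 => hg0 (by rw [← lin_lin B B' hB g, hgc, h0, C_0, mul_zero, map_zero])
  have hQ : lin B' (VanCyc.quadPoly a) = C c⁻¹ * g := by
    conv_rhs => rw [← lin_lin B B' hB g, hgc, map_mul, ← algebraMap_eq, AlgHom.commutes, mul_left_comm,
      ← map_mul, inv_mul_cancel₀ hc0, map_one, mul_one]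
  have key : ∀ (m d : ℕ) (h : MvPolynomial (Fin N) K), d + m = j → h ∈ I ^ d →
      aeval v h ∈ Ideal.span {VanCyc.quadPoly a} ⊔ I ^ j → h ∈ Ideal.span {p} ⊔ I ^ j := by
    intro m
    induction m with
    | zero => intro d h hdj hd _; exact Ideal.mem_sup_right (by rwa [show j = d by omega])
    | succ m ih =>
      intro d h hdj hd hh
      obtain ⟨h2, u, hu, hQu⟩ := exists_leading a v B hv hvB (by omega) hd hh
      have hs := sub_homogeneousComponent_mem hd
      rcases lt_or_ge d 2 with hlt | hge
      · rw [← lin_lin B B' hB (homogeneousComponent d h), h2 hlt, map_zero, sub_zero] at hs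
        exact ih (d + 1) h (by omega) hs hh
      · set u' := C c⁻¹ * lin B' u with hu'
        have hu'd : u' ∈ I ^ (d - 2) := Ideal.mul_mem_left _ _ (homogeneous_mem (isHomogeneous_lin B' hu))
        have he : homogeneousComponent d h = g * u' := by
          rw [← lin_lin B B' hB (homogeneousComponent d h), hQu, map_mul, hQ, hu']
          ring
        have hmem : h - p * u' ∈ I ^ (d + 1) := by
          rw [show h - p * u' = (h - g * u') - (p - g) * u' by ring]
          refine sub_mem (he ▸ hs) ?_
          rw [show d + 1 = 3 + (d - 2) by omega, pow_add]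
          exact Ideal.mul_mem_mul hpg hu'd
        have hker : aeval v (h - p * u') ∈ Ideal.span {VanCyc.quadPoly a} ⊔ I ^ j := by
          rw [map_sub, map_mul]
          exact sub_mem hh (Ideal.mul_mem_right _ _ hp)
        rw [← sub_add_cancel h (p * u')]
        exact add_mem (ih (d + 1) _ (by omega) hmem hker)
          (Ideal.mem_sup_left (Ideal.mem_span_singleton.2 ⟨u', rfl⟩))
  exact key j 0 h (zero_add j) (by simp) hh

end Groth.L28.HensModel
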