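import Groth.Agent.L28.HensModel.Rational
import Mathlib.RingTheory.Flat.Basic

/-!
The residue field of a geometrically quadratic point.
-/

set_option autoImplicit false
set_option linter.style.haveILetI false
set_option maxHeartbeats 3000000

noncomputable section

open IsLocalRing MvPolynomial TensorProduct

namespace Groth.L28.HensModel

universe u

variable {k K O : Type u} [Field k] [Field K] [Algebra k K] [CommRing O] [IsLocalRing O] [Algebra k O] {N : ℕ}

theorem quadEval_dual {R : Type u} [CommRing R] (a : Fin N → Fin N → R) (x w : Fin N → R) :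
    VanCyc.quadEval (fun i j => algebraMap R (DualNumber R) (a i j))
      (fun l => TrivSqZeroExt.inl (x l) + TrivSqZeroExt.inr (w l)) =
      TrivSqZeroExt.inl (VanCyc.quadEval a x) +
        TrivSqZeroExt.inr (∑ p, ∑ q, x p * VanCyc.polarMatrix a p q * w q) := by
  have h : (fun l => (TrivSqZeroExt.inl (x l) + TrivSqZeroExt.inr (w l) : DualNumber R)) =
      (fun l => TrivSqZeroExt.inl (x l)) + fun l => TrivSqZeroExt.inr (w l) := rfl
  rw [h, quadEval_add]
  have h1 : ∀ (v : Fin N → R), VanCyc.quadEval (fun i j => algebraMap R (DualNumber R) (a i j))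
      (fun l => TrivSqZeroExt.inl (v l)) = TrivSqZeroExt.inl (VanCyc.quadEval a v) := fun v => by
    show _ = TrivSqZeroExt.inlHom R R (VanCyc.quadEval a v)
    simp only [VanCyc.quadEval, map_sum]
    refine Finset.sum_congr rfl fun i _ => Finset.sum_congr rfl fun j _ => ?_
    split_ifs
    · simp only [map_mul]; rfl
    · simp
  have h2 : VanCyc.quadEval (fun i j => algebraMap R (DualNumber R) (a i j))
      (fun l => (TrivSqZeroExt.inr (w l) : DualNumber R)) = 0 := by
    refine Finset.sum_eq_zero fun i _ => Finset.sum_eq_zero fun j _ => ?_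
    split_ifs
    · rw [mul_assoc, TrivSqZeroExt.inr_mul_inr, mul_zero]
    · rfl
  have h3 : ∀ p q, VanCyc.polarMatrix (fun i j => algebraMap R (DualNumber R) (a i j)) p q =
      TrivSqZeroExt.inl (VanCyc.polarMatrix a p q) := fun p q => by
    have := congrFun (congrFun (map_polarMatrix (algebraMap R (DualNumber R)) a) p) q
    exact this.symm
  rw [h1, h2, add_zero, TrivSqZeroExt.inr_sum]
  simp only [h3, ← TrivSqZeroExt.inl_mul, TrivSqZeroExt.inl_mul_inr, smul_eq_mul, TrivSqZeroExt.inr_sum]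

/-- A section of a surjection of rings which is linear over a field mapping to the source. -/
theorem exists_section {F S T : Type u} [Field F] [CommRing S] [CommRing T] (f : F →+* S) (g : S →+* T)
    (hg : Function.Surjective g) :
    ∃ s : T →+ S, (∀ c, g (s c) = c) ∧ ∀ l c, s (g (f l) * c) = f l * s c := by
  letI : Algebra F S := f.toAlgebra
  letI : Algebra F T := (g.comp f).toAlgebra
  let gA : S →ₐ[F] T := { g with commutes' := fun _ => rfl }
  obtain ⟨s, hs⟩ := gA.toLinearMap.exists_rightInverse_of_surjective (LinearMap.range_eq_top.2 hg)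
  exact ⟨s.toAddMonoidHom, fun c => LinearMap.congr_fun hs c, fun l c => s.map_smul l c⟩

set_option backward.isDefEq.respectTransparency.types false in
/-- The residue field is trivial. -/
theorem rational_of_trunc [IsNoetherianRing (K ⊗[k] O)]
    (hM : ∀ (M : Ideal (K ⊗[k] O)) [M.IsMaximal], ∃ a : Fin N → Fin N → K, VanCyc.QuadNondeg a ∧ HasTrunc M a)
    (hins : ∀ y : O, ∃ (e : ℕ) (c : k), y ^ ringExpChar k ^ e - algebraMap k O c ∈ maximalIdeal O) (y : O) :
    ∃ c : k, y - algebraMap k O c ∈ maximalIdeal O := by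
  classical
  let L := ResidueField O
  let res : O →ₐ[k] L := IsScalarTower.toAlgHom k O L
  have hres : ∀ z, res z = residue O z := fun _ => rfl
  have hinsL : ∀ l : L, ∃ (e : ℕ) (c : k), l ^ ringExpChar k ^ e = algebraMap k L c := fun l => by
    obtain ⟨z, rfl⟩ := residue_surjective l
    obtain ⟨e, c, h⟩ := hins z
    refine ⟨e, c, ?_⟩
    rw [← hres, ← map_pow, ← res.commutes c, ← sub_eq_zero, ← map_sub, hres, residue_eq_zero_iff]
    exact h
  let R := K ⊗[k] O
  let R₁ := K ⊗[k] L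
  haveI : Nontrivial R₁ := (Algebra.TensorProduct.includeLeft_injective (S := k) (A := K) (B := L)
    (algebraMap k L).injective).nontrivial
  let ρ : R →ₐ[K] R₁ := Algebra.TensorProduct.map (AlgHom.id K K) res
  have hρ : Function.Surjective ρ := fun z => by
    induction z using TensorProduct.induction_on with
    | zero => exact ⟨0, map_zero _⟩
    | tmul c l =>
      obtain ⟨b, rfl⟩ := residue_surjective l
      exact ⟨c ⊗ₜ b, rfl⟩
    | add u v hu hv =>
      obtain ⟨u', rfl⟩ := hu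
      obtain ⟨v', rfl⟩ := hv
      exact ⟨u' + v', map_add _ _ _⟩
  haveI : IsNoetherianRing R₁ := isNoetherianRing_of_surjective R R₁ ρ.toRingHom hρ
  obtain ⟨M₁, hM₁⟩ := Ideal.exists_maximal R₁
  let M : Ideal R := M₁.comap ρ.toRingHom
  haveI : M.IsMaximal := Ideal.comap_isMaximal_of_surjective ρ.toRingHom hρ
  obtain ⟨a, ha, htr⟩ := hM M
  obtain ⟨e₀, he₀⟩ : ∃ e : ℕ, M₁ ^ e = ⊥ := by
    obtain ⟨e, he⟩ := Ideal.exists_pow_le_of_le_radical_of_fg (I := M₁) (J := ⊥)
      (fun z hz => isNilpotent_of_mem_prime hinsL M₁ hz) (IsNoetherian.noetherian _)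
    exact ⟨e, le_bot_iff.1 he⟩
  obtain ⟨Λ, hΛs, hΛk⟩ := htr (2 * e₀ + 2)
  obtain ⟨χ, δ, hχM, hχ, hδ⟩ := HasTrunc.exists_tangent M (by omega) Λ hΛs hΛk
  -- the residue map of the tensor product
  let π₁ : R₁ →ₐ[K] K := AlgHom.liftOfSurjective ρ hρ χ fun r hr => by
    rw [RingHom.mem_ker] at hr ⊢
    show χ r = 0
    rw [hχM]
    show ρ r ∈ M₁
    rw [show ρ r = 0 from hr]
    exact zero_mem _
  have hπρ : ∀ r, π₁ (ρ r) = χ r := fun r => AlgHom.liftOfSurjective_apply _ _ _ _ r
  have hker₁ : ∀ z, π₁ z = 0 → z ∈ M₁ := fun z hz => by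
    obtain ⟨r, rfl⟩ := hρ z
    rw [hπρ, hχM] at hz
    exact hz
  let inc : L →ₐ[k] R₁ := Algebra.TensorProduct.includeRight
  obtain ⟨s, hsπ, hsL₀⟩ := exists_section inc.toRingHom π₁.toRingHom fun c => ⟨algebraMap K R₁ c, π₁.commutes c⟩
  replace hsπ : ∀ c, π₁ (s c) = c := hsπ
  have hsL : ∀ (b : O) (c : K), (inc (res b)) * s c = s (π₁ (inc (res b)) * c) := fun b c => (hsL₀ (res b) c).symm
  have hχr : ∀ b : O, π₁ (inc (res b)) = χ ((1 : K) ⊗ₜ[k] b) := fun b => hπρ ((1 : K) ⊗ₜ[k] b)
  have hfst : ∀ i r, TrivSqZeroExt.fst (δ i r) = χ r := fun i r => by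
    obtain ⟨p, hp⟩ := hΛs (Ideal.Quotient.mk _ r)
    rw [hδ i p r hp, hχ p r hp]
    simp
  -- the lifted tangent vectors
  let D : Fin N → O → K := fun i b => TrivSqZeroExt.snd (δ i ((1 : K) ⊗ₜ[k] b))
  let Φ₀ : Fin N → O →ₐ[k] DualNumber R₁ := fun i =>
    { toFun := fun b => TrivSqZeroExt.inl (inc (res b)) + TrivSqZeroExt.inr (s (D i b))
      map_one' := by
        have h : D i 1 = 0 := by
          show TrivSqZeroExt.snd (δ i (1 : R)) = 0
          rw [map_one, TrivSqZeroExt.snd_one]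
        rw [h, map_zero, TrivSqZeroExt.inr_zero, add_zero, map_one, map_one, TrivSqZeroExt.inl_one]
      map_mul' := fun b b' => by
        have h : D i (b * b') = χ ((1 : K) ⊗ₜ[k] b) * D i b' + D i b * χ ((1 : K) ⊗ₜ[k] b') := by
          show TrivSqZeroExt.snd (δ i ((1 : K) ⊗ₜ[k] (b * b'))) = _
          rw [show (1 : K) ⊗ₜ[k] (b * b') = ((1 : K) ⊗ₜ[k] b) * ((1 : K) ⊗ₜ[k] b') by
            rw [Algebra.TensorProduct.tmul_mul_tmul, one_mul], map_mul, TrivSqZeroExt.snd_mul, hfst, hfst]
          simp only [D, MulOpposite.smul_eq_mul_unop, MulOpposite.unop_op, smul_eq_mul]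
        rw [h, map_add s, mul_comm (D i b), ← hχr, ← hχr, ← hsL, ← hsL]
        ext <;> simp only [map_mul, TrivSqZeroExt.fst_add, TrivSqZeroExt.snd_add, TrivSqZeroExt.fst_mul, TrivSqZeroExt.snd_mul,
          TrivSqZeroExt.fst_inl, TrivSqZeroExt.snd_inl, TrivSqZeroExt.fst_inr, TrivSqZeroExt.snd_inr,
          MulOpposite.smul_eq_mul_unop, MulOpposite.unop_op, smul_eq_mul, add_zero, zero_add] <;> ring
      map_zero' := by
        have h : D i 0 = 0 := by
          show TrivSqZeroExt.snd (δ i ((1 : K) ⊗ₜ[k] (0 : O))) = 0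
          rw [TensorProduct.tmul_zero, map_zero, TrivSqZeroExt.snd_zero]
        rw [h, map_zero, map_zero, map_zero, TrivSqZeroExt.inr_zero, TrivSqZeroExt.inl_zero, add_zero]
      map_add' := fun b b' => by
        have h : D i (b + b') = D i b + D i b' := by
          show TrivSqZeroExt.snd (δ i ((1 : K) ⊗ₜ[k] (b + b'))) = _
          rw [TensorProduct.tmul_add, map_add, TrivSqZeroExt.snd_add]
        rw [h, map_add, map_add, map_add, TrivSqZeroExt.inl_add, TrivSqZeroExt.inr_add]
        abel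
      commutes' := fun c => by
        have h : D i (algebraMap k O c) = 0 := by
          show TrivSqZeroExt.snd (δ i (Algebra.TensorProduct.includeRight (R := k) (A := K) (algebraMap k O c))) = 0
          rw [AlgHom.commutes, IsScalarTower.algebraMap_apply k K R, AlgHom.commutes,
            TrivSqZeroExt.algebraMap_eq_inl]
          exact TrivSqZeroExt.snd_inl K _
        rw [h, map_zero, TrivSqZeroExt.inr_zero, add_zero, AlgHom.commutes, AlgHom.commutes]
        rfl }
  let Φ : Fin N → R →ₐ[K] DualNumber R₁ := fun i =>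
    Algebra.TensorProduct.lift (Algebra.ofId K _) (Φ₀ i) fun _ _ => Commute.all _ _
  have hΦt : ∀ i (c : K) (b : O), Φ i (c ⊗ₜ b) = algebraMap K _ c *
      (TrivSqZeroExt.inl (inc (res b)) + TrivSqZeroExt.inr (s (D i b))) := fun i c b =>
    Algebra.TensorProduct.lift_tmul _ _ _ c b
  have hfstΦ : ∀ i r, TrivSqZeroExt.fst (Φ i r) = ρ r := fun i r => by
    induction r using TensorProduct.induction_on with
    | zero => simp
    | tmul c b =>
      rw [hΦt, IsScalarTower.algebraMap_apply K R₁ (DualNumber R₁), TrivSqZeroExt.algebraMap_eq_inl,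
        TrivSqZeroExt.fst_mul, TrivSqZeroExt.fst_add, TrivSqZeroExt.fst_inl, TrivSqZeroExt.fst_inl, TrivSqZeroExt.fst_inr, add_zero]
      show (c ⊗ₜ[k] (1 : L)) * ((1 : K) ⊗ₜ[k] res b) = c ⊗ₜ[k] res b
      rw [Algebra.TensorProduct.tmul_mul_tmul, mul_one, one_mul]
    | add u v hu hv => rw [map_add, TrivSqZeroExt.fst_add, hu, hv, map_add]
  have hsndΦ : ∀ i r, π₁ (TrivSqZeroExt.snd (Φ i r)) = TrivSqZeroExt.snd (δ i r) := fun i r => by
    induction r using TensorProduct.induction_on with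
    | zero => simp
    | tmul c b =>
      rw [hΦt, show c ⊗ₜ[k] b = c • ((1 : K) ⊗ₜ[k] b) by rw [TensorProduct.smul_tmul', smul_eq_mul, mul_one],
        map_smul (δ i), TrivSqZeroExt.snd_smul, IsScalarTower.algebraMap_apply K R₁ (DualNumber R₁),
        TrivSqZeroExt.algebraMap_eq_inl]
      simp [hsπ, D]
    | add u v hu hv => rw [map_add, TrivSqZeroExt.snd_add, map_add, hu, hv, map_add, TrivSqZeroExt.snd_add]
  have hΦM : ∀ i, ∀ r ∈ M ^ (2 * e₀ + 2), Φ i r = 0 := fun i => by
    have h1 : ∀ r ∈ M ^ e₀, TrivSqZeroExt.fst (Φ i r) = 0 := fun r hr => by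
      rw [hfstΦ]
      have := Ideal.le_comap_pow ρ.toRingHom e₀ hr
      rw [he₀] at this
      exact this
    intro r hr
    have hr' : r ∈ M ^ e₀ * M ^ e₀ := by
      rw [← pow_add]
      exact Ideal.pow_le_pow_right (by omega) hr
    refine Submodule.mul_induction_on hr' (fun p hp q hq => ?_) fun p q hp hq => by rw [map_add, hp, hq, add_zero]
    rw [map_mul]
    ext <;> simp [h1 p hp, h1 q hq]
  choose r hr using fun l => Ideal.Quotient.mk_surjective (Λ (X l))
  let g : Fin N → R ⧸ M ^ (2 * e₀ + 2) →ₐ[K] DualNumber R₁ := fun i => Ideal.Quotient.liftₐ _ (Φ i) (hΦM i)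
  have hg : ∀ i l, g i (Λ (X l)) = TrivSqZeroExt.inl (ρ (r l)) + TrivSqZeroExt.inr (TrivSqZeroExt.snd (Φ i (r l))) :=
    fun i l => by
      rw [← hr l, show g i (Ideal.Quotient.mk _ (r l)) = Φ i (r l) from rfl, ← hfstΦ i, TrivSqZeroExt.inl_fst_add_inr_snd_eq]
  let xb : Fin N → R₁ := fun l => ρ (r l)
  let W : Matrix (Fin N) (Fin N) R₁ := fun l i => TrivSqZeroExt.snd (Φ i (r l))
  let aR : Fin N → Fin N → R₁ := fun p q => algebraMap K R₁ (a p q)
  have hW : π₁.toRingHom.mapMatrix W = 1 := by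
    ext l i
    show π₁ (TrivSqZeroExt.snd (Φ i (r l))) = _
    rw [hsndΦ, hδ i (X l) (r l) (hr l).symm]
    rcases eq_or_ne l i with rfl | hne
    · simp [coeff_X]
    · simp [Matrix.one_apply_ne hne, coeff_X', Finsupp.single_left_inj, hne]
  have hWdet : IsUnit W.det := by
    have h1 : π₁ (1 - W.det) = 0 := by
      rw [map_sub, map_one, sub_eq_zero, show π₁ W.det = π₁.toRingHom W.det from rfl, RingHom.map_det, hW, Matrix.det_one]
    simpa using (isNilpotent_of_mem_prime hinsL M₁ (hker₁ _ h1)).isUnit_one_sub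
  have hrel : Matrix.vecMul (Matrix.vecMul xb (VanCyc.polarMatrix aR)) W = 0 := by
    funext i
    have h0 : g i (Λ (VanCyc.quadPoly a)) = 0 := by
      rw [(hΛk _).2 (Ideal.mem_sup_left (Ideal.mem_span_singleton_self _)), map_zero]
    rw [show g i (Λ (VanCyc.quadPoly a)) = ((g i).comp Λ) (VanCyc.quadPoly a) from rfl,
      MvPolynomial.aeval_unique ((g i).comp Λ), aeval_quadPoly_eq] at h0
    have e : (((g i).comp Λ : _ → _) ∘ X) = fun l => TrivSqZeroExt.inl (xb l) + TrivSqZeroExt.inr (W l i) :=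
      funext fun l => hg i l
    rw [e, show (fun p q => algebraMap K (DualNumber R₁) (a p q)) = fun p q => algebraMap R₁ (DualNumber R₁) (aR p q) from
      funext fun p => funext fun q => IsScalarTower.algebraMap_apply K R₁ (DualNumber R₁) (a p q), quadEval_dual] at h0
    have h1 := congrArg TrivSqZeroExt.snd h0
    simp only [TrivSqZeroExt.snd_add, TrivSqZeroExt.snd_inl, TrivSqZeroExt.snd_inr, zero_add, TrivSqZeroExt.snd_zero] at h1
    show ∑ q, (∑ p, xb p * VanCyc.polarMatrix aR p q) * W q i = 0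
    rw [Finset.sum_congr rfl fun q _ => Finset.sum_mul _ _ _, Finset.sum_comm]
    exact h1
  have hPdet : IsUnit (VanCyc.polarMatrix aR).det := by
    have := (show IsUnit (VanCyc.polarMatrix a).det from ha).map (algebraMap K R₁)
    rwa [RingHom.map_det, map_polarMatrix] at this
  have hxb : ∀ l, xb l = 0 := fun l => by
    rw [Matrix.vecMul_vecMul] at hrel
    have hu : IsUnit (VanCyc.polarMatrix aR * W).det := by rw [Matrix.det_mul]; exact hPdet.mul hWdet
    have : xb = 0 := by
      rw [← Matrix.vecMul_one xb, ← Matrix.mul_nonsing_inv _ hu, ← Matrix.vecMul_vecMul, hrel, Matrix.zero_vecMul]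
    exact congrFun this l
  -- the conclusion
  obtain ⟨p, hp⟩ := hΛs (Ideal.Quotient.mk _ ((1 : K) ⊗ₜ[k] y))
  have hρM : ∀ t ∈ M ^ (2 * e₀ + 2), ρ t = 0 := fun t ht => by
    have h2 := Ideal.le_comap_pow ρ.toRingHom e₀ (Ideal.pow_le_pow_right (show e₀ ≤ 2 * e₀ + 2 by omega) ht)
    rw [he₀] at h2
    exact h2
  let ρQ : R ⧸ M ^ (2 * e₀ + 2) →ₐ[K] R₁ := Ideal.Quotient.liftₐ _ ρ hρM
  have hc : ρ ((1 : K) ⊗ₜ[k] y) = algebraMap K R₁ (constantCoeff p) := by
    have h1 : ρ ((1 : K) ⊗ₜ[k] y) = (ρQ.comp Λ) p := by rw [AlgHom.comp_apply, hp]; rfl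
    rw [h1]
    refine RingHom.congr_fun (f := (ρQ.comp Λ).toRingHom) (g := (algebraMap K R₁).comp (constantCoeff (R := K) (σ := Fin N)))
      (MvPolynomial.ringHom_ext (fun c => ?_) fun l => ?_) p
    · show (ρQ.comp Λ) (C c) = _
      rw [← algebraMap_eq, AlgHom.commutes]
      simp
    · show ρQ (Λ (X l)) = algebraMap K R₁ (constantCoeff (X l))
      rw [constantCoeff_X, map_zero, ← hr l]
      exact hxb l
  by_contra hne
  push Not at hne
  have hnot : res y ∉ Submodule.span k {(1 : L)} := fun h => by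
    obtain ⟨c, hc⟩ := Submodule.mem_span_singleton.1 h
    refine hne c ((residue_eq_zero_iff _).1 ?_)
    rw [← hres, map_sub, AlgHom.commutes, ← hc, Algebra.smul_def, mul_one, sub_self]
  obtain ⟨φ, hφy, hφ⟩ := Submodule.exists_dual_map_eq_bot_of_notMem hnot inferInstance
  have hφ1 : φ 1 = 0 := by
    have := Submodule.mem_map_of_mem (f := φ) (Submodule.mem_span_singleton_self (R := k) (1 : L))
    rw [hφ] at this
    exact this
  rw [show ρ ((1 : K) ⊗ₜ[k] y) = (1 : K) ⊗ₜ[k] res y from rfl,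
    show algebraMap K R₁ (constantCoeff p) = constantCoeff p ⊗ₜ[k] (1 : L) from rfl] at hc
  have h2 := congrArg (fun z => TensorProduct.rid k K (φ.lTensor K z)) hc
  simp only [LinearMap.lTensor_tmul, TensorProduct.rid_tmul, hφ1, zero_smul] at h2
  rw [← Algebra.algebraMap_eq_smul_one, map_eq_zero] at h2
  exact hφy h2

end Groth.L28.HensModel
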