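import Groth.Agent.L28.HensModel.Graded
import Groth.Agent.L14.Quad.Cone

/-!
Rationality of a geometrically quadratic point with purely inseparable residue field.
-/

set_option autoImplicit false
set_option linter.style.haveILetI false
set_option maxHeartbeats 1000000

noncomputable section

open IsLocalRing MvPolynomial TensorProduct

namespace Groth.L28.HensModel

universe u

/-- The truncations at a point are those of the quadratic cone with table `a`. -/
def HasTrunc {K : Type u} [Field K] {R : Type u} [CommRing R] [Algebra K R] (M : Ideal R) {N : ℕ}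
    (a : Fin N → Fin N → K) : Prop :=
  ∀ j : ℕ, ∃ Λ : MvPolynomial (Fin N) K →ₐ[K] R ⧸ M ^ j, Function.Surjective Λ ∧
    ∀ p, Λ p = 0 ↔ p ∈ Ideal.span {VanCyc.quadPoly a} ⊔ idealOfVars (Fin N) K ^ j

set_option backward.isDefEq.respectTransparency.types false in
theorem hasTrunc_of_ordSing {K : Type u} [Field K] [IsAlgClosed K] {R : Type u} [CommRing R] [Algebra K R]
    [IsNoetherianRing R] (M : Ideal R) [M.IsMaximal] (n : ℕ)
    (F : MvPowerSeries (Fin (n + 1)) K) (hord : VanCyc.OrdQuadSeries F)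
    (h : Nonempty (AdicCompletion (maximalIdeal (Localization.AtPrime M)) (Localization.AtPrime M) ≃ₐ[K]
      (MvPowerSeries (Fin (n + 1)) K ⧸ Ideal.span {F}))) :
    HasTrunc M (VanCyc.quadPart F) := by
  classical
  obtain ⟨e⟩ := h
  let S := MvPowerSeries (Fin (n + 1)) K
  let MS := Groth.L28.PSer.M (Fin (n + 1)) K
  set a := VanCyc.quadPart F with ha
  obtain ⟨em⟩ := Groth.L14.Quad.exists_equiv_quadPart F hord
  intro j
  let A₁ := Localization.AtPrime M
  haveI : IsNoetherianRing A₁ := IsLocalization.isNoetherianRing M.primeCompl A₁ inferInstance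
  let qS : S := ((VanCyc.quadPoly a : MvPolynomial (Fin (n + 1)) K) : MvPowerSeries (Fin (n + 1)) K)
  let T := S ⧸ Ideal.span {qS}
  have hX : Ideal.span {qS} = Ideal.span {Groth.L28.Morse.Q a MvPowerSeries.X} := by
    show Ideal.span {((VanCyc.quadPoly a : MvPolynomial (Fin (n + 1)) K) : MvPowerSeries (Fin (n + 1)) K)} = _
    rw [Groth.L28.Morse.coe_quadPoly]
  let eS : T ≃ₐ[K] AdicCompletion (maximalIdeal A₁) A₁ :=
    (Ideal.quotientEquivAlgOfEq K hX).trans (em.symm.trans e.symm)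
  haveI : IsLocalRing T := eS.symm.toRingEquiv.isLocalRing
  let c : MvPolynomial (Fin (n + 1)) K →ₐ[K] S :=
    { MvPolynomial.coeToMvPowerSeries.ringHom with commutes' := fun r => MvPolynomial.coe_C r }
  let Λ : MvPolynomial (Fin (n + 1)) K →ₐ[K] R ⧸ M ^ j :=
    ((IsLocalization.AtPrime.equivQuotMaximalIdealPow M A₁ j).symm.toAlgHom.restrictScalars K).comp
      (((AdicCompletion.evalₐ (maximalIdeal A₁) j).restrictScalars K).comp
        (eS.toAlgHom.comp ((Ideal.Quotient.mkₐ K (Ideal.span {qS})).comp c)))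
  have hfg : (maximalIdeal A₁).FG := IsNoetherian.noetherian _
  have hMT : MS.map (Ideal.Quotient.mk (Ideal.span {qS})) = maximalIdeal T := by
    show Ideal.map _ (Groth.L28.PSer.M (Fin (n + 1)) K) = _
    rw [← Groth.L28.PSer.maximalIdeal_eq]
    exact IsLocalRing.map_maximalIdeal_of_surjective _ Ideal.Quotient.mk_surjective
  have hev : ∀ z : T, AdicCompletion.evalₐ (maximalIdeal A₁) j (eS z) = 0 ↔
      z ∈ (MS ^ j).map (Ideal.Quotient.mk (Ideal.span {qS})) := fun z => by
    rw [Groth.L14.Popescu.evalₐ_eq_zero_iff hfg, Ideal.map_pow, ← AdicCompletion.maximalIdeal_eq_map,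
      show eS z = eS.toRingEquiv z from rfl, Groth.L14.Quad.mem_maximalIdeal_pow_equiv, ← hMT, ← Ideal.map_pow]
  have hcoe : ∀ P : MvPolynomial (Fin (n + 1)) K, c P ∈ MS ^ j ↔ P ∈ idealOfVars (Fin (n + 1)) K ^ j := fun P => by
    rw [mem_pow_idealOfVars_iff']
    refine ⟨fun h x hx => ?_, fun h => Groth.L28.PSer.mem_pow_of_order j _ (MvPowerSeries.nat_le_order fun x hx => ?_)⟩
    · rw [← MvPolynomial.coeff_coe]
      exact MvPowerSeries.coeff_of_lt_order (lt_of_lt_of_le (Nat.cast_lt.mpr hx) (Groth.L28.PSer.order_mem_pow _ j h))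
    · show MvPowerSeries.coeff x (P : MvPowerSeries (Fin (n + 1)) K) = 0
      rw [MvPolynomial.coeff_coe]
      exact h x hx
  have htr : ∀ G : S, ∃ P : MvPolynomial (Fin (n + 1)) K, G - c P ∈ MS ^ j := fun G =>
    ⟨MvPowerSeries.truncTotal j G, Groth.L28.PSer.mem_pow_of_order j _ (MvPowerSeries.nat_le_order fun x hx => by
      show MvPowerSeries.coeff x (G - ((MvPowerSeries.truncTotal j G : MvPolynomial (Fin (n + 1)) K) : MvPowerSeries (Fin (n + 1)) K)) = 0
      rw [map_sub, MvPolynomial.coeff_coe, MvPowerSeries.coeff_truncTotal _ hx, sub_self])⟩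
  have hΛ : ∀ p, Λ p = 0 ↔ Ideal.Quotient.mk (Ideal.span {qS}) (c p) ∈ (MS ^ j).map (Ideal.Quotient.mk _) := fun p =>
    (map_eq_zero_iff _ (IsLocalization.AtPrime.equivQuotMaximalIdealPow M A₁ j).symm.injective).trans (hev _)
  refine ⟨Λ, fun y => ?_, fun p => (hΛ p).trans ⟨fun h => ?_, fun h => ?_⟩⟩
  · obtain ⟨z, hz⟩ := AdicCompletion.surjective_evalₐ (maximalIdeal A₁) j
      (IsLocalization.AtPrime.equivQuotMaximalIdealPow M A₁ j y)
    obtain ⟨z, rfl⟩ := eS.surjective z
    obtain ⟨G, rfl⟩ := Ideal.Quotient.mk_surjective z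
    obtain ⟨P, hP⟩ := htr G
    refine ⟨P, ?_⟩
    have h0 := (hev _).2 (Ideal.mem_map_of_mem (Ideal.Quotient.mk (Ideal.span {qS})) hP)
    rw [map_sub, map_sub, map_sub, sub_eq_zero] at h0
    show (IsLocalization.AtPrime.equivQuotMaximalIdealPow M A₁ j).symm
      (AdicCompletion.evalₐ (maximalIdeal A₁) j (eS (Ideal.Quotient.mk _ (c P)))) = y
    rw [← h0, hz, AlgEquiv.symm_apply_apply]
  · obtain ⟨G, hG, hGp⟩ := (Ideal.mem_map_iff_of_surjective _ Ideal.Quotient.mk_surjective).1 h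
    obtain ⟨u, hu⟩ := Ideal.mem_span_singleton.1 (Ideal.Quotient.eq.1 hGp)
    obtain ⟨U, hU⟩ := htr u
    rw [← sub_add_cancel p (-(VanCyc.quadPoly a * U))]
    refine Submodule.add_mem _ (Ideal.mem_sup_right ((hcoe _).1 ?_))
      (Ideal.mem_sup_left (neg_mem (Ideal.mem_span_singleton.2 ⟨U, rfl⟩)))
    rw [map_sub, map_neg, map_mul, sub_neg_eq_add, show c (VanCyc.quadPoly a) = qS from rfl,
      show c p + qS * c U = G - qS * (u - c U) by linear_combination (-1 : S) * hu]
    exact sub_mem hG (Ideal.mul_mem_left _ _ hU)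
  · obtain ⟨y, hy, z, hz, rfl⟩ := Submodule.mem_sup.1 h
    obtain ⟨u, rfl⟩ := Ideal.mem_span_singleton.1 hy
    rw [map_add, map_add, map_mul, map_mul, show c (VanCyc.quadPoly a) = qS from rfl,
      Ideal.Quotient.eq_zero_iff_mem.2 (Ideal.mem_span_singleton_self qS), zero_mul, zero_add]
    exact Ideal.mem_map_of_mem _ ((hcoe z).2 hz)

theorem hasTrunc_of_sing {K : Type u} [Field K] [IsAlgClosed K] {R : Type u} [CommRing R] [Algebra K R]
    [IsNoetherianRing R] (M : Ideal R) [M.IsMaximal] (n : ℕ)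
    (h : VanCyc.IsNondegQuadSing K (Localization.AtPrime M) n) :
    ∃ a : Fin (n + 1) → Fin (n + 1) → K, VanCyc.QuadNondeg a ∧ HasTrunc M a := by
  obtain ⟨F, hF, he⟩ := h
  refine ⟨_, hF.2, hasTrunc_of_ordSing M n F ⟨hF.1, fun v _ hv => ?_⟩ he⟩
  refine Matrix.mulVec_injective_iff_isUnit.2 ((Matrix.isUnit_iff_isUnit_det _).2 hF.2) ?_
  rw [hv, Matrix.mulVec_zero]

theorem HasTrunc.exists_tangent {K : Type u} [Field K] {R : Type u} [CommRing R] [Algebra K R] (M : Ideal R)
    [M.IsMaximal] {N : ℕ} {a : Fin N → Fin N → K} {j : ℕ} (hj : 2 ≤ j)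
    (Λ : MvPolynomial (Fin N) K →ₐ[K] R ⧸ M ^ j) (hs : Function.Surjective Λ)
    (hker : ∀ p, Λ p = 0 ↔ p ∈ Ideal.span {VanCyc.quadPoly a} ⊔ idealOfVars (Fin N) K ^ j) :
    ∃ (χ : R →ₐ[K] K) (δ : Fin N → R →ₐ[K] DualNumber K), (∀ r, χ r = 0 ↔ r ∈ M) ∧
      (∀ p r, Λ p = Ideal.Quotient.mk _ r → χ r = constantCoeff p) ∧
      ∀ i p r, Λ p = Ideal.Quotient.mk _ r → δ i r =
        TrivSqZeroExt.inl (constantCoeff p) + TrivSqZeroExt.inr (coeff (Finsupp.single i 1) p) := by
  classical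
  have hle : ∀ p, Λ p = 0 → p ∈ idealOfVars (Fin N) K ^ 2 := fun p hp =>
    (sup_le ((Ideal.span_singleton_le_iff_mem _).2 (quadPoly_mem_sq a)) (Ideal.pow_le_pow_right hj)) ((hker p).1 hp)
  let ev0 : MvPolynomial (Fin N) K →ₐ[K] K := aeval 0
  have hev0 : ∀ p : MvPolynomial (Fin N) K, ev0 p = constantCoeff p := fun p => by
    induction p using MvPolynomial.induction_on with
    | C c => simp [ev0]
    | add p q hp hq => rw [map_add, map_add, hp, hq]
    | mul_X p i hp => simp [ev0]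
  let χ : R →ₐ[K] K := (AlgHom.liftOfSurjective Λ hs ev0 fun p hp => by
    show ev0 p = 0
    rw [hev0, ← mem_idealOfVars_iff]
    exact Ideal.pow_le_self two_ne_zero (hle p hp)).comp (Ideal.Quotient.mkₐ K _)
  have hχ : ∀ p r, Λ p = Ideal.Quotient.mk _ r → χ r = constantCoeff p := fun p r h => by
    simp only [χ, AlgHom.comp_apply, Ideal.Quotient.mkₐ_eq_mk]
    rw [← h, AlgHom.liftOfSurjective_apply, hev0]
  let d : Fin N → MvPolynomial (Fin N) K →ₐ[K] DualNumber K := fun i =>
    aeval fun l => TrivSqZeroExt.inr (if l = i then (1 : K) else 0)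
  have hdX : ∀ i l, d i (X l) = TrivSqZeroExt.inr (if l = i then (1 : K) else 0) := fun i l => aeval_X _ l
  have hdI : ∀ i, ∀ p ∈ idealOfVars (Fin N) K, TrivSqZeroExt.fst (d i p) = 0 := fun i p hp => by
    induction hp using Submodule.span_induction with
    | mem y hy => obtain ⟨l, rfl⟩ := hy; rw [hdX]; exact TrivSqZeroExt.fst_inr K _
    | zero => simp
    | add y z _ _ hy hz => rw [map_add, TrivSqZeroExt.fst_add, hy, hz, add_zero]
    | smul r y _ hy => rw [smul_eq_mul, map_mul, TrivSqZeroExt.fst_mul, hy, mul_zero]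
  have hd2 : ∀ i p, p ∈ idealOfVars (Fin N) K ^ 2 → d i p = 0 := fun i p hp => by
    rw [pow_succ, pow_one] at hp
    refine Submodule.mul_induction_on hp (fun x hx y hy => ?_) fun x y hx hy => by rw [map_add, hx, hy, add_zero]
    rw [map_mul]
    ext <;> simp [hdI i x hx, hdI i y hy]
  have hd : ∀ i p, d i p = TrivSqZeroExt.inl (constantCoeff p) + TrivSqZeroExt.inr (coeff (Finsupp.single i 1) p) := by
    intro i p
    induction p using MvPolynomial.induction_on with
    | C c =>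
      rw [MvPolynomial.constantCoeff_C, coeff_C, if_neg (Ne.symm (Finsupp.single_ne_zero.2 one_ne_zero)),
        TrivSqZeroExt.inr_zero, add_zero]
      exact (d i).commutes c
    | add p q hp hq =>
      rw [map_add, hp, hq, map_add, coeff_add, TrivSqZeroExt.inl_add, TrivSqZeroExt.inr_add]
      abel
    | mul_X p l hp =>
      rw [map_mul, hp, show d i (X l) = TrivSqZeroExt.inr (if l = i then (1 : K) else 0) from aeval_X _ l,
        coeff_mul_X']
      rcases eq_or_ne l i with rfl | hne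
      · ext <;> simp [constantCoeff_eq, coeff_mul_X']
      · ext <;> simp [hne]
  let δ : Fin N → R →ₐ[K] DualNumber K := fun i =>
    (AlgHom.liftOfSurjective Λ hs (d i) fun p hp => hd2 i p (hle p hp)).comp (Ideal.Quotient.mkₐ K _)
  refine ⟨χ, δ, fun r => ⟨fun hr => ?_, fun hr => ?_⟩, hχ, fun i p r h => ?_⟩
  · obtain ⟨p, hp⟩ := hs (Ideal.Quotient.mk _ r)
    have h1 : (RingHom.ker χ.toRingHom).IsPrime := RingHom.ker_isPrime _
    have h2 : M ≤ RingHom.ker χ.toRingHom := by
      refine (Ideal.IsPrime.pow_le_iff (n := j) (by omega)).1 fun y hy => ?_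
      show χ y = 0
      rw [hχ 0 y (by rw [map_zero, Ideal.Quotient.eq_zero_iff_mem.2 hy]), map_zero]
    rwa [(Ideal.IsMaximal.eq_of_le inferInstance h1.ne_top h2)]
  · by_contra hne
    have h1 : (RingHom.ker χ.toRingHom).IsPrime := RingHom.ker_isPrime _
    have h2 : M ≤ RingHom.ker χ.toRingHom := by
      refine (Ideal.IsPrime.pow_le_iff (n := j) (by omega)).1 fun y hy => ?_
      show χ y = 0
      rw [hχ 0 y (by rw [map_zero, Ideal.Quotient.eq_zero_iff_mem.2 hy]), map_zero]
    exact hne (h2 hr)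
  · simp only [δ, AlgHom.comp_apply, Ideal.Quotient.mkₐ_eq_mk]
    rw [← h]
    exact (AlgHom.liftOfSurjective_apply _ _ _ _ p).trans (hd i p)

/-- In a tensor product with a purely inseparable extension, a prime ideal consists of nilpotent elements. -/
theorem isNilpotent_of_mem_prime {k K L : Type u} [Field k] [Field K] [Algebra k K] [Field L] [Algebra k L]
    (hins : ∀ y : L, ∃ (e : ℕ) (c : k), y ^ ringExpChar k ^ e = algebraMap k L c)
    [Nontrivial (K ⊗[k] L)] (P : Ideal (K ⊗[k] L)) [P.IsPrime] {z : K ⊗[k] L} (hz : z ∈ P) : IsNilpotent z := by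
  haveI : ExpChar (K ⊗[k] L) (ringExpChar k) :=
    expChar_of_injective_algebraMap (algebraMap k (K ⊗[k] L)).injective (ringExpChar k)
  have key : ∃ (e : ℕ) (c : K), z ^ ringExpChar k ^ e = algebraMap K (K ⊗[k] L) c := by
    clear hz
    induction z using TensorProduct.induction_on with
    | zero => exact ⟨0, 0, by simp⟩
    | tmul c l =>
      obtain ⟨e, c₀, hc₀⟩ := hins l
      refine ⟨e, c ^ ringExpChar k ^ e * algebraMap k K c₀, ?_⟩
      rw [Algebra.TensorProduct.tmul_pow, hc₀, Algebra.algebraMap_eq_smul_one, ← TensorProduct.smul_tmul,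
        Algebra.smul_def, mul_comm]
      rfl
    | add u v hu hv =>
      obtain ⟨e, c, hc⟩ := hu
      obtain ⟨e', c', hc'⟩ := hv
      refine ⟨e + e', c ^ ringExpChar k ^ e' + c' ^ ringExpChar k ^ e, ?_⟩
      rw [add_pow_expChar_pow, pow_add, pow_mul, hc, mul_comm, pow_mul, hc', map_add, map_pow, map_pow]
  obtain ⟨e, c, hc⟩ := key
  refine ⟨ringExpChar k ^ e, ?_⟩
  have hp : z ^ ringExpChar k ^ e ∈ P :=
    Ideal.pow_mem_of_mem P hz _ (pow_pos (expChar_pos k (ringExpChar k)) e)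
  rw [hc] at hp ⊢
  by_contra hne
  refine ‹P.IsPrime›.ne_top (Ideal.eq_top_of_isUnit_mem _ hp ((isUnit_iff_ne_zero.2 ?_).map _))
  rintro rfl
  exact hne (map_zero _)

end Groth.L28.HensModel
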