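import Groth.Agent.L28.HensModel.Basic
import Mathlib.RingTheory.MvPolynomial.Ideal
import Mathlib.Algebra.MvPolynomial.PDeriv

/-!
Truncations of the henselization of affine space, modulo the maximal ideal of the base.
-/

set_option autoImplicit false
set_option linter.style.haveILetI false

noncomputable section

open IsLocalRing MvPolynomial

namespace Groth.L28.HensModel

universe u

/-- Truncated polynomials. -/
abbrev Tr (k : Type u) [CommRing k] (N j : ℕ) : Type u :=
  MvPolynomial (Fin N) k ⧸ idealOfVars (Fin N) k ^ j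

lemma mem_idealOfVars_iff {k : Type u} [CommRing k] {N : ℕ} (p : MvPolynomial (Fin N) k) :
    p ∈ idealOfVars (Fin N) k ↔ constantCoeff p = 0 := by
  rw [← pow_one (idealOfVars (Fin N) k), mem_pow_idealOfVars_iff', constantCoeff_eq]
  exact ⟨fun h => h 0 (by simp), fun h x hx => by rw [(Finsupp.degree_eq_zero_iff x).1 (by omega)]; exact h⟩

variable {k : Type u} [Field k] {N : ℕ}

lemma isLocalRing_tr {j : ℕ} (hj : 0 < j) : HenselianLocalRing (Tr k N j) ∧
    ∀ p : MvPolynomial (Fin N) k, Ideal.Quotient.mk (idealOfVars (Fin N) k ^ j) p ∈ (idealOfVars (Fin N) k).map (Ideal.Quotient.mk _) →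
      ¬ IsUnit (Ideal.Quotient.mk (idealOfVars (Fin N) k ^ j) p) := by
  let M : Ideal (Tr k N j) := (idealOfVars (Fin N) k).map (Ideal.Quotient.mk _)
  have hnil : ∀ z ∈ M, IsNilpotent z := fun z hz => ⟨j, by
    have : z ^ j ∈ M ^ j := Ideal.pow_mem_pow hz j
    rwa [← Ideal.map_pow, Ideal.map_quotient_self, Ideal.mem_bot] at this⟩
  have hne : Nontrivial (Tr k N j) := Ideal.Quotient.nontrivial_iff.2 fun h => by
    have h1 : (1 : MvPolynomial (Fin N) k) ∈ idealOfVars (Fin N) k ^ j := h ▸ Submodule.mem_top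
    have h2 := Ideal.pow_le_self hj.ne' h1
    rw [mem_idealOfVars_iff, map_one] at h2
    exact one_ne_zero h2
  have hM : ∀ z : Tr k N j, z ∈ M ∨ IsUnit z := fun z => by
    obtain ⟨p, rfl⟩ := Ideal.Quotient.mk_surjective z
    by_cases h : constantCoeff p = 0
    · exact Or.inl (Ideal.mem_map_of_mem _ ((mem_idealOfVars_iff p).2 h))
    · right
      rw [← sub_add_cancel p (C (constantCoeff p)), map_add]
      refine IsNilpotent.isUnit_add_right_of_commute (hnil _ (Ideal.mem_map_of_mem _ ((mem_idealOfVars_iff _).2 (by simp)))) ?_ (Commute.all _ _)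
      exact ((isUnit_iff_ne_zero.2 h).map C).map _
  have hnot : ∀ z ∈ M, ¬ IsUnit z := fun z hz hu => by
    obtain ⟨n, hn⟩ := hnil z hz
    exact not_isUnit_zero (hn ▸ hu.pow n)
  have hloc : IsLocalRing (Tr k N j) := IsLocalRing.of_nonunits_add fun a b ha hb hab =>
    hnot _ (M.add_mem ((hM a).resolve_right ha) ((hM b).resolve_right hb)) hab
  have : HenselianRing (Tr k N j) (maximalIdeal (Tr k N j)) :=
    Groth.L05.henselianRing_of_nil _ fun z hz => hnil z ((hM z).resolve_right hz)
  exact ⟨Groth.L05.henselianLocalRing_of_henselianRing, fun p hp => hnot _ hp⟩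

instance henselianLocalRing_tr (j : ℕ) : HenselianLocalRing (Tr k N (j + 1)) := (isLocalRing_tr j.succ_pos).1

lemma mk_mem_maximalIdeal {j : ℕ} {p : MvPolynomial (Fin N) k} (hp : constantCoeff p = 0) :
    Ideal.Quotient.mk (idealOfVars (Fin N) k ^ (j + 1)) p ∈ maximalIdeal (Tr k N (j + 1)) :=
  (isLocalRing_tr j.succ_pos).2 p (Ideal.mem_map_of_mem _ ((mem_idealOfVars_iff p).2 hp))

section base

variable {A : Type u} [CommRing A] [HenselianLocalRing A]

instance isLocalHom_tr (j : ℕ) : IsLocalHom (algebraMap A (Tr (ResidueField A) N (j + 1))) := ⟨fun a ha => by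
  by_contra hn
  have h0 : residue A a = 0 := (residue_eq_zero_iff a).2 hn
  have : algebraMap A (Tr (ResidueField A) N (j + 1)) a = 0 := by
    rw [IsScalarTower.algebraMap_apply A (ResidueField A) (Tr (ResidueField A) N (j + 1))]
    show algebraMap (ResidueField A) _ (residue A a) = 0
    rw [h0, map_zero]
  exact not_isUnit_zero (this ▸ ha)⟩

variable {H : Type u} [CommRing H] [IsLocalRing H] [Algebra A H] {x : Fin N → H} (hH : IsAffHens A H x)

namespace IsAffHens

/-- The truncation map. -/
def trunc (j : ℕ) : H →ₐ[A] Tr (ResidueField A) N (j + 1) :=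
  hH.lift (fun i => Ideal.Quotient.mk _ (X i)) fun _ => mk_mem_maximalIdeal (by simp)

theorem trunc_x (j : ℕ) (i : Fin N) : hH.trunc j (x i) = Ideal.Quotient.mk _ (X i) := hH.lift_x _ _ i

theorem trunc_aeval (j : ℕ) (p : MvPolynomial (Fin N) A) :
    hH.trunc j (aeval x p) = Ideal.Quotient.mk _ (MvPolynomial.map (residue A) p) := by
  refine RingHom.congr_fun (f := (hH.trunc j).toRingHom.comp (aeval (R := A) x).toRingHom)
    (g := (Ideal.Quotient.mk _).comp (MvPolynomial.map (residue A))) (MvPolynomial.ringHom_ext (fun a => ?_) fun i => ?_) p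
  · simp [IsScalarTower.algebraMap_apply A (ResidueField A) (Tr (ResidueField A) N (j + 1))]
    rfl
  · simp [trunc_x]

theorem trunc_surjective (j : ℕ) : Function.Surjective (hH.trunc j) := fun z => by
  obtain ⟨p, rfl⟩ := Ideal.Quotient.mk_surjective z
  obtain ⟨p, rfl⟩ := MvPolynomial.map_surjective (residue A) residue_surjective p
  exact ⟨_, hH.trunc_aeval j p⟩

theorem trunc_eq_zero_iff (j : ℕ) (h : H) : hH.trunc j h = 0 ↔
    h ∈ (maximalIdeal A).map (algebraMap A H) ⊔ Ideal.span (Set.range x) ^ (j + 1) := by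
  set I := (maximalIdeal A).map (algebraMap A H) ⊔ Ideal.span (Set.range x) ^ (j + 1) with hI
  constructor
  · intro h0
    haveI := hH.henselian
    haveI := hH.isLocalHom
    have hIm : I ≤ maximalIdeal H := sup_le
      (((IsLocalRing.local_hom_TFAE (algebraMap A H)).out 0 2 rfl rfl).1 hH.isLocalHom)
      ((Ideal.pow_le_self j.succ_ne_zero).trans hH.span_le_maximalIdeal)
    haveI : Nontrivial (H ⧸ I) := Ideal.Quotient.nontrivial_iff.2
      (ne_top_of_le_ne_top (maximalIdeal.isMaximal H).ne_top hIm)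
    haveI : IsLocalRing (H ⧸ I) := .of_surjective' (Ideal.Quotient.mk I) Ideal.Quotient.mk_surjective
    haveI : HenselianLocalRing (H ⧸ I) := Groth.L13.LocalPair.henselian_quotient I
    haveI : IsLocalHom (Ideal.Quotient.mk I) := IsLocalHom.of_surjective _ Ideal.Quotient.mk_surjective
    haveI : IsLocalHom (algebraMap A (H ⧸ I)) := RingHom.isLocalHom_comp (Ideal.Quotient.mk I) (algebraMap A H)
    let φ : ResidueField A →ₐ[A] H ⧸ I := Ideal.Quotient.liftₐ (maximalIdeal A) (Algebra.ofId A (H ⧸ I))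
      fun a ha => Ideal.Quotient.eq_zero_iff_mem.2 (Ideal.mem_sup_left (Ideal.mem_map_of_mem _ ha))
    let ρ₀ : MvPolynomial (Fin N) (ResidueField A) →+* H ⧸ I :=
      eval₂Hom φ.toRingHom fun i => Ideal.Quotient.mk I (x i)
    have hρ₀ : idealOfVars (Fin N) (ResidueField A) ^ (j + 1) ≤ RingHom.ker ρ₀ := by
      have h1 : (idealOfVars (Fin N) (ResidueField A)).map ρ₀ ≤ (Ideal.span (Set.range x)).map (Ideal.Quotient.mk I) := by
        rw [idealOfVars, Ideal.map_span, Ideal.span_le]
        rintro _ ⟨_, ⟨i, rfl⟩, rfl⟩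
        rw [show ρ₀ (X i) = Ideal.Quotient.mk I (x i) from eval₂Hom_X' _ _ i]
        exact Ideal.mem_map_of_mem _ (Ideal.subset_span ⟨i, rfl⟩)
      refine fun p hp => ?_
      have h2 : ρ₀ p ∈ ((idealOfVars (Fin N) (ResidueField A)).map ρ₀) ^ (j + 1) :=
        Ideal.map_pow ρ₀ _ (j + 1) ▸ Ideal.mem_map_of_mem ρ₀ hp
      have h3 := Ideal.pow_right_mono h1 (j + 1) h2
      rw [← Ideal.map_pow] at h3
      have h4 : ((Ideal.span (Set.range x)) ^ (j + 1)).map (Ideal.Quotient.mk I) = ⊥ := by
        rw [eq_bot_iff, ← Ideal.map_quotient_self I]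
        exact Ideal.map_mono le_sup_right
      rw [h4] at h3
      exact h3
    let ρ : Tr (ResidueField A) N (j + 1) →ₐ[A] H ⧸ I :=
      { Ideal.Quotient.lift _ ρ₀ hρ₀ with
        commutes' := fun a => (eval₂Hom_C φ.toRingHom _ _).trans (φ.commutes a) }
    have hρ : ρ.comp (hH.trunc j) = Ideal.Quotient.mkₐ A I := by
      have hx : ∀ i, ρ.comp (hH.trunc j) (x i) = Ideal.Quotient.mk I (x i) := fun i => by
        rw [AlgHom.comp_apply, trunc_x]
        exact eval₂Hom_X' _ _ i
      refine hH.hom_ext (fun i => ?_) hx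
      rw [hx]
      exact fun hu => hH.mem i ((isUnit_map_iff (Ideal.Quotient.mk I) _).1 hu)
    have := AlgHom.congr_fun hρ h
    rw [AlgHom.comp_apply, h0, map_zero] at this
    exact Ideal.Quotient.eq_zero_iff_mem.1 this.symm
  · intro hh
    have hle : I ≤ RingHom.ker (hH.trunc j).toRingHom := by
      refine sup_le (Ideal.map_le_iff_le_comap.2 fun a ha => ?_) ?_
      · show hH.trunc j (algebraMap A H a) = 0
        rw [AlgHom.commutes, IsScalarTower.algebraMap_apply A (ResidueField A) (Tr (ResidueField A) N (j + 1))]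
        show algebraMap (ResidueField A) _ (residue A a) = 0
        rw [(residue_eq_zero_iff a).2 ha, map_zero]
      · intro z hz
        have h1 : hH.trunc j z ∈ (Ideal.span (Set.range x) ^ (j + 1)).map (hH.trunc j).toRingHom :=
          Ideal.mem_map_of_mem _ hz
        have h2 : (Ideal.span (Set.range x)).map (hH.trunc j).toRingHom ≤
            (idealOfVars (Fin N) (ResidueField A)).map (Ideal.Quotient.mk _) := by
          rw [Ideal.map_span, Ideal.span_le]
          rintro _ ⟨_, ⟨i, rfl⟩, rfl⟩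
          rw [show (hH.trunc j).toRingHom (x i) = Ideal.Quotient.mk _ (X i) from hH.trunc_x j i]
          exact Ideal.mem_map_of_mem _ (Ideal.subset_span ⟨i, rfl⟩)
        rw [Ideal.map_pow] at h1
        have h3 := Ideal.pow_right_mono h2 (j + 1) h1
        rw [← Ideal.map_pow, Ideal.map_quotient_self] at h3
        exact h3
    exact hle hh

theorem trunc_algebraMap_mul (j : ℕ) (a : A) (h : H) :
    hH.trunc j (algebraMap A H a * h) = algebraMap (ResidueField A) _ (residue A a) * hH.trunc j h := by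
  rw [map_mul, AlgHom.commutes, IsScalarTower.algebraMap_apply A (ResidueField A) (Tr (ResidueField A) N (j + 1))]
  rfl

/-- The symmetrised second order coefficients are well defined modulo the maximal ideal. -/
theorem residue_add_eq_of_congr (c e : Fin N → Fin N → H) (l : Fin N → A) (hl : ∀ i, l i ∈ maximalIdeal A)
    (h : ∑ i, ∑ j, x i * x j * c i j + ∑ i, algebraMap A H (l i) * x i - ∑ i, ∑ j, x i * x j * e i j ∈
      (maximalIdeal A).map (algebraMap A H) ⊔ Ideal.span (Set.range x) ^ 3) (p q : Fin N) :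
    residue A (hH.π (c p q)) + residue A (hH.π (c q p)) = residue A (hH.π (e p q)) + residue A (hH.π (e q p)) := by
  classical
  have h0 := (hH.trunc_eq_zero_iff 2 _).2 h
  have key : ∀ (d : Fin N → Fin N → H), hH.trunc 2 (∑ i, ∑ j, x i * x j * d i j) =
      Ideal.Quotient.mk _ (∑ i, ∑ j, C (residue A (hH.π (d i j))) * (X i * X j)) := fun d => by
    simp only [map_sum]
    refine Finset.sum_congr rfl fun i _ => Finset.sum_congr rfl fun j _ => ?_
    obtain ⟨g, hg⟩ := hH.exists_eq_add_sum (d i j)
    have h3 : hH.trunc 2 (x i * x j * ∑ l, x l * g l) = 0 := by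
      refine (hH.trunc_eq_zero_iff 2 _).2 (Ideal.mem_sup_right ?_)
      rw [Finset.mul_sum]
      refine sum_mem fun l _ => ?_
      rw [show x i * x j * (x l * g l) = (x i * x j * x l) * g l by ring]
      refine Ideal.mul_mem_right _ _ ?_
      rw [pow_succ, sq]
      exact Ideal.mul_mem_mul (Ideal.mul_mem_mul (Ideal.subset_span ⟨i, rfl⟩) (Ideal.subset_span ⟨j, rfl⟩))
        (Ideal.subset_span ⟨l, rfl⟩)
    conv_lhs => rw [hg, mul_add, map_add, h3, add_zero, mul_comm, trunc_algebraMap_mul]
    rw [map_mul, map_mul, map_mul, trunc_x, trunc_x]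
    rfl
  have hlin : hH.trunc 2 (∑ i, algebraMap A H (l i) * x i) = 0 := by
    rw [map_sum]
    refine Finset.sum_eq_zero fun i _ => ?_
    rw [trunc_algebraMap_mul, (residue_eq_zero_iff _).2 (hl i), map_zero, zero_mul]
  rw [map_sub, map_add, hlin, add_zero, key, key, ← map_sub, Ideal.Quotient.eq_zero_iff_mem,
    mem_pow_idealOfVars_iff'] at h0
  set P := ∑ i, ∑ j, C (residue A (hH.π (c i j))) * (X i * X j) -
    ∑ i, ∑ j, C (residue A (hH.π (e i j))) * (X i * X j) with hP
  have hhom : P.IsHomogeneous 2 := by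
    refine IsHomogeneous.sub ?_ ?_ <;>
      exact IsHomogeneous.sum _ _ _ fun i _ => IsHomogeneous.sum _ _ _ fun j _ =>
        ((isHomogeneous_X _ i).mul (isHomogeneous_X _ j)).C_mul _
  have hP0 : P = 0 := MvPolynomial.ext _ _ fun m => by
    rw [coeff_zero]
    by_cases hm : m.degree = 2
    · exact h0 m (by omega)
    · exact hhom.coeff_eq_zero hm
  have h2 := congrArg (fun F => pderiv q (pderiv p F)) hP0
  simp only [hP, map_sub, map_sum, pderiv_mul, pderiv_C, pderiv_X, zero_mul, mul_zero, zero_add, map_add, map_zero,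
    Pi.single_apply, mul_ite, ite_mul, mul_one, one_mul, apply_ite (pderiv q), sub_eq_zero] at h2
  simp only [mul_add, mul_ite, mul_one, mul_zero, Finset.sum_add_distrib, Finset.sum_ite_eq', Finset.sum_ite_irrel,
    Finset.sum_const_zero, Finset.mem_univ, if_true, ← C_add] at h2
  have h5 := C_injective (Fin N) (ResidueField A) h2
  linear_combination h5

end IsAffHens

end base

end Groth.L28.HensModel
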