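import Groth.Agent.L28.HensModel.Closed
import Groth.Agent.L01.HensWeier
import Groth.Agent.L05.Henselization.Pair

/-!
Weierstrass preparation in degree two, and affine space relative to a line.
-/

set_option autoImplicit false
set_option linter.style.haveILetI false
set_option maxHeartbeats 1000000

noncomputable section

open IsLocalRing

namespace Groth.L28.HensModel

universe u

theorem not_isUnit_mk_of_constantCoeff {k : Type u} [Field k] {N j : ℕ} {p : MvPolynomial (Fin N) k}
    (hp : MvPolynomial.constantCoeff p = 0) :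
    ¬ IsUnit (Ideal.Quotient.mk (MvPolynomial.idealOfVars (Fin N) k ^ (j + 1)) p) :=
  mk_mem_maximalIdeal hp

namespace IsAffHens

variable {A : Type u} [CommRing A] [HenselianLocalRing A] {H₁ : Type u} [CommRing H₁] [IsLocalRing H₁]
  [Algebra A H₁] {y : Fin 1 → H₁} (hH₁ : IsAffHens A H₁ y)

include hH₁

theorem exists_weierstrass_two (g : H₁)
    (hg : g - y 0 ^ 2 ∈ (maximalIdeal A).map (algebraMap A H₁) ⊔ Ideal.span (Set.range y) ^ 3) :
    ∃ (b c : A) (u : H₁ˣ), b ∈ maximalIdeal A ∧ c ∈ maximalIdeal A ∧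
      g = (y 0 ^ 2 + algebraMap A H₁ b * y 0 + algebraMap A H₁ c) * u := by
  classical
  haveI := hH₁.henselian
  haveI := hH₁.isLocalHom
  let R := Polynomial A
  let I : Ideal R := Ideal.span {(Polynomial.X : R)}
  let B := Groth.L05.Henselization.PairHens R I
  letI : Algebra A B := ((algebraMap R B).comp (Polynomial.C : A →+* R)).toAlgebra
  haveI : IsScalarTower A R B := IsScalarTower.of_algebraMap_eq fun a => rfl
  have hB : Hens2.IsPairHenselization R I B := Groth.L05.Henselization.isPairHenselization R I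
  let τ : B := algebraMap R B Polynomial.X
  let mB : Ideal B := (maximalIdeal A).map (algebraMap A B) ⊔ Ideal.span {τ}
  have hIB : I.map (algebraMap R B) = Ideal.span {τ} := by rw [Ideal.map_span, Set.image_singleton]
  have hne : ∀ z ∈ mB, ¬ IsUnit z := fun z hz hu => by
    have h1 : algebraMap R B (1 : R) ∈ (maximalIdeal A).map (algebraMap A B) ⊔ Ideal.span {τ ^ 1} := by
      rw [map_one, pow_one]
      obtain ⟨v, hv⟩ := hu.exists_right_inv
      rw [← hv]
      exact mB.mul_mem_right _ hz
    have h2 := L01.HensWeier.coeff_mem_of_mem hB h1 (i := 0) one_pos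
    rw [Polynomial.coeff_one_zero] at h2
    exact h2 isUnit_one
  haveI : Nontrivial B := ⟨⟨0, 1, fun h => hne 0 (zero_mem _) (h ▸ isUnit_one)⟩⟩
  haveI : IsLocalRing B := IsLocalRing.of_nonunits_add fun a b ha hb hab =>
    hne _ (mB.add_mem ((L01.HensWeier.isUnit_or_mem hB a).resolve_left ha)
      ((L01.HensWeier.isUnit_or_mem hB b).resolve_left hb)) hab
  have hmB : maximalIdeal B = mB :=
    le_antisymm (fun z hz => (L01.HensWeier.isUnit_or_mem hB z).resolve_left hz) (fun z hz => hne z hz)
  haveI : HenselianLocalRing B := by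
    haveI : HenselianRing B (Ideal.span {τ}) := hIB ▸ hB.1
    have hsurj : Function.Surjective (algebraMap A (B ⧸ Ideal.span {τ})) := fun z => by
      obtain ⟨b, rfl⟩ := Ideal.Quotient.mk_surjective z
      obtain ⟨q, hq⟩ := L01.HensWeier.exists_poly hB 1 b
      refine ⟨q.coeff 0, ?_⟩
      rw [pow_one] at hq
      rw [IsScalarTower.algebraMap_apply A B (B ⧸ Ideal.span {τ}), Ideal.Quotient.algebraMap_eq, eq_comm,
        Ideal.Quotient.eq, ← sub_add_sub_cancel _ (algebraMap R B q)]
      refine add_mem hq ?_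
      rw [IsScalarTower.algebraMap_apply A R B, ← map_sub]
      rw [show q - algebraMap A R (q.coeff 0) = Polynomial.X * q.divX by
        rw [sub_eq_iff_eq_add, Polynomial.algebraMap_eq]; exact (Polynomial.X_mul_divX_add q).symm, map_mul]
      exact Ideal.mul_mem_right _ _ (Ideal.mem_span_singleton_self _)
    haveI : Module.Finite A (B ⧸ Ideal.span {τ}) := Module.Finite.of_surjective (Algebra.linearMap A _) hsurj
    haveI : HenselianRing (B ⧸ Ideal.span {τ}) (mB.map (Ideal.Quotient.mk _)) := by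
      haveI := Groth.L05.henselianRing_map_of_isIntegral (maximalIdeal A) (B ⧸ Ideal.span {τ})
      have e : mB.map (Ideal.Quotient.mk (Ideal.span {τ})) =
          (maximalIdeal A).map (algebraMap A (B ⧸ Ideal.span {τ})) := by
        rw [Ideal.map_sup, Ideal.map_quotient_self, sup_bot_eq, Ideal.map_map]
        rfl
      rw [e]
      infer_instance
    haveI : HenselianRing B (maximalIdeal B) := by
      rw [hmB]
      exact Groth.L05.henselianRing_of_quotient (I := Ideal.span {τ}) le_sup_right
    exact Groth.L05.henselianLocalRing_of_henselianRing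
  haveI : IsLocalHom (algebraMap A B) := ⟨fun a ha => by
    by_contra hn
    exact hne _ (Ideal.mem_sup_left (Ideal.mem_map_of_mem _ hn)) ha⟩
  let g₁ : H₁ →ₐ[A] B := hH₁.lift (fun _ => τ) fun _ => hmB ▸ Ideal.mem_sup_right (Ideal.mem_span_singleton_self τ)
  let ρ : R →+* H₁ := (Polynomial.aeval (R := A) (y 0)).toRingHom
  obtain ⟨g₂, hg₂, -⟩ := hB.2 H₁ (maximalIdeal H₁) ρ inferInstance (by
    rw [Ideal.map_span, Set.image_singleton, Ideal.span_singleton_le_iff_mem]
    show Polynomial.aeval (y 0) Polynomial.X ∈ _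
    rw [Polynomial.aeval_X]
    exact hH₁.mem 0)
  have hg₂R : ∀ q, g₂ (algebraMap R B q) = Polynomial.aeval (y 0) q := fun q => RingHom.congr_fun hg₂ q
  let g₂A : B →ₐ[A] H₁ := { g₂ with
    commutes' := fun a => (hg₂R (Polynomial.C a)).trans (Polynomial.aeval_C _ a) }
  have hid : ∀ h, g₂ (g₁ h) = h := fun h => by
    refine AlgHom.congr_fun (φ₁ := g₂A.comp g₁) (φ₂ := AlgHom.id A H₁) ?_ h
    have hx : ∀ i, g₂A.comp g₁ (y i) = y i := fun i => by
      show g₂ (g₁ (y i)) = _
      rw [show g₁ (y i) = τ from hH₁.lift_x _ _ i, hg₂R, Polynomial.aeval_X, Subsingleton.elim 0 i]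
    exact hH₁.hom_ext (fun i => by rw [hx]; exact hH₁.mem i) hx
  have hgy : hH₁.trunc 2 g = Ideal.Quotient.mk _ (MvPolynomial.X 0 ^ 2) := by
    have h0 := (hH₁.trunc_eq_zero_iff 2 _).2 hg
    rw [map_sub, sub_eq_zero] at h0
    rw [h0, map_pow, hH₁.trunc_x, ← map_pow]
  have hnot : g₁ g ∉ (maximalIdeal A).map (algebraMap A B) := fun hmem => by
    have h1 : g ∈ (maximalIdeal A).map (algebraMap A H₁) := by
      have := Ideal.mem_map_of_mem g₂ hmem
      rw [hid, Ideal.map_map, show g₂.comp (algebraMap A B) = algebraMap A H₁ from RingHom.ext g₂A.commutes] at this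
      exact this
    have h2 := (hH₁.trunc_eq_zero_iff 2 g).2 (Ideal.mem_sup_left h1)
    rw [hgy, Ideal.Quotient.eq_zero_iff_mem, MvPolynomial.mem_pow_idealOfVars_iff'] at h2
    have h3 := h2 (Finsupp.single 0 2) (by simp)
    simp [MvPolynomial.X_pow_eq_monomial] at h3
  obtain ⟨P, u, ⟨hPm, hPd⟩, hu⟩ := L01.HensWeier.exists_dist hB (g₁ g) hnot
  have hgP : g = Polynomial.aeval (y 0) P * g₂ u := by
    conv_lhs => rw [← hid g, hu, map_mul, hg₂R]
  -- the degree
  have htr : hH₁.trunc 2 (Polynomial.aeval (y 0) P) =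
      Ideal.Quotient.mk _ (MvPolynomial.X 0 ^ P.natDegree) := by
    rw [← Polynomial.aeval_algHom_apply, hH₁.trunc_x,
      ← Polynomial.aeval_map_algebraMap (ResidueField A), show P.map (algebraMap A (ResidueField A)) =
        Polynomial.X ^ P.natDegree from hPd, map_pow, Polynomial.aeval_X, map_pow]
  obtain ⟨v, hv⟩ := Ideal.Quotient.mk_surjective (hH₁.trunc 2 (g₂ u))
  have hv0 : MvPolynomial.constantCoeff v ≠ 0 := fun h0 =>
    not_isUnit_mk_of_constantCoeff (j := 2) h0 (hv ▸ ((u.isUnit.map g₂).map (hH₁.trunc 2)))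
  have heq := hgy
  rw [hgP, map_mul, htr, ← hv, ← map_mul, Ideal.Quotient.eq, MvPolynomial.mem_pow_idealOfVars_iff'] at heq
  have hd : P.natDegree = 2 := by
    rcases lt_trichotomy P.natDegree 2 with hlt | h | hgt
    · exfalso
      have h3 := heq (Finsupp.single 0 P.natDegree) (by simp; omega)
      rw [MvPolynomial.X_pow_eq_monomial, MvPolynomial.X_pow_eq_monomial, MvPolynomial.coeff_sub,
        MvPolynomial.coeff_monomial_mul', if_pos le_rfl, tsub_self, MvPolynomial.coeff_monomial, if_neg (by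
          intro hh
          have := congrArg (fun s : Fin 1 →₀ ℕ => s 0) hh
          simp at this; omega), sub_zero, one_mul] at h3
      exact hv0 (by rw [MvPolynomial.constantCoeff_eq]; exact h3)
    · exact h
    · exfalso
      have h3 := heq (Finsupp.single 0 2) (by simp)
      rw [MvPolynomial.X_pow_eq_monomial, MvPolynomial.X_pow_eq_monomial, MvPolynomial.coeff_sub,
        MvPolynomial.coeff_monomial_mul', if_neg (by
          intro hh
          have := hh 0
          simp at this; omega), MvPolynomial.coeff_monomial, if_pos rfl, zero_sub, neg_eq_zero] at h3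
      exact one_ne_zero h3
  have hc : ∀ i < 2, P.coeff i ∈ maximalIdeal A := fun i hi => by
    rw [← residue_eq_zero_iff, ← Polynomial.coeff_map, hPd, Polynomial.coeff_X_pow, if_neg (by omega)]
  refine ⟨P.coeff 1, P.coeff 0, (u.isUnit.map g₂).unit, hc 1 one_lt_two, hc 0 two_pos, ?_⟩
  rw [IsUnit.unit_spec]
  conv_lhs => rw [hgP, Polynomial.aeval_eq_sum_range' (n := 3) (by omega)]
  simp only [Finset.sum_range_succ, Finset.sum_range_zero, zero_add, pow_zero, pow_one, Algebra.smul_def, mul_one]
  rw [show P.coeff 2 = 1 by rw [← hd]; exact hPm.coeff_natDegree, map_one, one_mul]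
  ring

end IsAffHens

/-- Affine space is affine space over a line. -/
theorem IsAffHens.relative {A : Type u} [CommRing A] [HenselianLocalRing A] {H : Type u} [CommRing H]
    [IsLocalRing H] [Algebra A H] {n : ℕ} {x : Fin (n + 1) → H} (hH : IsAffHens A H x) {H₁ : Type u} [CommRing H₁]
    [IsLocalRing H₁] [Algebra A H₁] {y : Fin 1 → H₁} (hH₁ : IsAffHens A H₁ y) [Algebra H₁ H]
    [IsScalarTower A H₁ H] (he : algebraMap H₁ H (y 0) = x 0) :
    IsAffHens H₁ H (fun i : Fin n => x i.succ) := by
  haveI := hH.henselian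
  haveI := hH.isLocalHom
  haveI := hH₁.henselian
  haveI := hH₁.isLocalHom
  refine ⟨hH.henselian, ?_, fun i => hH.mem _, fun T _ _ _ _ t ht => ?_, fun h => ?_⟩
  · refine ((IsLocalRing.local_hom_TFAE (algebraMap H₁ H)).out 0 2 rfl rfl).2
      (Ideal.map_le_iff_le_comap.2 fun z hz => ?_)
    exact hH₁.map_mem (IsScalarTower.toAlgHom A H₁ H) (fun i => by
      rw [Subsingleton.elim i 0, IsScalarTower.coe_toAlgHom', he]; exact hH.mem 0) hz
  · letI : Algebra A T := ((algebraMap H₁ T).comp (algebraMap A H₁)).toAlgebra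
    haveI : IsScalarTower A H₁ T := IsScalarTower.of_algebraMap_eq fun a => rfl
    haveI : IsLocalHom (algebraMap A T) := RingHom.isLocalHom_comp (algebraMap H₁ T) (algebraMap A H₁)
    let t' : Fin (n + 1) → T := Fin.cases (algebraMap H₁ T (y 0)) t
    have ht' : ∀ i, t' i ∈ maximalIdeal T := fun i => Fin.cases
      (fun hu => hH₁.mem 0 ((isUnit_map_iff (algebraMap H₁ T) _).1 hu)) ht i
    let g : H →ₐ[A] T := hH.lift t' ht'
    have hg : ∀ i, g (x i) = t' i := hH.lift_x _ _
    have hcomm : g.comp (IsScalarTower.toAlgHom A H₁ H) = IsScalarTower.toAlgHom A H₁ T := by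
      have hx : ∀ i, g.comp (IsScalarTower.toAlgHom A H₁ H) (y i) = IsScalarTower.toAlgHom A H₁ T (y i) := fun i => by
        rw [Subsingleton.elim i 0, AlgHom.comp_apply, IsScalarTower.coe_toAlgHom', he, hg]
        rfl
      refine hH₁.hom_ext (fun i => ?_) hx
      rw [hx]
      exact fun hu => hH₁.mem i ((isUnit_map_iff (algebraMap H₁ T) _).1 hu)
    let g' : H →ₐ[H₁] T := { g.toRingHom with commutes' := fun z => AlgHom.congr_fun hcomm z }
    refine ⟨g', fun i => hg i.succ, fun g₂ hg₂ => AlgHom.ext fun z => ?_⟩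
    refine AlgHom.congr_fun (φ₁ := g₂.restrictScalars A) (φ₂ := g) (hH.hom_ext (fun i => ?_) fun i => ?_) z
    · refine Fin.cases ?_ (fun i => ?_) i
      · show g₂ (x 0) ∈ _
        rw [← he, g₂.commutes]
        exact ht' 0
      · show g₂ (x i.succ) ∈ _
        rw [hg₂]
        exact ht i
    · refine Fin.cases ?_ (fun i => ?_) i
      · show g₂ (x 0) = g (x 0)
        rw [← he, g₂.commutes, he, hg]
        rfl
      · show g₂ (x i.succ) = g (x i.succ)
        rw [hg₂, hg]
        rfl
  · obtain ⟨g, d, P, ζ, h1, h2, h3, h4⟩ := hH.rep h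
    let e : MvPolynomial (Fin (n + 1)) A →ₐ[A] MvPolynomial (Fin n) H₁ :=
      MvPolynomial.aeval (Fin.cases (MvPolynomial.C (y 0)) MvPolynomial.X)
    have hcomp : (MvPolynomial.aeval (R := H₁) fun i : Fin n => x i.succ).toRingHom.comp e.toRingHom =
        (MvPolynomial.aeval (R := A) x).toRingHom := by
      refine MvPolynomial.ringHom_ext (fun a => ?_) fun i => ?_
      · simp [e, ← IsScalarTower.algebraMap_apply A H₁ H]
      · refine Fin.cases ?_ (fun i => ?_) i <;> simp [e, he]
    refine ⟨g.map e.toRingHom, d.map e.toRingHom, P.map e.toRingHom, ζ, ?_, ?_, ?_, ?_⟩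
    · rw [Polynomial.eval₂_map, hcomp]; exact h1
    · rw [Polynomial.derivative_map, Polynomial.eval₂_map, hcomp]; exact h2
    · rw [Polynomial.eval₂_map, hcomp]; exact h3
    · rw [Polynomial.eval₂_map, Polynomial.eval₂_map, hcomp]; exact h4

end Groth.L28.HensModel
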